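/-
Joint eigenspaces of a finite abelian group of operators: existence, independence and the lower bound
coming from a group of operators whose commutators are scalars.
-/
import Mathlib
import Cfsg.Agent.Lib.Rep.Heisenberg

set_option autoImplicit false

namespace Cfsg.Agent.EigenChar

variable {A : Type*} [AddCommGroup A] {V : Type*} [AddCommGroup V] [Module ℂ V]

/-- The vectors of W on which R acts by the character χ. -/
def eig (R : AddChar A (Module.End ℂ V)) (W : Submodule ℂ V) (χ : AddChar A ℂ) : Submodule ℂ V where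
  carrier := {y | y ∈ W ∧ ∀ a, R a y = χ a • y}
  add_mem' {x y} hx hy := ⟨W.add_mem hx.1 hy.1, fun a => by rw [map_add, hx.2, hy.2, smul_add]⟩
  zero_mem' := ⟨W.zero_mem, fun a => by rw [map_zero, smul_zero]⟩
  smul_mem' c y hy := ⟨W.smul_mem c hy.1, fun a => by rw [map_smul, hy.2, smul_comm]⟩

theorem mem_eig {R : AddChar A (Module.End ℂ V)} {W : Submodule ℂ V} {χ : AddChar A ℂ} {y : V} :
    y ∈ eig R W χ ↔ y ∈ W ∧ ∀ a, R a y = χ a • y := Iff.rfl

theorem eig_le {R : AddChar A (Module.End ℂ V)} {W : Submodule ℂ V} {χ : AddChar A ℂ} :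
    eig R W χ ≤ W := fun _ h => h.1

variable [Fintype A]

/-- The projection onto the eigenspace of χ, not normalised. -/
noncomputable def proj (R : AddChar A (Module.End ℂ V)) (χ : AddChar A ℂ) : Module.End ℂ V :=
  ∑ a, χ (-a) • R a

theorem proj_mem {R : AddChar A (Module.End ℂ V)} {W : Submodule ℂ V}
    (hW : ∀ a, ∀ y ∈ W, R a y ∈ W) (χ : AddChar A ℂ) {x : V} (hx : x ∈ W) :
    proj R χ x ∈ eig R W χ := by
  refine ⟨?_, fun b => ?_⟩
  · simp only [proj, LinearMap.sum_apply, LinearMap.smul_apply]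
    exact W.sum_mem fun a _ => W.smul_mem _ (hW a x hx)
  · simp only [proj, LinearMap.sum_apply, LinearMap.smul_apply, map_sum, map_smul, Finset.smul_sum,
      smul_smul, ← Module.End.mul_apply, ← AddChar.map_add_eq_mul]
    refine Fintype.sum_equiv (Equiv.addLeft b) _ _ fun a => ?_
    simp only [Equiv.coe_addLeft]
    rw [show b + -(b + a) = -a by abel]

theorem sum_proj (R : AddChar A (Module.End ℂ V)) :
    ∑ χ : AddChar A ℂ, proj R χ = (Fintype.card A : ℂ) • 1 := by
  classical
  simp only [proj]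
  rw [Finset.sum_comm, Finset.sum_eq_single (0 : A)]
  · simp [AddChar.map_zero_eq_one, Finset.card_univ, AddChar.card_eq, Nat.cast_smul_eq_nsmul]
  · intro a _ ha
    rw [← Finset.sum_smul, AddChar.sum_apply_eq_ite, if_neg (neg_ne_zero.2 ha), zero_smul]
  · exact fun h => absurd (Finset.mem_univ _) h

/-- If some element moves a vector of a stable subspace then a nontrivial character occurs there. -/
theorem exists_char {R : AddChar A (Module.End ℂ V)} {W : Submodule ℂ V}
    (hW : ∀ a, ∀ y ∈ W, R a y ∈ W) {x : V} (hx : x ∈ W) {b : A} (hb : R b x ≠ x) :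
    ∃ χ : AddChar A ℂ, (∃ a, χ a ≠ 1) ∧ eig R W χ ≠ ⊥ := by
  classical
  by_contra h
  push Not at h
  have htot := congrArg (fun T : Module.End ℂ V => T x) (sum_proj R)
  simp only [LinearMap.sum_apply, LinearMap.smul_apply, Module.End.one_apply] at htot
  have hfix : R b ((Fintype.card A : ℂ) • x) = (Fintype.card A : ℂ) • x := by
    rw [← htot, map_sum]
    refine Finset.sum_congr rfl fun χ _ => ?_
    have hm := proj_mem hW χ hx
    by_cases hχ : ∃ a, χ a ≠ 1
    · rw [h χ hχ, Submodule.mem_bot] at hm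
      rw [hm, map_zero]
    · push Not at hχ
      rw [hm.2, hχ, one_smul]
  rw [map_smul] at hfix
  exact hb (smul_right_injective V (Nat.cast_ne_zero.2 Fintype.card_ne_zero) hfix)

/-- Some character occurs in every non-zero stable subspace. -/
theorem exists_char' {R : AddChar A (Module.End ℂ V)} {W : Submodule ℂ V}
    (hW : ∀ a, ∀ y ∈ W, R a y ∈ W) (h0 : W ≠ ⊥) : ∃ χ : AddChar A ℂ, eig R W χ ≠ ⊥ := by
  obtain ⟨x, hx, hx0⟩ := W.ne_bot_iff.1 h0
  by_cases h : ∃ b, R b x ≠ x
  · obtain ⟨b, hb⟩ := h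
    obtain ⟨χ, -, hχ⟩ := exists_char hW hx hb
    exact ⟨χ, hχ⟩
  · push Not at h
    refine ⟨1, (Submodule.ne_bot_iff _).2 ⟨x, ⟨hx, fun a => ?_⟩, hx0⟩⟩
    rw [h a, AddChar.one_apply, one_smul]

theorem proj_eig [DecidableEq (AddChar A ℂ)] {R : AddChar A (Module.End ℂ V)} {W : Submodule ℂ V}
    {χ χ' : AddChar A ℂ} {y : V} (hy : y ∈ eig R W χ') :
    proj R χ y = if χ' = χ then (Fintype.card A : ℂ) • y else 0 := by
  classical
  simp only [proj, LinearMap.sum_apply, LinearMap.smul_apply, hy.2, smul_smul, ← Finset.sum_smul]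
  have e : ∀ a, χ (-a) * χ' a = (χ' / χ) a := fun a => by rw [AddChar.div_apply', AddChar.map_neg_eq_inv]; ring
  split_ifs with h
  · subst h
    congr 1
    rw [Finset.sum_congr rfl fun a _ => show χ' (-a) * χ' a = 1 by
      rw [← AddChar.map_add_eq_mul, neg_add_cancel, AddChar.map_zero_eq_one], Finset.sum_const,
      Finset.card_univ, nsmul_eq_mul, mul_one]
  · rw [Finset.sum_congr rfl fun a _ => e a, AddChar.sum_eq_zero_of_ne_one (div_ne_one.2 h), zero_smul]

/-- Eigenspaces of distinct characters are independent. -/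
theorem sum_finrank_le {R : AddChar A (Module.End ℂ V)} {W : Submodule ℂ V} [FiniteDimensional ℂ V]
    (hW : ∀ a, ∀ y ∈ W, R a y ∈ W) (S : Finset (AddChar A ℂ)) :
    ∑ χ ∈ S, Module.finrank ℂ (eig R W χ) ≤ Module.finrank ℂ W := by
  classical
  let Φ : W →ₗ[ℂ] ((χ : S) → eig R W χ.1) :=
    LinearMap.pi fun χ => ((proj R χ.1).comp W.subtype).codRestrict _ fun x => proj_mem hW χ.1 x.2
  have hΦ : Function.Surjective Φ := by
    intro y
    refine ⟨(Fintype.card A : ℂ)⁻¹ • ∑ χ : S, ⟨(y χ).1, (y χ).2.1⟩, ?_⟩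
    funext χ
    refine Subtype.ext ?_
    show proj R χ.1 _ = _
    rw [Submodule.coe_subtype, Submodule.coe_smul, map_smul, Submodule.coe_sum, map_sum,
      Finset.sum_eq_single χ]
    · rw [proj_eig (y χ).2, if_pos rfl, smul_smul,
        inv_mul_cancel₀ (Nat.cast_ne_zero.2 Fintype.card_ne_zero), one_smul]
    · intro χ' _ hne
      rw [proj_eig (y χ').2, if_neg fun h => hne (Subtype.ext h)]
    · exact fun h => absurd (Finset.mem_univ _) h
  have h := (LinearMap.finrank_range_of_inj (f := LinearMap.id (R := ℂ) (M := W)) fun _ _ h => h)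
  have h2 := LinearMap.finrank_range_add_finrank_ker Φ
  rw [LinearMap.range_eq_top.2 hΦ, finrank_top, Module.finrank_pi_fintype] at h2
  rw [← Finset.sum_coe_sort]
  omega

/-- Operators commuting up to separating scalars make a space large. -/
theorem sq_card_le {G : Type*} [Group G] (ρ : G →* Module.End ℂ V) [FiniteDimensional ℂ V]
    (E : Submodule ℂ V) (hE : E ≠ ⊥) {Y : Type*} [AddCommGroup Y] [Fintype Y] (g : Y → G)
    (hg : ∀ y, ∀ x ∈ E, ρ (g y) x ∈ E) (hg' : ∀ y, ∀ x ∈ E, ρ (g y)⁻¹ x ∈ E)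
    (β : Y → AddChar Y ℂ) (hβ : Function.Injective β)
    (hcomm : ∀ u w, ∀ x ∈ E, ρ (g u * g w) x = β w u • ρ (g w * g u) x) :
    Fintype.card Y ≤ Module.finrank ℂ E * Module.finrank ℂ E := by
  let Gp : Y → Module.End ℂ E := fun y => (ρ (g y)).restrict (hg y)
  let Gn : Y → Module.End ℂ E := fun y => (ρ (g y)⁻¹).restrict (hg' y)
  let Φ : Multiplicative Y → Module.End ℂ E →ₗ[ℂ] Module.End ℂ E := fun p =>
    { toFun := fun T => Gp p.toAdd * T * Gn p.toAdd
      map_add' := fun S T => by rw [mul_add, add_mul]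
      map_smul' := fun c T => by rw [RingHom.id_apply, mul_smul_comm, smul_mul_assoc] }
  let c : Y → Multiplicative Y →* ℂ := fun w => (β w).toMonoidHom
  have hc : Function.Injective c := fun w w' h => hβ (by
    ext u
    exact congrArg (fun φ : Multiplicative Y →* ℂ => φ (Multiplicative.ofAdd u)) h)
  have hX : ∀ w, Gp w ≠ 0 := fun w h => by
    obtain ⟨x, hx, hx0⟩ := E.ne_bot_iff.1 hE
    have h1 : ρ (g w) x = 0 := congrArg Subtype.val (LinearMap.congr_fun h ⟨x, hx⟩)
    have h2 := congrArg (ρ (g w)⁻¹) h1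
    rw [map_zero, ← Module.End.mul_apply, ← map_mul, inv_mul_cancel, map_one, Module.End.one_apply] at h2
    exact hx0 h2
  have hli := Cfsg.Agent.Heisenberg.linearIndependent_eigen Φ c hc Gp hX fun p w => by
    refine LinearMap.ext fun x => Subtype.ext ?_
    show ρ (g p.toAdd) (ρ (g w) (ρ (g p.toAdd)⁻¹ x.1)) = β w p.toAdd • ρ (g w) x.1
    rw [← Module.End.mul_apply, ← map_mul, hcomm _ _ _ (hg' _ _ x.2), map_mul ρ, Module.End.mul_apply,
      ← Module.End.mul_apply (ρ (g p.toAdd)) (ρ (g p.toAdd)⁻¹), ← map_mul, mul_inv_cancel, map_one,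
      Module.End.one_apply]
  exact hli.fintype_card_le_finrank.trans_eq (Module.finrank_linearMap ℂ ℂ E E)

end Cfsg.Agent.EigenChar
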