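/-
The orbit of the general linear group on a quadratic form in characteristic two with non-zero polar form
has at least (q^n - 1)(q^n - q) / (2 (q + 1)) elements.
-/
import Mathlib

set_option autoImplicit false

namespace Cfsg.Agent.QuadOrbit

open Finset

variable {F V : Type*} [Field F] [AddCommGroup V] [Module F V] [CharP F 2]

/-- A quadratic function with polar form B. -/
structure IsQuad (Q : V → F) (B : V →ₗ[F] V →ₗ[F] F) : Prop where
  smul : ∀ (a : F) v, Q (a • v) = a * a * Q v
  add : ∀ v w, Q (v + w) = Q v + Q w + B v w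
  alt : ∀ v, B v v = 0

/-- The polar form of a function. -/
def pol (T : V → F) (v w : V) : F := T (v + w) + T v + T w

variable {Q : V → F} {B : V →ₗ[F] V →ₗ[F] F}

theorem pol_comp (hQ : IsQuad Q B) (g : V →ₗ[F] V) (v w : V) : pol (Q ∘ g) v w = B (g v) (g w) := by
  simp only [pol, Function.comp, map_add, hQ.add]
  linear_combination (Q (g v) + Q (g w)) * (CharTwo.two_eq_zero (R := F))

theorem symm (hQ : IsQuad Q B) (v w : V) : B v w = B w v := by
  have h := hQ.alt (v + w)
  simp only [map_add, LinearMap.add_apply, hQ.alt, zero_add, add_zero] at h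
  exact CharTwo.add_eq_zero.1 (by rw [add_comm]; exact h)

/-- An involution x ↦ x + p(x) e + r(x) f. -/
def shear (e f : V) (p r : Module.Dual F V) (hpe : p e = 0) (hpf : p f = 0) (hre : r e = 0) (hrf : r f = 0) :
    V ≃ₗ[F] V :=
  LinearEquiv.ofInvolutive (LinearMap.id + p.smulRight e + r.smulRight f) fun x => by
    simp only [LinearMap.add_apply, LinearMap.id_apply, LinearMap.smulRight_apply, map_add, map_smul, hpe, hpf,
      hre, hrf, smul_zero, zero_smul, add_zero]
    match_scalars
    · ring
    · linear_combination p x * (CharTwo.two_eq_zero (R := F))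
    · linear_combination r x * (CharTwo.two_eq_zero (R := F))

theorem shear_apply (e f : V) (p r : Module.Dual F V) (hpe : p e = 0) (hpf : p f = 0) (hre : r e = 0)
    (hrf : r f = 0) (x : V) : shear e f p r hpe hpf hre hrf x = x + p x • e + r x • f := rfl

/-- The transvection x ↦ x + a B(x,w) w preserving B. -/
def transv (hQ : IsQuad Q B) (w : V) (a : F) : V ≃ₗ[F] V :=
  LinearEquiv.ofInvolutive (LinearMap.id + (a • B.flip w).smulRight w) fun x => by
    simp only [LinearMap.add_apply, LinearMap.id_apply, LinearMap.smulRight_apply, LinearMap.smul_apply,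
      LinearMap.flip_apply, map_add, map_smul, hQ.alt, smul_eq_mul, mul_zero, zero_smul, add_zero, smul_zero]
    match_scalars
    · ring
    · linear_combination (a * B x w) * (CharTwo.two_eq_zero (R := F))

theorem transv_apply (hQ : IsQuad Q B) (w : V) (a : F) (x : V) :
    transv hQ w a x = x + (a * B x w) • w := rfl

theorem transv_B (hQ : IsQuad Q B) (w : V) (a : F) (x y : V) :
    B (transv hQ w a x) (transv hQ w a y) = B x y := by
  simp only [transv_apply, map_add, map_smul, LinearMap.add_apply, LinearMap.smul_apply, smul_eq_mul, hQ.alt,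
    symm hQ w y, mul_zero, add_zero]
  linear_combination (a * B x w * B y w) * (CharTwo.two_eq_zero (R := F))

theorem transv_Q (hQ : IsQuad Q B) (w : V) (a : F) (x : V) :
    Q (transv hQ w a x) = Q x + (a + a * a * Q w) * (B x w * B x w) := by
  rw [transv_apply, hQ.add, hQ.smul, map_smul, smul_eq_mul]
  ring

variable [Fintype F] [Fintype V] [DecidableEq V] [DecidableEq F]

omit [CharP F 2] [Fintype F] [DecidableEq V] [DecidableEq F] in
theorem finite_equiv : Finite (V ≃ₗ[F] V) := Finite.of_injective _ DFunLike.coe_injective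

/-- The values taken along the isometries of B. -/
noncomputable def Good (Q : V → F) (B : V →ₗ[F] V →ₗ[F] F) : Finset (V → F) :=
  haveI := finite_equiv (F := F) (V := V)
  letI : Fintype (V ≃ₗ[F] V) := Fintype.ofFinite _
  ((univ : Finset (V ≃ₗ[F] V)).filter fun h => ∀ x y, B (h x) (h y) = B x y).image fun h : V ≃ₗ[F] V => Q ∘ ⇑h

/-- The orbit of Q. -/
noncomputable def orbit (Q : V → F) : Finset (V → F) :=
  haveI := finite_equiv (F := F) (V := V)
  letI : Fintype (V ≃ₗ[F] V) := Fintype.ofFinite _
  (univ : Finset (V ≃ₗ[F] V)).image fun g : V ≃ₗ[F] V => Q ∘ ⇑g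

theorem mem_orbit {T : V → F} : T ∈ orbit (F := F) Q ↔ ∃ g : V ≃ₗ[F] V, Q ∘ g = T := by
  simp [orbit]

theorem mem_good {T : V → F} : T ∈ Good Q B ↔ ∃ h : V ≃ₗ[F] V, (∀ x y, B (h x) (h y) = B x y) ∧ Q ∘ h = T := by
  simp [Good]

theorem shift_mem_good (hQ : IsQuad Q B) {w : V} {a : F} (ha : a + a * a * Q w = 1) :
    (fun x => Q x + B x w * B x w) ∈ Good Q B :=
  mem_good.2 ⟨transv hQ w a, transv_B hQ w a, funext fun x => by
    show Q (transv hQ w a x) = _
    rw [transv_Q hQ w a x, ha, one_mul]⟩

theorem shift_injective {w w' : V}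
    (h : (fun x => Q x + B x w * B x w) = fun x => Q x + B x w' * B x w') (x : V) : B x w = B x w' := by
  have h1 := add_left_cancel (congrFun h x)
  exact frobenius_inj F 2 (by rw [frobenius_def, frobenius_def, sq, sq, h1])

variable {e f : V}

/-- The shifts coming from the hyperbolic pair. -/
theorem exists_plane_good (hQ : IsQuad Q B) (hef : B e f = 1) :
    ∃ S ⊆ Good Q B, Fintype.card F * (Fintype.card F - 1) ≤ 2 * S.card ∧
      ∀ T ∈ S, ∃ w ∈ Submodule.span F ({e, f} : Set V), T = fun x => Q x + B x w * B x w := by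
  obtain ⟨s, hs⟩ := FiniteField.isSquare_of_char_two (F := F) (ringChar.eq F 2) (Q f)
  let P := ((univ : Finset F).erase s) ×ˢ (univ : Finset F)
  let yv : F × F → F := fun p => (p.2 * p.2 + p.2 + p.1 * p.1 * Q e) / (p.1 + s)
  let wv : F × F → V := fun p => p.1 • e + yv p • f
  refine ⟨P.image fun p x => Q x + B x (wv p) * B x (wv p), ?_, ?_, ?_⟩
  · intro T hT
    obtain ⟨p, hp, rfl⟩ := mem_image.1 hT
    have hx : p.1 + s ≠ 0 := fun h => (mem_erase.1 (mem_product.1 hp).1).1 (CharTwo.add_eq_zero.1 h)
    have hw : Q (wv p) = (p.2 + s * yv p) * (p.2 + s * yv p) + (p.2 + s * yv p) := by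
      have hy : yv p * (p.1 + s) = p.2 * p.2 + p.2 + p.1 * p.1 * Q e := div_mul_cancel₀ _ hx
      simp only [wv, hQ.add, hQ.smul, map_smul, LinearMap.smul_apply, smul_eq_mul, hef, hs]
      linear_combination hy + (p.1 * p.1 * Q e - s * yv p - p.2 * s * yv p) * (CharTwo.two_eq_zero (R := F))
    -- a root of a + a² Q(w) = 1
    rcases eq_or_ne (Q (wv p)) 0 with h0 | h0
    · exact shift_mem_good hQ (a := 1) (by rw [h0]; ring)
    · refine shift_mem_good hQ (a := (p.2 + s * yv p) / Q (wv p)) ?_
      generalize p.2 + s * yv p = u at hw ⊢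
      field_simp
      linear_combination -hw
  · have hcard := card_le_mul_card_image (f := fun p x => Q x + B x (wv p) * B x (wv p)) P 2 fun T hT => by
      obtain ⟨p, hp, rfl⟩ := mem_image.1 hT
      refine le_trans (card_le_card (t := {p, (p.1, p.2 + 1)}) fun p' hp' => ?_) card_le_two
      rw [mem_filter] at hp'
      have hB := shift_injective hp'.2
      have h1 : p'.1 = p.1 := by
        have := hB f
        simpa [wv, map_add, map_smul, hQ.alt, symm hQ f e, hef] using this
      have hx : p.1 + s ≠ 0 := fun h => (mem_erase.1 (mem_product.1 hp).1).1 (CharTwo.add_eq_zero.1 h)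
      have h2 : yv p' = yv p := by
        have := hB e
        simpa [wv, map_add, map_smul, hQ.alt, hef] using this
      simp only [yv, h1] at h2
      have h3 := (div_left_inj' hx).1 h2
      have h4 : (p'.2 + p.2) * (p'.2 + p.2 + 1) = 0 := by
        linear_combination h3 + (p'.2 * p.2 + p.2 * p.2 + p.2) * (CharTwo.two_eq_zero (R := F))
      rw [mem_insert, mem_singleton]
      rcases mul_eq_zero.1 h4 with h | h
      · exact Or.inl (Prod.ext h1 (CharTwo.add_eq_zero.1 h))
      · exact Or.inr (Prod.ext h1 (CharTwo.add_eq_zero.1 (by rw [← add_assoc]; exact h)))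
    simp only [P, card_product, card_erase_of_mem (mem_univ _), card_univ] at hcard ⊢
    rw [mul_comm]
    exact hcard
  · intro T hT
    obtain ⟨p, -, rfl⟩ := mem_image.1 hT
    exact ⟨wv p, Submodule.add_mem _ (Submodule.smul_mem _ _ (Submodule.subset_span (Or.inl rfl)))
      (Submodule.smul_mem _ _ (Submodule.subset_span (Or.inr rfl))), rfl⟩

/-- A further shift when the polar form has rank above two. -/
theorem exists_extra_good (hQ : IsQuad Q B) (hef : B e f = 1) {z z' : V} (hze : B e z = 0) (hzf : B f z = 0)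
    (hz'e : B e z' = 0) (hz'f : B f z' = 0) (hzz : B z' z ≠ 0) :
    ∃ T ∈ Good Q B, ∀ w ∈ Submodule.span F ({e, f} : Set V), T ≠ fun x => Q x + B x w * B x w := by
  obtain ⟨w, hw, hwz⟩ : ∃ w, Q w = 0 ∧ B z' w ≠ 0 := by
    rcases eq_or_ne (Q z) 0 with h0 | h0
    · exact ⟨z, h0, hzz⟩
    obtain ⟨x, hx, hxz, hxz'⟩ : ∃ x, Q x ≠ 0 ∧ B x z = 0 ∧ B z' x = 0 := by
      by_cases he : Q e ≠ 0
      · exact ⟨e, he, hze, by rw [symm hQ, hz'e]⟩
      by_cases hf : Q f ≠ 0
      · exact ⟨f, hf, hzf, by rw [symm hQ, hz'f]⟩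
      push Not at he hf
      refine ⟨e + f, ?_, ?_, ?_⟩
      · rw [hQ.add, he, hf, hef, zero_add, zero_add]; exact one_ne_zero
      · rw [map_add, LinearMap.add_apply, hze, hzf, add_zero]
      · rw [map_add, symm hQ z' e, symm hQ z' f, hz'e, hz'f, add_zero]
    obtain ⟨c, hc⟩ := FiniteField.isSquare_of_char_two (F := F) (ringChar.eq F 2) (Q x / Q z)
    have hc0 : c ≠ 0 := fun h => div_ne_zero hx h0 (by rw [hc, h, mul_zero])
    refine ⟨x + c • z, ?_, ?_⟩
    · rw [hQ.add, hQ.smul, ← hc, div_mul_cancel₀ _ h0, map_smul, hxz, smul_zero, add_zero,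
        CharTwo.add_self_eq_zero]
    · rw [map_add, map_smul, hxz', zero_add, smul_eq_mul]
      exact mul_ne_zero hc0 hzz
  refine ⟨_, shift_mem_good hQ (a := 1) (by rw [hw]; ring) (w := w), fun v hv h => hwz ?_⟩
  obtain ⟨a, b, rfl⟩ := Submodule.mem_span_pair.1 hv
  rw [shift_injective h z', map_add, map_smul, map_smul, symm hQ z' e, symm hQ z' f, hz'e, hz'f, smul_zero,
    smul_zero, add_zero]

variable [FiniteDimensional F V]

omit [DecidableEq V] [DecidableEq F] in
theorem le_card_ker_pair (φ : V →ₗ[F] F × F) :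
    Fintype.card F ^ Module.finrank F V ≤ Fintype.card F ^ 2 * Nat.card (LinearMap.ker φ) := by
  classical
  rw [Nat.card_eq_fintype_card, Module.card_eq_pow_finrank (K := F) (V := LinearMap.ker φ), ← pow_add]
  refine Nat.pow_le_pow_right Fintype.card_pos ?_
  have h := LinearMap.finrank_range_add_finrank_ker φ
  have h2 := Submodule.finrank_le (LinearMap.range φ)
  rw [Module.finrank_prod, Module.finrank_self] at h2
  omega

/-- Many forms in the orbit share a hyperbolic pair. -/
theorem le_card_fibre (hQ : IsQuad Q B) (hef : B e f = 1) :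
    (Good Q B).card * (Fintype.card F ^ Module.finrank F V) * (Fintype.card F ^ Module.finrank F V) ≤
      Fintype.card F ^ 4 * ((orbit (F := F) Q).filter fun T => pol T e f = 1).card := by
  classical
  let φ : Module.Dual F V →ₗ[F] F × F := (LinearMap.applyₗ e).prod (LinearMap.applyₗ f)
  have : Finite (Module.Dual F V) := Finite.of_injective _ DFunLike.coe_injective
  have : Fintype (Module.Dual F V) := Fintype.ofFinite _
  have h1 : Fintype.card F ^ Module.finrank F V ≤ Fintype.card F ^ 2 * Nat.card (LinearMap.ker φ) := by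
    have := le_card_ker_pair φ
    rwa [Subspace.dual_finrank_eq] at this
  set X := Nat.card (LinearMap.ker φ) with hX
  have hker : ∀ p : LinearMap.ker φ, (p : Module.Dual F V) e = 0 ∧ (p : Module.Dual F V) f = 0 :=
    fun p => Prod.ext_iff.1 (LinearMap.mem_ker.1 p.2)
  have h2 : (Good Q B).card * X * X ≤ ((orbit (F := F) Q).filter fun T => pol T e f = 1).card := by
    let G := (Good Q B) ×ˢ ((univ : Finset (LinearMap.ker φ)) ×ˢ (univ : Finset (LinearMap.ker φ)))
    have hG : G.card = (Good Q B).card * X * X := by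
      simp [G, hX, Nat.card_eq_fintype_card, mul_assoc]
    rw [← hG]
    let sh : LinearMap.ker φ → LinearMap.ker φ → V ≃ₗ[F] V := fun p r =>
      shear e f p.1 r.1 (hker p).1 (hker p).2 (hker r).1 (hker r).2
    refine card_le_card_of_injOn (fun t => t.1 ∘ sh t.2.1 t.2.2) (fun t ht => ?_) ?_
    · obtain ⟨h, hh, ht'⟩ := mem_good.1 (mem_product.1 (mem_coe.1 ht)).1
      rw [mem_coe, mem_filter]
      simp only [← ht']
      refine ⟨mem_orbit.2 ⟨(sh t.2.1 t.2.2).trans h, rfl⟩, ?_⟩
      rw [show (Q ∘ h) ∘ sh t.2.1 t.2.2 =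
        Q ∘ (((sh t.2.1 t.2.2).trans h : V ≃ₗ[F] V) : V →ₗ[F] V) from rfl, pol_comp hQ]
      simp only [LinearEquiv.coe_coe, LinearEquiv.trans_apply, hh, sh, shear_apply, (hker _).1, (hker _).2,
        zero_smul, add_zero, hef]
    · rintro ⟨T, p, r⟩ ht ⟨T', p', r'⟩ ht' heq
      obtain ⟨h, hh, rfl⟩ := mem_good.1 (mem_product.1 (mem_coe.1 ht)).1
      obtain ⟨h', hh', rfl⟩ := mem_good.1 (mem_product.1 (mem_coe.1 ht')).1
      simp only at heq
      have key : ∀ x y, B (sh p r x) (sh p r y) = B (sh p' r' x) (sh p' r' y) := fun x y => by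
        have h0 : pol (Q ∘ (((sh p r).trans h : V ≃ₗ[F] V) : V →ₗ[F] V)) x y =
            pol (Q ∘ (((sh p' r').trans h' : V ≃ₗ[F] V) : V →ₗ[F] V)) x y := congrArg (fun T => pol T x y) heq
        rw [pol_comp hQ, pol_comp hQ] at h0
        simpa [hh, hh'] using h0
      have hr : r = r' := Subtype.ext (LinearMap.ext fun y => by
        have := key e y
        simp only [sh, shear_apply, (hker _).1, zero_smul, add_zero, map_add, map_smul, hQ.alt, hef,
          smul_eq_mul, mul_zero, mul_one, add_zero] at this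
        exact add_left_cancel this)
      have hp : p = p' := Subtype.ext (LinearMap.ext fun y => by
        have := key f y
        simp only [sh, shear_apply, (hker _).2, zero_smul, add_zero, map_add, map_smul, hQ.alt,
          symm hQ f e, hef, smul_eq_mul, mul_zero, mul_one, add_zero] at this
        exact add_left_cancel this)
      subst hp hr
      refine Prod.ext (funext fun x => ?_) rfl
      have := congrFun heq ((sh p r).symm x)
      simpa using this
  calc (Good Q B).card * (Fintype.card F ^ Module.finrank F V) * (Fintype.card F ^ Module.finrank F V)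
      ≤ (Good Q B).card * (Fintype.card F ^ 2 * X) * (Fintype.card F ^ 2 * X) := by gcongr
    _ = Fintype.card F ^ 4 * ((Good Q B).card * X * X) := by ring
    _ ≤ _ := Nat.mul_le_mul_left _ h2

omit [CharP F 2] in
/-- The pairs with product one. -/
theorem card_pairs [DecidablePred fun v => B v = 0] :
    ((univ : Finset (V × V)).filter fun x => B x.1 x.2 = 1).card * Fintype.card F =
      (Fintype.card V - (univ.filter fun v => B v = 0).card) * Fintype.card V := by
  classical
  rw [card_eq_sum_ones, sum_filter, Fintype.sum_prod_type, sum_mul]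
  have key : ∀ v, (∑ w, if B v w = 1 then 1 else 0) * Fintype.card F =
      if B v = 0 then 0 else Fintype.card V := by
    intro v
    split_ifs with hv
    · simp [hv]
    · obtain ⟨w₀, hw₀⟩ := DFunLike.ne_iff.1 hv
      have hfib : ∀ c, (univ.filter fun w => B v w = c).card = (univ.filter fun w => B v w = 1).card := by
        intro c
        refine card_equiv (Equiv.addRight (((1 - c) / B v w₀) • w₀)) fun w => ?_
        simp only [mem_filter, mem_univ, true_and, Equiv.coe_addRight, map_add, map_smul, smul_eq_mul,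
          div_mul_cancel₀ _ hw₀]
        constructor <;> intro h <;> linear_combination h
      have h := card_eq_sum_card_fiberwise (f := fun w => B v w) (s := (univ : Finset V))
        (t := univ) (by simp)
      simp only [hfib, sum_const, card_univ, smul_eq_mul] at h
      rw [sum_boole, Nat.cast_id, h, mul_comm]
  simp only [key]
  rw [sum_ite, sum_const_zero, zero_add, sum_const, smul_eq_mul, filter_not, card_sdiff_of_subset (filter_subset _ _),
    card_univ]

omit [CharP F 2] [DecidableEq F] in
/-- Two independent pairs differ by a linear automorphism. -/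
theorem exists_map_pair {a b : V} (hab : LinearIndependent F ![a, b]) {v w : V}
    (hvw : LinearIndependent F ![v, w]) : ∃ h : V ≃ₗ[F] V, h v = a ∧ h w = b := by
  let φ := hvw.linearCombinationEquiv.symm ≪≫ₗ hab.linearCombinationEquiv
  obtain ⟨L, hL⟩ := Submodule.exists_linearEquiv_restrict_eq φ
  refine ⟨L, ?_, ?_⟩
  · have := hL (hvw.linearCombinationEquiv (Finsupp.single 0 1))
    simp [φ] at this
    exact this.symm
  · have := hL (hvw.linearCombinationEquiv (Finsupp.single 1 1))
    simp [φ] at this
    exact this.symm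

/-- The orbit bound. -/
theorem le_card_orbit (hQ : IsQuad Q B) (hB : B ≠ 0) :
    (Fintype.card F ^ Module.finrank F V - 1) * (Fintype.card F ^ Module.finrank F V - Fintype.card F) ≤
      2 * (Fintype.card F + 1) * (orbit (F := F) Q).card := by
  classical
  set q := Fintype.card F with hq
  set n := Module.finrank F V with hn
  have hq2 : 2 ≤ q := Fintype.one_lt_card
  have hV : Fintype.card V = q ^ n := Module.card_eq_pow_finrank
  obtain ⟨e, f, hef⟩ : ∃ e f, B e f = 1 := by
    obtain ⟨e, he⟩ := DFunLike.ne_iff.1 hB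
    obtain ⟨f, hf⟩ := DFunLike.ne_iff.1 he
    exact ⟨e, (B e f)⁻¹ • f, by rw [map_smul, smul_eq_mul, inv_mul_cancel₀ hf]⟩
  have hli : LinearIndependent F ![e, f] := by
    rw [LinearIndependent.pair_iff]
    intro s t hst
    constructor
    · have := congrArg (fun x => B x f) hst
      simpa [hQ.alt, hef] using this
    · have := congrArg (fun x => B e x) hst
      simpa [hQ.alt, hef] using this
  set O := orbit (F := F) Q with hO
  set P := ((univ : Finset (V × V)).filter fun x => B x.1 x.2 = 1).card with hP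
  set r := (O.filter fun T => pol T e f = 1).card with hr
  -- double counting
  have hdc : (q ^ n - 1) * (q ^ n - q) * r ≤ O.card * P := by
    have hL : (q ^ n - 1) * (q ^ n - q) ≤ ((univ : Finset (V × V)).filter fun x =>
        LinearIndependent F ![x.1, x.2]).card := by
      rw [card_eq_sum_ones, sum_filter, Fintype.sum_prod_type]
      have h1 : ∀ v : V, v ≠ 0 → q ^ n - q ≤ ∑ w : V, if LinearIndependent F ![v, w] then 1 else 0 := by
        intro v hv
        rw [sum_boole, Nat.cast_id]
        have hsub : (univ : Finset V) \ ((univ : Finset F).image fun a => a • v) ⊆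
            univ.filter fun w => LinearIndependent F ![v, w] := fun w hw => by
          rw [mem_filter]
          exact ⟨mem_univ _, (LinearIndependent.pair_iff' hv).2 fun a ha =>
            (mem_sdiff.1 hw).2 (mem_image.2 ⟨a, mem_univ _, ha⟩)⟩
        refine le_trans ?_ (card_le_card hsub)
        rw [card_sdiff_of_subset (subset_univ _), card_univ, hV]
        exact Nat.sub_le_sub_left (card_image_le.trans_eq card_univ) _
      refine le_trans ?_ (sum_le_sum_of_subset (subset_univ ((univ : Finset V).erase 0)))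
      refine le_trans ?_ (card_nsmul_le_sum _ _ _ fun v hv => h1 v (ne_of_mem_erase hv))
      rw [card_erase_of_mem (mem_univ _), card_univ, hV, smul_eq_mul]
    have h2 : ∀ T ∈ O, ((univ : Finset (V × V)).filter fun x =>
        LinearIndependent F ![x.1, x.2] ∧ pol T x.1 x.2 = 1).card ≤ P := by
      intro T hT
      obtain ⟨g, rfl⟩ := mem_orbit.1 hT
      refine card_le_card_of_injOn (fun x => (g x.1, g x.2)) (fun x hx => ?_)
        (fun x _ y _ h => Prod.ext (g.injective (congrArg Prod.fst h)) (g.injective (congrArg Prod.snd h)))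
      simp only [mem_coe, mem_filter, mem_univ, true_and] at hx ⊢
      rw [← hx.2, show Q ∘ g = Q ∘ (g : V →ₗ[F] V) from rfl, pol_comp hQ]
      rfl
    have h3 : ∀ x ∈ (univ : Finset (V × V)).filter (fun x => LinearIndependent F ![x.1, x.2]),
        r ≤ (O.filter fun T => pol T x.1 x.2 = 1).card := by
      intro x hx
      obtain ⟨h, hv, hw⟩ := exists_map_pair hli (mem_filter.1 hx).2
      refine card_le_card_of_injOn (fun T => T ∘ h) (fun T hT => ?_) (fun T _ T' _ hTT => funext fun y => by
        simpa using congrFun hTT (h.symm y))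
      obtain ⟨hT, hT'⟩ := mem_filter.1 (mem_coe.1 hT)
      obtain ⟨g, rfl⟩ := mem_orbit.1 hT
      rw [mem_coe, mem_filter]
      refine ⟨mem_orbit.2 ⟨h.trans g, rfl⟩, ?_⟩
      rw [← hT', pol, pol]
      simp only [Function.comp, map_add, hv, hw]
    calc (q ^ n - 1) * (q ^ n - q) * r ≤ ((univ : Finset (V × V)).filter fun x =>
          LinearIndependent F ![x.1, x.2]).card * r := Nat.mul_le_mul_right _ hL
      _ ≤ ∑ x ∈ (univ : Finset (V × V)).filter (fun x => LinearIndependent F ![x.1, x.2]),
          (O.filter fun T => pol T x.1 x.2 = 1).card := by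
        rw [← smul_eq_mul]; exact card_nsmul_le_sum _ _ _ h3
      _ = ∑ T ∈ O, ((univ : Finset (V × V)).filter fun x =>
          LinearIndependent F ![x.1, x.2] ∧ pol T x.1 x.2 = 1).card := by
        simp only [card_eq_sum_ones, sum_filter, ite_and]
        rw [sum_comm]
        refine sum_congr rfl fun x _ => ?_
        split_ifs <;> simp
      _ ≤ O.card * P := by rw [← smul_eq_mul]; exact sum_le_card_nsmul _ _ _ h2
  have hfib := le_card_fibre hQ hef
  rw [← hq, ← hn, ← hO, ← hr] at hfib
  have hpairs := card_pairs (B := B)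
  rw [← hP, ← hq, hV] at hpairs
  set Z := (univ.filter fun v => B v = 0).card with hZ
  obtain ⟨S, hS, hScard, hSw⟩ := exists_plane_good hQ hef
  have hSG := card_le_card hS
  rw [← hq] at hScard
  -- put the inequalities together
  set X := (q ^ n - 1) * (q ^ n - q) with hX
  have hqn : 0 < q ^ n := pow_pos (by omega) _
  have main : X * (Good Q B).card * q ^ n * q ≤ O.card * q ^ 4 * (q ^ n - Z) := by
    refine Nat.le_of_mul_le_mul_right ?_ hqn
    calc X * (Good Q B).card * q ^ n * q * q ^ n = X * q * ((Good Q B).card * q ^ n * q ^ n) := by ring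
      _ ≤ X * q * (q ^ 4 * r) := Nat.mul_le_mul_left _ hfib
      _ = q ^ 5 * (X * r) := by ring
      _ ≤ q ^ 5 * (O.card * P) := Nat.mul_le_mul_left _ hdc
      _ = O.card * q ^ 4 * (P * q) := by ring
      _ = O.card * q ^ 4 * (q ^ n - Z) * q ^ n := by rw [hpairs]; ring
  by_cases hext : ∃ z z' : V, B e z = 0 ∧ B f z = 0 ∧ B e z' = 0 ∧ B f z' = 0 ∧ B z' z ≠ 0
  · obtain ⟨z, z', h1, h2, h3, h4, h5⟩ := hext
    obtain ⟨T, hT, hTne⟩ := exists_extra_good hQ hef h1 h2 h3 h4 h5
    have hTS : T ∉ S := fun h => by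
      obtain ⟨w, hw, hTw⟩ := hSw T h
      exact hTne w hw hTw
    have hK := card_le_card (insert_subset hT hS)
    rw [card_insert_of_notMem hTS] at hK
    have h6 : X * (Good Q B).card ≤ O.card * q ^ 3 := by
      refine Nat.le_of_mul_le_mul_right ?_ (Nat.mul_pos hqn (by omega : 0 < q))
      calc X * (Good Q B).card * (q ^ n * q) = X * (Good Q B).card * q ^ n * q := by ring
        _ ≤ O.card * q ^ 4 * (q ^ n - Z) := main
        _ ≤ O.card * q ^ 4 * q ^ n := Nat.mul_le_mul_left _ (Nat.sub_le _ _)
        _ = O.card * q ^ 3 * (q ^ n * q) := by ring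
    refine Nat.le_of_mul_le_mul_right ?_ (pow_pos (by omega : 0 < q) 3)
    have h7 : q * (q - 1) + 2 ≤ 2 * (Good Q B).card := by omega
    have h8 : q ^ 3 ≤ (q + 1) * (q * (q - 1) + 2) := by
      obtain ⟨t, ht⟩ : ∃ t, q = t + 1 := ⟨q - 1, by omega⟩
      rw [ht, Nat.add_sub_cancel]
      nlinarith
    calc X * q ^ 3 ≤ X * ((q + 1) * (2 * (Good Q B).card)) :=
          Nat.mul_le_mul_left _ (h8.trans (Nat.mul_le_mul_left _ h7))
      _ = 2 * (q + 1) * (X * (Good Q B).card) := by ring
      _ ≤ 2 * (q + 1) * (O.card * q ^ 3) := Nat.mul_le_mul_left _ h6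
      _ = _ := by ring
  · push Not at hext
    -- the radical has codimension two
    have hZ2 : q ^ n ≤ q ^ 2 * Z := by
      refine (le_card_ker_pair ((B e).prod (B f))).trans (Nat.mul_le_mul_left _ ?_)
      rw [Nat.card_eq_fintype_card, hZ, ← Fintype.card_subtype]
      refine Fintype.card_subtype_mono _ _ fun z hz => LinearMap.ext fun x => ?_
      have h1 : B e z = 0 := congrArg Prod.fst (LinearMap.mem_ker.1 hz)
      have h2 : B f z = 0 := congrArg Prod.snd (LinearMap.mem_ker.1 hz)
      have hdec : B e (x + B f x • e + B e x • f) = 0 ∧ B f (x + B f x • e + B e x • f) = 0 := by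
        simp only [map_add, map_smul, hQ.alt, hef, symm hQ f e, smul_eq_mul, mul_zero, mul_one, add_zero,
          CharTwo.add_self_eq_zero, and_self]
      have := hext (x + B f x • e + B e x • f) z hdec.1 hdec.2 h1 h2
      rw [map_add, map_add, map_smul, map_smul, symm hQ z e, symm hQ z f, h1, h2] at this
      simpa using this
    obtain ⟨t, ht⟩ : ∃ t, q = t + 1 := ⟨q - 1, by omega⟩
    have hZn : q ^ 2 * (q ^ n - Z) ≤ (q ^ 2 - 1) * q ^ n := by
      rw [Nat.mul_sub, Nat.sub_mul, one_mul]
      exact Nat.sub_le_sub_left hZ2 _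
    refine Nat.le_of_mul_le_mul_right ?_ (Nat.mul_pos (Nat.mul_pos hqn (pow_pos (by omega : 0 < q) 2))
      (Nat.mul_pos (pow_pos (by omega : 0 < q) 2) (by omega : 0 < q - 1)))
    calc X * (q ^ n * q ^ 2 * (q ^ 2 * (q - 1))) = X * q ^ n * q ^ 3 * (q * (q - 1)) := by ring
      _ ≤ X * q ^ n * q ^ 3 * (2 * (Good Q B).card) :=
        Nat.mul_le_mul_left _ (by omega)
      _ = 2 * q ^ 2 * (X * (Good Q B).card * q ^ n * q) := by ring
      _ ≤ 2 * q ^ 2 * (O.card * q ^ 4 * (q ^ n - Z)) := Nat.mul_le_mul_left _ main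
      _ = 2 * O.card * q ^ 4 * (q ^ 2 * (q ^ n - Z)) := by ring
      _ ≤ 2 * O.card * q ^ 4 * ((q ^ 2 - 1) * q ^ n) := Nat.mul_le_mul_left _ hZn
      _ = _ := by
        rw [show q ^ 2 - 1 = (q + 1) * (q - 1) by simpa using Nat.sq_sub_sq q 1]
        ring

end Cfsg.Agent.QuadOrbit
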