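/-
Complex representations of Sp_{2n}(q), q even: the Siegel radical has a character whose quadratic form
has non-zero polar form.
-/
import Cfsg.Agent.Lib.MinDegree.QuadOrbit
import Cfsg.Agent.Lib.MinDegree.EigenChar
import Cfsg.Agent.Lib.Rep.SpDegree
import Cfsg.Agent.Lib.Classical.Symplectic

set_option autoImplicit false

namespace Cfsg.Agent.SympEvenDeg

open Matrix Cfsg.Agent.SpDegree Cfsg.Agent.EigenChar Cfsg.Agent.QuadOrbit

variable {F : Type*} [Field F] [Fintype F] {n : ℕ}

theorem isSimpleGroup [CharP F 2] (hn : 2 ≤ n) (hex : n = 2 → 3 ≤ Nat.card F) :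
    IsSimpleGroup (symplecticGroup (Fin n) F) := by
  haveI := ClassicalSp.isSimpleGroup_psp (m := n) (F := F) hn hex
  have h1 : Subgroup.center (symplecticGroup (Fin n) F) = ⊥ := by
    refine Subgroup.card_eq_one.1 ?_
    rw [ClassicalSp.card_center_sp (by omega)]
    have := FiniteField.even_card_of_char_two (F := F) (ringChar.eq F 2)
    have h2 : 0 < Fintype.card F := Fintype.card_pos
    rw [Nat.card_eq_fintype_card]
    refine Nat.Coprime.gcd_eq_one ?_
    rw [Nat.coprime_two_left, Nat.odd_iff]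
    omega
  exact ((QuotientGroup.quotientMulEquivOfEq h1).trans QuotientGroup.quotientBot).symm.isSimpleGroup

/-- The symmetric matrix v wᵀ + w vᵀ, scaled. -/
def symPair (v w : Fin n → F) : F →+ SpDegree.Sym F n where
  toFun c := ⟨c • (vecMulVec v w + vecMulVec w v), show _ = _ by
    rw [transpose_smul, transpose_add, transpose_vecMulVec, transpose_vecMulVec, add_comm]⟩
  map_zero' := Subtype.ext (zero_smul _ _)
  map_add' a b := Subtype.ext (add_smul _ _ _)

/-- The symmetric matrix v vᵀ, scaled. -/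
def symSq (v : Fin n → F) : F →+ SpDegree.Sym F n where
  toFun c := ⟨c • vecMulVec v v, show _ = _ by rw [transpose_smul, transpose_vecMulVec]⟩
  map_zero' := Subtype.ext (zero_smul _ _)
  map_add' a b := Subtype.ext (add_smul _ _ _)

variable {ψ : AddChar F ℂ}

theorem exists_coeff (hψ : ψ ≠ 1) (φ : AddChar F ℂ) : ∃! a : F, ψ.compAddMonoidHom (AddMonoidHom.mulLeft a) = φ := by
  have hinj : Function.Injective fun a : F => ψ.compAddMonoidHom (AddMonoidHom.mulLeft a) := by
    intro a b h
    by_contra hab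
    obtain ⟨c, hc⟩ := AddChar.ne_one_iff.1 hψ
    have h' : ψ (a * (c / (a - b))) = ψ (b * (c / (a - b))) := DFunLike.congr_fun h (c / (a - b))
    have hd : a - b ≠ 0 := sub_ne_zero.2 hab
    rw [show a * (c / (a - b)) = c + b * (c / (a - b)) by field_simp; ring, AddChar.map_add_eq_mul] at h'
    exact hc ((mul_eq_right₀ (IsUnit.ne_zero (AddChar.val_isUnit ψ _))).1 h')
  have hbij := hinj.bijective_of_nat_card_le (by
    rw [Nat.card_eq_fintype_card, AddChar.card_eq, ← Nat.card_eq_fintype_card])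
  exact hbij.existsUnique φ

variable (hψ : ψ ≠ 1)
include hψ

/-- The quadratic function of a character of the Siegel radical. -/
noncomputable def qf (φ : AddChar (SpDegree.Sym F n) ℂ) (v : Fin n → F) : F :=
  (exists_coeff hψ (φ.compAddMonoidHom (symSq v))).exists.choose

theorem qf_spec (φ : AddChar (SpDegree.Sym F n) ℂ) (v : Fin n → F) (c : F) :
    φ (symSq v c) = ψ (qf hψ φ v * c) :=
  (DFunLike.congr_fun (exists_coeff hψ (φ.compAddMonoidHom (symSq v))).exists.choose_spec c).symm

theorem eq_of_forall {a b : F} (h : ∀ c, ψ (a * c) = ψ (b * c)) : a = b :=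
  (exists_coeff hψ _).unique (DFunLike.ext _ _ h) rfl

theorem qf_eq {φ : AddChar (SpDegree.Sym F n) ℂ} {v : Fin n → F} {a : F}
    (h : ∀ c, φ (symSq v c) = ψ (a * c)) : qf hψ φ v = a :=
  eq_of_forall hψ fun c => by rw [← qf_spec, h]

/-- The polar coefficient. -/
noncomputable def bf (φ : AddChar (SpDegree.Sym F n) ℂ) (v w : Fin n → F) : F :=
  (exists_coeff hψ (φ.compAddMonoidHom (symPair v w))).exists.choose

theorem bf_spec (φ : AddChar (SpDegree.Sym F n) ℂ) (v w : Fin n → F) (c : F) :
    φ (symPair v w c) = ψ (bf hψ φ v w * c) :=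
  (DFunLike.congr_fun (exists_coeff hψ (φ.compAddMonoidHom (symPair v w))).exists.choose_spec c).symm

theorem bf_eq {φ : AddChar (SpDegree.Sym F n) ℂ} {v w : Fin n → F} {a : F}
    (h : ∀ c, φ (symPair v w c) = ψ (a * c)) : bf hψ φ v w = a :=
  eq_of_forall hψ fun c => by rw [← bf_spec, h]

theorem bf_add (φ : AddChar (SpDegree.Sym F n) ℂ) (v v' w : Fin n → F) :
    bf hψ φ (v + v') w = bf hψ φ v w + bf hψ φ v' w :=
  bf_eq hψ fun c => by
    rw [show symPair (v + v') w c = symPair v w c + symPair v' w c from Subtype.ext (by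
      show c • (vecMulVec (v + v') w + vecMulVec w (v + v')) =
        c • (vecMulVec v w + vecMulVec w v) + c • (vecMulVec v' w + vecMulVec w v')
      rw [add_vecMulVec, vecMulVec_add, ← smul_add]; congr 1; abel),
      AddChar.map_add_eq_mul, bf_spec hψ, bf_spec hψ, add_mul, AddChar.map_add_eq_mul]

theorem bf_smul (φ : AddChar (SpDegree.Sym F n) ℂ) (a : F) (v w : Fin n → F) :
    bf hψ φ (a • v) w = a * bf hψ φ v w :=
  bf_eq hψ fun c => by
    rw [show symPair (a • v) w c = symPair v w (c * a) from Subtype.ext (by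
      show c • (vecMulVec (a • v) w + vecMulVec w (a • v)) = (c * a) • (vecMulVec v w + vecMulVec w v)
      rw [smul_vecMulVec, vecMulVec_smul, ← smul_add, smul_smul]), bf_spec hψ]
    congr 1
    ring

theorem bf_comm (φ : AddChar (SpDegree.Sym F n) ℂ) (v w : Fin n → F) : bf hψ φ v w = bf hψ φ w v :=
  bf_eq hψ fun c => by
    rw [show symPair v w c = symPair w v c from Subtype.ext (congrArg (c • ·) (add_comm _ _)), bf_spec hψ]

/-- The polar form. -/
noncomputable def bl (φ : AddChar (SpDegree.Sym F n) ℂ) : (Fin n → F) →ₗ[F] (Fin n → F) →ₗ[F] F :=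
  LinearMap.mk₂ F (bf hψ φ) (bf_add hψ φ) (fun a v w => by rw [bf_smul, smul_eq_mul])
    (fun v w w' => by rw [bf_comm hψ φ v, bf_add, bf_comm hψ φ w, bf_comm hψ φ w'])
    (fun a v w => by rw [bf_comm hψ φ v, bf_smul, bf_comm hψ φ w, smul_eq_mul])

theorem isQuad [CharP F 2] (φ : AddChar (SpDegree.Sym F n) ℂ) : IsQuad (qf hψ φ) (bl hψ φ) where
  smul a v := qf_eq hψ fun c => by
    rw [show symSq (a • v) c = symSq v (a * a * c) from Subtype.ext (by
      show c • vecMulVec (a • v) (a • v) = (a * a * c) • vecMulVec v v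
      rw [smul_vecMulVec, vecMulVec_smul, smul_smul, smul_smul]; congr 1; ring), qf_spec hψ]
    congr 1
    ring
  add v w := qf_eq hψ fun c => by
    rw [show symSq (v + w) c = symSq v c + symSq w c + symPair v w c from Subtype.ext (by
      show c • vecMulVec (v + w) (v + w) =
        c • vecMulVec v v + c • vecMulVec w w + c • (vecMulVec v w + vecMulVec w v)
      rw [add_vecMulVec, vecMulVec_add, vecMulVec_add, ← smul_add, ← smul_add]; congr 1; abel),
      AddChar.map_add_eq_mul, AddChar.map_add_eq_mul, qf_spec hψ, qf_spec hψ, bf_spec hψ,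
      ← AddChar.map_add_eq_mul, ← AddChar.map_add_eq_mul]
    congr 1
    show _ = (_ + _ + bf hψ φ v w) * c
    ring
  alt v := bf_eq hψ fun c => by
    rw [show symPair v v c = 0 from Subtype.ext (by
      show c • (vecMulVec v v + vecMulVec v v) = 0
      ext i j
      simp [CharTwo.add_self_eq_zero]), AddChar.map_zero_eq_one, zero_mul, AddChar.map_zero_eq_one]

omit hψ

/-- Congruence by an automorphism, as an additive map. -/
def congrA (g : GL (Fin n) F) : SpDegree.Sym F n →+ SpDegree.Sym F n where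
  toFun S := (sigma g (Multiplicative.ofAdd S)).toAdd
  map_zero' := congrArg Multiplicative.toAdd (map_one (sigma g))
  map_add' a b := congrArg Multiplicative.toAdd (map_mul (sigma g) (Multiplicative.ofAdd a) (Multiplicative.ofAdd b))

theorem congrA_symSq (g : GL (Fin n) F) (v : Fin n → F) (c : F) :
    congrA g (symSq v c) = symSq (g.1 *ᵥ v) c := Subtype.ext (by
  show g.1 * (c • vecMulVec v v) * g.1ᵀ = c • vecMulVec (g.1 *ᵥ v) (g.1 *ᵥ v)
  rw [mul_smul_comm, smul_mul_assoc, mul_vecMulVec, vecMulVec_mul, vecMul_transpose])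

/-- The bound. -/
theorem le_degree [DecidableEq F] [CharP F 2] (hn : 2 ≤ n) (hex : n = 2 → 3 ≤ Nat.card F) {k : ℕ}
    (ρ : Representation ℂ (symplecticGroup (Fin n) F) (Fin k → ℂ)) (hne : ∃ g, ρ g ≠ 1) :
    (Fintype.card F ^ n - 1) * (Fintype.card F ^ n - Fintype.card F) ≤ 2 * (Fintype.card F + 1) * k := by
  classical
  obtain ⟨ψ, hψ⟩ := Cfsg.Agent.AbelianOrbit.exists_addChar F ℂ (Nat.cast_ne_zero.2 Fintype.card_ne_zero)
  have : Fintype (SpDegree.Sym F n) := Fintype.ofFinite _
  let R : AddChar (SpDegree.Sym F n) (Module.End ℂ (Fin k → ℂ)) :=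
    { toFun := fun S => ρ (jHom (Multiplicative.ofAdd S))
      map_zero_eq_one' := by rw [ofAdd_zero, map_one, map_one]
      map_add_eq_mul' := fun a b => by rw [ofAdd_add, map_mul, map_mul] }
  -- faithfulness
  haveI := isSimpleGroup hn hex
  have hker : ∀ g, ρ g = 1 → g = 1 := by
    intro g hg
    rcases (inferInstance : ρ.ker.Normal).eq_bot_or_eq_top with h | h
    · rwa [← Subgroup.mem_bot, ← h, MonoidHom.mem_ker]
    · obtain ⟨x, hx⟩ := hne
      exact absurd (MonoidHom.mem_ker.1 (h ▸ Subgroup.mem_top x)) hx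
  let i0 : Fin n := ⟨0, by omega⟩
  let i1 : Fin n := ⟨1, by omega⟩
  have h01 : i1 ≠ i0 := by simp [i0, i1]
  set a : Fin n → F := Pi.single i0 1
  set b : Fin n → F := Pi.single i1 1
  let R' : AddChar F (Module.End ℂ (Fin k → ℂ)) := R.compAddMonoidHom (symPair a b)
  obtain ⟨x, hx⟩ : ∃ x, R' 1 x ≠ x := by
    by_contra hc
    push Not at hc
    have h1 := hker _ (LinearMap.ext hc : ρ (jHom (Multiplicative.ofAdd (symPair a b 1))) = 1)
    have h2 : (symPair a b 1).1 i0 i1 = (0 : Matrix (Fin n) (Fin n) F) i0 i1 :=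
      congrArg (fun s : Multiplicative (SpDegree.Sym F n) => s.toAdd.1 i0 i1)
        (jHom_injective (h1.trans (map_one (jHom (F := F) (n := n))).symm))
    simp [symPair, a, b, vecMulVec_apply, h01, h01.symm] at h2
  obtain ⟨χ, ⟨c₀, hc₀⟩, hχ⟩ := exists_char (R := R') (W := ⊤) (fun _ _ _ => Submodule.mem_top) Submodule.mem_top hx
  obtain ⟨φ, hφ⟩ := exists_char' (R := R) (W := eig R' ⊤ χ) (fun S y hy => ⟨Submodule.mem_top, fun c => by
    show R (symPair a b c) (R S y) = _
    rw [← Module.End.mul_apply, ← AddChar.map_add_eq_mul, add_comm, AddChar.map_add_eq_mul,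
      Module.End.mul_apply, show R (symPair a b c) y = χ c • y from hy.2 c, map_smul]⟩) hχ
  obtain ⟨y, hy, hy0⟩ := (Submodule.ne_bot_iff _).1 hφ
  have hB : bl hψ φ ≠ 0 := by
    intro h0
    have h1 : φ (symPair a b c₀) = 1 := by
      rw [bf_spec hψ, show bf hψ φ a b = 0 from LinearMap.congr_fun (LinearMap.congr_fun h0 a) b, zero_mul,
        AddChar.map_zero_eq_one]
    have h2 := hy.1.2 c₀
    rw [show R' c₀ y = R (symPair a b c₀) y from rfl, hy.2, h1, one_smul] at h2
    exact hc₀ (smul_left_injective ℂ hy0 (h2.symm.trans (one_smul ℂ y).symm))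
  -- every form in the orbit occurs
  have hocc : ∀ T ∈ orbit (F := F) (qf hψ φ), ∃ φ' : AddChar (SpDegree.Sym F n) ℂ, qf hψ φ' = T ∧ eig R ⊤ φ' ≠ ⊥ := by
    intro T hT
    obtain ⟨g, rfl⟩ := mem_orbit.1 hT
    have hdet : (LinearMap.toMatrix' g.toLinearMap).det ≠ 0 := by
      rw [LinearMap.det_toMatrix']
      exact (LinearEquiv.isUnit_det' g).ne_zero
    let M : GL (Fin n) F := Matrix.GeneralLinearGroup.mkOfDetNeZero _ hdet
    refine ⟨φ.compAddMonoidHom (congrA M), funext fun v => qf_eq hψ fun c => ?_, (Submodule.ne_bot_iff _).2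
      ⟨ρ (levi M)⁻¹ y, ⟨Submodule.mem_top, fun S => ?_⟩, fun h => ?_⟩⟩
    · rw [AddChar.compAddMonoidHom_apply, congrA_symSq, qf_spec hψ]
      congr 3
      exact LinearMap.congr_fun (Matrix.toLin'_toMatrix' g.toLinearMap) v
    · show ρ (jHom (Multiplicative.ofAdd S)) (ρ (levi M)⁻¹ y) = φ (congrA M S) • ρ (levi M)⁻¹ y
      rw [← Module.End.mul_apply, ← map_mul, show jHom (Multiplicative.ofAdd S) * (levi M)⁻¹ =
          (levi M)⁻¹ * jHom (Multiplicative.ofAdd (congrA M S)) by
        rw [show Multiplicative.ofAdd (congrA M S) = sigma M (Multiplicative.ofAdd S) from rfl, ← conj_jHom]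
        group, map_mul, Module.End.mul_apply,
        show ρ (jHom (Multiplicative.ofAdd (congrA M S))) y = φ (congrA M S) • y from hy.2 _, map_smul]
    · have := congrArg (ρ (levi M)) h
      rw [map_zero, ← Module.End.mul_apply, ← map_mul, mul_inv_cancel, map_one, Module.End.one_apply] at this
      exact hy0 this
  have hle : (orbit (F := F) (qf hψ φ)).card ≤ k := by
    choose! Φ hΦ1 hΦ2 using hocc
    have h1 : ((orbit (F := F) (qf hψ φ)).image Φ).card = (orbit (F := F) (qf hψ φ)).card :=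
      Finset.card_image_of_injOn fun T hT T' hT' h => by rw [← hΦ1 T hT, ← hΦ1 T' hT', h]
    rw [← h1]
    refine le_trans ?_ ((sum_finrank_le (R := R) (W := ⊤) (fun _ _ _ => Submodule.mem_top)
      ((orbit (F := F) (qf hψ φ)).image Φ)).trans_eq (by rw [finrank_top, Module.finrank_pi, Fintype.card_fin]))
    refine le_trans (le_of_eq (mul_one _).symm) ((smul_eq_mul ..).symm.le.trans
      (Finset.card_nsmul_le_sum _ _ 1 fun φ' hφ' => ?_))
    obtain ⟨T, hT, rfl⟩ := Finset.mem_image.1 hφ'
    exact Nat.one_le_iff_ne_zero.2 fun h => hΦ2 T hT (Submodule.finrank_eq_zero.1 h)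
  have h := le_card_orbit (isQuad hψ φ) hB
  rw [Module.finrank_pi, Fintype.card_fin] at h
  exact h.trans (Nat.mul_le_mul_left _ hle)

end Cfsg.Agent.SympEvenDeg
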