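/-
Block matrices in the stabiliser of the first coordinate line, and transvection classes, in `SL_{m+1}`.
-/
import Cfsg.Agent.Lib.Classical.SL
import Cfsg.Agent.Lib.PermChar.Vectors
import Cfsg.Agent.Lib.Char.Integral

set_option autoImplicit false

namespace Cfsg.Agent.MinDegree

open Matrix

variable {F : Type*} [Field F] {m : ℕ}

/-- The matrix with first row `(a, v)`, zero below `a`, and lower block `A`. -/
def blMat (a : F) (v : Fin m → F) (A : Matrix (Fin m) (Fin m) F) :
    Matrix (Fin (m + 1)) (Fin (m + 1)) F :=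
  Matrix.of (Fin.cons (Fin.cons a v) fun i => Fin.cons 0 (A i))

theorem blMat_mul (a b : F) (v w : Fin m → F) (A B : Matrix (Fin m) (Fin m) F) :
    blMat a v A * blMat b w B = blMat (a * b) (a • w + v ᵥ* B) (A * B) := by
  ext i j
  rw [Matrix.mul_apply, Fin.sum_univ_succ]
  refine Fin.cases ?_ (fun i' => ?_) i <;> refine Fin.cases ?_ (fun j' => ?_) j <;>
    simp [blMat, Matrix.vecMul, dotProduct, Matrix.mul_apply]

theorem blMat_det (a : F) (v : Fin m → F) (A : Matrix (Fin m) (Fin m) F) :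
    (blMat a v A).det = a * A.det := by
  rw [Matrix.det_succ_column_zero, Fin.sum_univ_succ]
  have h : (blMat a v A).submatrix (Fin.succAbove 0) Fin.succ = A := by
    ext i j; simp [blMat]
  rw [h]
  simp [blMat]

theorem blMat_one : blMat (1 : F) (0 : Fin m → F) (1 : Matrix (Fin m) (Fin m) F) = 1 := by
  ext i j
  refine Fin.cases ?_ (fun i' => ?_) i <;> refine Fin.cases ?_ (fun j' => ?_) j <;>
    simp [blMat, Matrix.one_apply, Ne.symm (Fin.succ_ne_zero _)]

/-- The corresponding element of `SL`. -/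
def bl (a : F) (v : Fin m → F) (A : Matrix (Fin m) (Fin m) F) (h : a * A.det = 1) :
    SpecialLinearGroup (Fin (m + 1)) F := ⟨blMat a v A, (blMat_det a v A).trans h⟩

theorem bl_congr {a b : F} {v w : Fin m → F} {A B : Matrix (Fin m) (Fin m) F} {h : a * A.det = 1}
    {h' : b * B.det = 1} (e1 : a = b) (e2 : v = w) (e3 : A = B) : bl a v A h = bl b w B h' := by
  subst e1 e2 e3; rfl

theorem bl_mul {a b : F} {v w : Fin m → F} {A B : Matrix (Fin m) (Fin m) F} (h : a * A.det = 1)
    (h' : b * B.det = 1) : bl a v A h * bl b w B h' =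
      bl (a * b) (a • w + v ᵥ* B) (A * B) (by rw [Matrix.det_mul]; linear_combination (b * B.det) * h + h') :=
  Subtype.ext (blMat_mul a b v w A B)

/-- The elementary abelian first-row group. -/
def qEl (v : Fin m → F) : SpecialLinearGroup (Fin (m + 1)) F := bl 1 v 1 (by simp)

theorem qEl_add (u v : Fin m → F) : qEl (u + v) = qEl u * qEl v :=
  Subtype.ext (by
    show blMat 1 (u + v) 1 = blMat 1 u 1 * blMat 1 v 1
    rw [blMat_mul]; simp [add_comm u v])

theorem qEl_zero : qEl (0 : Fin m → F) = 1 := Subtype.ext blMat_one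

theorem qEl_mul_bl {a : F} {A : Matrix (Fin m) (Fin m) F} (h : a * A.det = 1) (ha : a ≠ 0)
    (v : Fin m → F) : qEl v * bl a 0 A h = bl a 0 A h * qEl (a⁻¹ • (v ᵥ* A)) :=
  Subtype.ext (by
    show blMat 1 v 1 * blMat a 0 A = blMat a 0 A * blMat 1 _ 1
    rw [blMat_mul, blMat_mul]
    simp [smul_smul, mul_inv_cancel₀ ha])

/-- The embedding of `SL_m`. -/
def emb : SpecialLinearGroup (Fin m) F →* SpecialLinearGroup (Fin (m + 1)) F where
  toFun A := bl 1 0 A.1 (by simp)
  map_one' := Subtype.ext (by simp [bl, blMat_one])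
  map_mul' A B := Subtype.ext (by
    show blMat 1 0 (A.1 * B.1) = blMat 1 0 A.1 * blMat 1 0 B.1
    rw [blMat_mul]; simp)

theorem emb_transvection {i j : Fin m} (h : i ≠ j) (c : F) :
    emb (SpecialLinearGroup.transvection h c) =
      SpecialLinearGroup.transvection (fun e => h (Fin.succ_injective m e)) c := by
  refine Subtype.ext ?_
  show blMat 1 0 _ = _
  rw [SpecialLinearGroup.transvection_coe, SpecialLinearGroup.transvection_coe]
  ext a b
  refine Fin.cases ?_ (fun a' => ?_) a <;> refine Fin.cases ?_ (fun b' => ?_) b <;>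
    simp [blMat, Matrix.one_apply, Matrix.single_apply, (Fin.succ_ne_zero _).symm]

theorem qEl_single (j : Fin m) (c : F) :
    qEl (Pi.single j c) = SpecialLinearGroup.transvection (Fin.succ_ne_zero j).symm c := by
  refine Subtype.ext ?_
  show blMat 1 _ 1 = _
  rw [SpecialLinearGroup.transvection_coe]
  ext a b
  refine Fin.cases ?_ (fun a' => ?_) a <;> refine Fin.cases ?_ (fun b' => ?_) b <;>
    simp [blMat, Matrix.one_apply, Pi.single_apply, Matrix.single_apply, eq_comm, Ne.symm (Fin.succ_ne_zero _)]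

theorem stab_single {g : SpecialLinearGroup (Fin (m + 1)) F}
    (hg : g.1 *ᵥ Pi.single 0 1 = Pi.single 0 1) :
    ∃ (v : Fin m → F) (A : SpecialLinearGroup (Fin m) F), g = emb A * qEl v := by
  have h0 : ∀ i : Fin (m + 1), g.1 i 0 = if i = 0 then 1 else 0 := fun i => by
    have h := congrFun hg i
    simpa [Matrix.mulVec_single_one, Pi.single_apply] using h
  obtain ⟨A, hA⟩ : ∃ A : Matrix (Fin m) (Fin m) F, A = g.1.submatrix Fin.succ Fin.succ := ⟨_, rfl⟩
  have hg' : g.1 = blMat 1 (fun j => g.1 0 j.succ) A := by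
    ext a b
    refine Fin.cases ?_ (fun a' => ?_) a <;> refine Fin.cases ?_ (fun b' => ?_) b <;>
      simp [blMat, hA, h0, Fin.succ_ne_zero]
  have hdet : A.det = 1 := by
    have h := g.2
    rwa [hg', blMat_det, one_mul] at h
  refine ⟨fun j => g.1 0 j.succ, ⟨A, hdet⟩, Subtype.ext ?_⟩
  show g.1 = blMat 1 0 A * blMat 1 _ 1
  rw [blMat_mul, hg']
  simp [blMat]

theorem kernel_eq_top (hm : 2 ≤ m) {H : Type*} [Group H]
    (f : SpecialLinearGroup (Fin (m + 1)) F →* H) {j : Fin m} (hf : f (qEl (Pi.single j 1)) = 1) :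
    f = 1 := by
  have h3 : 3 ≤ Fintype.card (Fin (m + 1)) := by rw [Fintype.card_fin]; omega
  haveI := ClassicalSL.isSimpleGroup_psl (F := F) h3
  have hperf := ClassicalSL.isPerfect_sl (F := F) h3
  have hnc : qEl (Pi.single j (1 : F)) ∉ Subgroup.center (SpecialLinearGroup (Fin (m + 1)) F) := by
    rw [Matrix.SpecialLinearGroup.mem_center_iff]
    rintro ⟨r, -, hr⟩
    have h := congrFun (congrFun hr 0) j.succ
    simp [qEl, bl, blMat, Matrix.scalar_apply, (Fin.succ_ne_zero _).symm] at h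
  have hn := Subgroup.Normal.map (inferInstance : f.ker.Normal)
    (QuotientGroup.mk' (Subgroup.center (SpecialLinearGroup (Fin (m + 1)) F))) (QuotientGroup.mk'_surjective _)
  rcases hn.eq_bot_or_eq_top with hb | ht
  · refine absurd ?_ hnc
    rw [Subgroup.map_eq_bot_iff, QuotientGroup.ker_mk'] at hb
    exact hb hf
  · refine (MonoidHom.ker_eq_top_iff).1 (eq_top_iff.2 ?_)
    rw [← hperf, commutator_eq_closure, Subgroup.closure_le]
    rintro _ ⟨a, b, rfl⟩
    have hdec : ∀ a, ∃ x ∈ f.ker, ∃ z ∈ Subgroup.center (SpecialLinearGroup (Fin (m + 1)) F), a = x * z := by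
      intro a
      obtain ⟨x, hx, he⟩ := ht.ge (Subgroup.mem_top (QuotientGroup.mk' _ a))
      exact ⟨x, hx, x⁻¹ * a, QuotientGroup.eq.1 he, by rw [mul_inv_cancel_left]⟩
    obtain ⟨x, hx, z, hz, rfl⟩ := hdec a
    obtain ⟨y, hy, w, hw, rfl⟩ := hdec b
    have hfz : ∀ c, Commute (f z) (f c) := fun c =>
      ((show Commute z c from (Subgroup.mem_center_iff.1 hz c).symm)).map f
    rw [SetLike.mem_coe, MonoidHom.mem_ker, commutatorElement_def]
    rw [MonoidHom.mem_ker] at hx hy
    simp only [map_mul, map_inv, hx, hy, one_mul]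
    rw [(hfz w).eq, mul_inv_cancel_right, mul_inv_cancel]

theorem single_eq (a b : Fin (m + 1)) (c : F) :
    Matrix.single a b c = Matrix.vecMulVec (Pi.single a c) (Pi.single b 1) := by
  ext x y
  simp only [Matrix.single_apply, Matrix.vecMulVec_apply, Pi.single_apply]
  split_ifs <;> simp_all

theorem inv_mul_val (c : SpecialLinearGroup (Fin m) F) : (c⁻¹).1 * c.1 = 1 :=
  congrArg Subtype.val (inv_mul_cancel c)

theorem mul_inv_val (c : SpecialLinearGroup (Fin m) F) : c.1 * (c⁻¹).1 = 1 :=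
  congrArg Subtype.val (mul_inv_cancel c)

section Class

variable [Fintype F] [DecidableEq F]

theorem transvection_pair_conj (hm : 2 ≤ m) {u φ : Fin (m + 1) → F} (hu : u ≠ 0) (hφ : φ ≠ 0)
    (hφu : φ ⬝ᵥ u = 0) {j : Fin m} :
    ∃ g : SpecialLinearGroup (Fin (m + 1)) F,
      g.1 *ᵥ Pi.single 0 1 = u ∧ φ ᵥ* g.1 = Pi.single j.succ 1 := by
  obtain ⟨i, hi⟩ := Function.ne_iff.1 hφ
  have hz : φ ⬝ᵥ Pi.single i (φ i)⁻¹ = 1 := by rw [dotProduct_single, mul_inv_cancel₀ hi]
  have h01 : LinearIndependent F ![(Pi.single 0 1 : Fin (m + 1) → F), Pi.single j.succ 1] := by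
    refine LinearIndependent.pair_iff.2 fun a b h => ⟨?_, ?_⟩
    · simpa [(Fin.succ_ne_zero _).symm] using congrFun h 0
    · simpa [Fin.succ_ne_zero] using congrFun h j.succ
  have huz : LinearIndependent F ![u, Pi.single i (φ i)⁻¹] := by
    refine (LinearIndependent.pair_iff' hu).2 fun a ha => ?_
    have h := congrArg (φ ⬝ᵥ ·) ha
    simp only [dotProduct_smul, hφu, smul_zero, hz] at h
    exact zero_ne_one h
  obtain ⟨g, hg0, hgj⟩ := VectorPerm.exists_sl_pair (by omega) h01 huz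
  obtain ⟨ρr, hρr⟩ : ∃ ρr, ρr = φ ᵥ* g.1 - Pi.single j.succ 1 := ⟨_, rfl⟩
  have h1 : (φ ᵥ* g.1) 0 = 0 := by
    rw [← dotProduct_single_one (φ ᵥ* g.1) 0, ← Matrix.dotProduct_mulVec, hg0, hφu]
  have h2 : (φ ᵥ* g.1) j.succ = 1 := by
    rw [← dotProduct_single_one (φ ᵥ* g.1) j.succ, ← Matrix.dotProduct_mulVec, hgj, hz]
  have hr0 : ρr 0 = 0 := by simp [hρr, h1, (Fin.succ_ne_zero _).symm]
  have hrj : ρr j.succ = 0 := by simp [hρr, h2]
  obtain ⟨h, hh⟩ : ∃ h, h = 1 - Matrix.vecMulVec (Pi.single j.succ 1) ρr := ⟨_, rfl⟩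
  have hdet : h.det = 1 := by
    rw [hh, sub_eq_add_neg, ← Matrix.neg_vecMulVec, Matrix.vecMulVec_eq Unit,
      Matrix.det_one_add_replicateCol_mul_replicateRow, dotProduct_neg, dotProduct_single, hrj, zero_mul,
      neg_zero, add_zero]
  refine ⟨g * ⟨h, hdet⟩, ?_, ?_⟩
  · show (g.1 * h) *ᵥ _ = u
    rw [← Matrix.mulVec_mulVec, hh, Matrix.sub_mulVec, Matrix.one_mulVec, Matrix.vecMulVec_mulVec,
      dotProduct_single, hr0]
    simpa using hg0
  · show φ ᵥ* (g.1 * h) = _
    rw [← Matrix.vecMul_vecMul, hh, Matrix.vecMul_sub, Matrix.vecMul_one, Matrix.vecMul_vecMulVec,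
      dotProduct_single, h2, mul_one, one_smul, hρr, sub_sub_cancel]

theorem isConj_transvection (hm : 2 ≤ m) {i k : Fin (m + 1)} (h : i ≠ k) {c : F} (hc : c ≠ 0) (j : Fin m) :
    IsConj (qEl (Pi.single j (1 : F))) (SpecialLinearGroup.transvection h c) := by
  obtain ⟨g, hg1, hg2⟩ := transvection_pair_conj (u := Pi.single i c) (φ := Pi.single k 1) hm
    (by simpa using hc) (by simp) (by simp [h]) (j := j)
  refine isConj_iff.2 ⟨g, ?_⟩
  rw [mul_inv_eq_iff_eq_mul, qEl_single]
  refine Subtype.ext ?_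
  show g.1 * _ = _ * g.1
  rw [SpecialLinearGroup.transvection_coe,
    SpecialLinearGroup.transvection_coe, Matrix.mul_add, Matrix.add_mul, Matrix.mul_one, Matrix.one_mul]
  congr 1
  rw [single_eq, single_eq,
    Matrix.mul_vecMulVec, Matrix.vecMulVec_mul, hg1, hg2]

/-- The number of transvections. -/
theorem card_class (hm : 2 ≤ m) (j : Fin m) :
    (Fintype.card F - 1) * (Subgroup.centralizer ({qEl (Pi.single j (1 : F))} : Set
        (SpecialLinearGroup (Fin (m + 1)) F))).index =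
      (Fintype.card F ^ (m + 1) - 1) * (Fintype.card F ^ m - 1) := by
  classical
  obtain ⟨t, ht⟩ : ∃ t, t = qEl (Pi.single j (1 : F)) := ⟨_, rfl⟩
  rw [← ht, ← Char.card_classFinset]
  let P := (u : {u : Fin (m + 1) → F // u ≠ 0}) × {φ : Fin (m + 1) → F // φ ⬝ᵥ u.1 = 0 ∧ φ ≠ 0}
  have hP : Nat.card P = (Fintype.card F ^ (m + 1) - 1) * (Fintype.card F ^ m - 1) := by
    rw [Nat.card_sigma]
    have hfib : ∀ u : {u : Fin (m + 1) → F // u ≠ 0},
        Nat.card {φ : Fin (m + 1) → F // φ ⬝ᵥ u.1 = 0 ∧ φ ≠ 0} = Fintype.card F ^ m - 1 := by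
      intro u
      let L : (Fin (m + 1) → F) →ₗ[F] F :=
        { toFun := fun φ => φ ⬝ᵥ u.1, map_add' := fun a b => add_dotProduct a b u.1,
          map_smul' := fun c a => smul_dotProduct c a u.1 }
      have hsurj : Function.Surjective L := LinearMap.surjective (fun h => u.2 (funext fun i => by
        simpa [L] using LinearMap.congr_fun h (Pi.single i 1)))
      have hr := L.finrank_range_add_finrank_ker
      rw [LinearMap.range_eq_top.2 hsurj, finrank_top, Module.finrank_self, Module.finrank_fin_fun] at hr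
      have hk : Fintype.card (LinearMap.ker L) = Fintype.card F ^ m := by
        rw [Module.card_eq_pow_finrank (K := F)]; congr 1; omega
      have h0 := Fintype.card_subtype_compl (fun x : LinearMap.ker L => x = 0)
      rw [Fintype.card_subtype_eq, hk, ← Nat.card_eq_fintype_card] at h0
      rw [← h0]
      exact Nat.card_congr
        { toFun := fun φ => ⟨⟨φ.1, φ.2.1⟩, fun e => φ.2.2 (congrArg Subtype.val e)⟩
          invFun := fun φ => ⟨φ.1.1, φ.1.2, fun e => φ.2 (Subtype.ext e)⟩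
          left_inv := fun φ => rfl
          right_inv := fun φ => rfl }
    rw [Finset.sum_congr rfl fun u _ => hfib u, Finset.sum_const, Finset.card_univ,
      Fintype.card_subtype_compl, Fintype.card_fun, Fintype.card_fin, Fintype.card_subtype_eq, smul_eq_mul]
  rw [← hP]
  have hdet : ∀ p : P, (1 + Matrix.vecMulVec p.1.1 p.2.1).det = 1 := fun p => by
    rw [Matrix.vecMulVec_eq Unit, Matrix.det_one_add_replicateCol_mul_replicateRow, p.2.2.1, add_zero]
  let Φ : P → SpecialLinearGroup (Fin (m + 1)) F := fun p => ⟨_, hdet p⟩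
  have hclass : ∀ g, IsConj t g ↔ ∃ p, Φ p = g := by
    have htm : t.1 = 1 + Matrix.vecMulVec (Pi.single 0 1) (Pi.single j.succ 1) := by
      rw [ht, qEl_single, SpecialLinearGroup.transvection_coe, single_eq]
    intro g
    constructor
    · rintro hg
      obtain ⟨c, rfl⟩ := isConj_iff.1 hg
      refine ⟨⟨⟨c.1 *ᵥ Pi.single 0 1, ?_⟩, ⟨Pi.single j.succ 1 ᵥ* (c⁻¹).1, ?_, ?_⟩⟩, Subtype.ext ?_⟩
      · intro h
        have h' := congrArg ((c⁻¹).1 *ᵥ ·) h
        simp only [Matrix.mulVec_mulVec, Matrix.mulVec_zero] at h'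
        rw [inv_mul_val, Matrix.one_mulVec] at h'
        simpa using congrFun h' 0
      · dsimp only
        rw [← Matrix.dotProduct_mulVec, Matrix.mulVec_mulVec, inv_mul_val, Matrix.one_mulVec]
        simp
      · intro h
        have h' := congrArg (· ᵥ* c.1) h
        simp only [Matrix.vecMul_vecMul, Matrix.zero_vecMul] at h'
        rw [inv_mul_val, Matrix.vecMul_one] at h'
        simpa using congrFun h' j.succ
      · show 1 + _ = c.1 * t.1 * (c⁻¹).1
        rw [htm, Matrix.mul_add, Matrix.add_mul,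
          Matrix.mul_one, mul_inv_val, Matrix.mul_vecMulVec, Matrix.vecMulVec_mul]
    · rintro ⟨⟨u, φ, hφu, hφ⟩, rfl⟩
      obtain ⟨c, hc1, hc2⟩ := transvection_pair_conj hm u.2 hφ hφu (j := j)
      refine isConj_iff.2 ⟨c, ?_⟩
      rw [mul_inv_eq_iff_eq_mul]
      refine Subtype.ext ?_
      show c.1 * t.1 = (1 + Matrix.vecMulVec u.1 φ) * c.1
      rw [htm, Matrix.mul_add, Matrix.add_mul, Matrix.mul_one, Matrix.one_mul, Matrix.mul_vecMulVec,
        Matrix.vecMulVec_mul, hc1, hc2]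
  let s : {g // g ∈ Char.classFinset t} → P := fun g =>
    ((hclass g.1).1 (Char.mem_classFinset.1 g.2)).choose
  have hs : ∀ g, Φ (s g) = g.1 := fun g => ((hclass g.1).1 (Char.mem_classFinset.1 g.2)).choose_spec
  let f : {g // g ∈ Char.classFinset t} × Fˣ → P := fun x =>
    ⟨⟨(x.2 : F) • (s x.1).1.1, smul_ne_zero x.2.ne_zero (s x.1).1.2⟩,
      ⟨((x.2⁻¹ : Fˣ) : F) • (s x.1).2.1,
        by dsimp only; rw [dotProduct_smul, smul_dotProduct, (s x.1).2.2.1, smul_zero, smul_zero],
        smul_ne_zero (x.2⁻¹).ne_zero (s x.1).2.2.2⟩⟩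
  have hΦf : ∀ x, Φ (f x) = x.1.1 := fun x => by
    refine (Subtype.ext ?_).trans (hs x.1)
    show 1 + Matrix.vecMulVec _ _ = 1 + Matrix.vecMulVec _ _
    simp only [f, Matrix.smul_vecMulVec, Matrix.vecMulVec_smul, smul_smul, Units.mul_inv,
      Units.inv_mul, one_smul]
  have hbij : Function.Bijective f := by
    refine ⟨fun x y h => ?_, fun p => ?_⟩
    · have h1 : x.1 = y.1 := Subtype.ext (by rw [← hΦf, h, hΦf])
      refine Prod.ext h1 (Units.ext ?_)
      have h2 : (x.2 : F) • (s x.1).1.1 = (y.2 : F) • (s y.1).1.1 :=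
        congrArg (fun p : P => p.1.1) h
      rw [h1] at h2
      exact smul_left_injective F (s y.1).1.2 h2
    · obtain ⟨g, hg⟩ : ∃ g : {g // g ∈ Char.classFinset t}, g.1 = Φ p :=
        ⟨⟨Φ p, Char.mem_classFinset.2 ((hclass _).2 ⟨p, rfl⟩)⟩, rfl⟩
      have h : Matrix.vecMulVec (s g).1.1 (s g).2.1 = Matrix.vecMulVec p.1.1 p.2.1 :=
        add_left_cancel (congrArg Subtype.val ((hs g).trans hg))
      obtain ⟨b, hb⟩ := Function.ne_iff.1 p.2.2.2
      obtain ⟨c, hc⟩ : ∃ c, c = (s g).2.1 b / p.2.1 b := ⟨_, rfl⟩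
      have hu : p.1.1 = c • (s g).1.1 := by
        funext a
        have := congrFun (congrFun h a) b
        simp only [Matrix.vecMulVec_apply] at this
        rw [hc, Pi.smul_apply, smul_eq_mul, div_mul_eq_mul_div, eq_div_iff hb]
        linear_combination -this
      have hc0 : c ≠ 0 := fun e => p.1.2 (by rw [hu, e, zero_smul])
      refine ⟨⟨g, Units.mk0 c hc0⟩, ?_⟩
      rcases p with ⟨⟨u, hu'⟩, φ, hφ⟩
      obtain rfl : u = c • (s g).1.1 := hu
      refine Sigma.ext rfl (heq_of_eq (Subtype.ext ?_))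
      show c⁻¹ • (s g).2.1 = φ
      obtain ⟨a, ha⟩ := Function.ne_iff.1 (s g).1.2
      funext b
      have := congrFun (congrFun h a) b
      simp only [Matrix.vecMulVec_apply, Pi.smul_apply, smul_eq_mul] at this
      rw [Pi.smul_apply, smul_eq_mul, inv_mul_eq_iff_eq_mul₀ hc0]
      exact mul_left_cancel₀ ha (this.trans (by ring))
  rw [← Nat.card_congr (Equiv.ofBijective f hbij), Nat.card_prod, Nat.card_units,
    Nat.card_eq_fintype_card, Fintype.card_coe, Nat.card_eq_fintype_card (α := F), mul_comm]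

end Class

end Cfsg.Agent.MinDegree
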