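/-
The restriction of a representation of `SL_{m+1}(q)` to the elementary abelian group of first rows.
-/
import Cfsg.Agent.Lib.MinDegree.Block
import Cfsg.Agent.Lib.Char.Basic
import Mathlib.Analysis.Complex.Polynomial.Basic
import Mathlib.NumberTheory.LegendreSymbol.AddCharacter

set_option autoImplicit false

namespace Cfsg.Agent.MinDegree

open Matrix Module

variable {F : Type*} [Field F] [Fintype F] [DecidableEq F] {m : ℕ}
variable {V : Type*} [AddCommGroup V] [Module ℂ V] [FiniteDimensional ℂ V]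

theorem exists_psi (F : Type*) [Field F] [Fintype F] :
    ∃ ψ : AddChar F ℂ, ∀ a : F, a ≠ 0 → ∑ x : F, ψ (a * x) = 0 := by
  classical
  obtain ⟨ψ, hψ⟩ : ∃ ψ : AddChar F ℂ, ψ ≠ 1 := by
    obtain ⟨ψ, hψ⟩ := AddChar.exists_apply_ne_zero.2 (one_ne_zero (α := F))
    exact ⟨ψ, fun h => hψ (by rw [h, AddChar.one_apply])⟩
  refine ⟨ψ, fun a ha => ?_⟩
  rw [show ∑ x : F, ψ (a * x) = ∑ x : F, ψ x from
    Fintype.sum_equiv (Equiv.mulLeft₀ a ha) _ _ fun _ => rfl]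
  exact AddChar.sum_eq_zero_of_ne_one hψ

theorem sum_psi_dot {ψ : AddChar F ℂ} (hψ : ∀ a : F, a ≠ 0 → ∑ x : F, ψ (a * x) = 0) (a : Fin m → F) :
    ∑ x : Fin m → F, ψ (a ⬝ᵥ x) = if a = 0 then ((Fintype.card F : ℂ) ^ m) else 0 := by
  split_ifs with h
  · simp [h]
  obtain ⟨i, hi⟩ := Function.ne_iff.1 h
  obtain ⟨x, hx⟩ : ∃ x : F, ψ (a i * x) ≠ 1 := by
    by_contra hc
    push Not at hc
    have h0 := hψ (a i) hi
    simp [hc] at h0
  have e : ψ (a i * x) * ∑ y : Fin m → F, ψ (a ⬝ᵥ y) = ∑ y : Fin m → F, ψ (a ⬝ᵥ y) := by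
    rw [Finset.mul_sum]
    exact Fintype.sum_equiv (Equiv.addLeft (Pi.single i x)) _ _ fun y => by
      rw [← AddChar.map_add_eq_mul, Equiv.coe_addLeft, dotProduct_add, dotProduct_single]
  exact (mul_left_eq_self₀.1 e).resolve_left hx

variable (ψ : AddChar F ℂ) (ρ : Representation ℂ (SpecialLinearGroup (Fin (m + 1)) F) V)

/-- The projection to the `w`-eigenspace. -/
noncomputable def eig (w : Fin m → F) : Module.End ℂ V :=
  ((Fintype.card F : ℂ) ^ m)⁻¹ • ∑ v : Fin m → F, ψ (-(v ⬝ᵥ w)) • ρ (qEl v)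

/-- Its rank. -/
noncomputable def mult (w : Fin m → F) : ℕ := finrank ℂ (LinearMap.range (eig ψ ρ w))

variable {ψ} (hψ : ∀ a : F, a ≠ 0 → ∑ x : F, ψ (a * x) = 0)

omit [DecidableEq F] in
theorem rho_mul_eig [DecidableEq F] (u w : Fin m → F) : ρ (qEl u) * eig ψ ρ w = ψ (u ⬝ᵥ w) • eig ψ ρ w := by
  rw [eig, mul_smul_comm, Finset.mul_sum, smul_comm]
  congr 1
  rw [Finset.smul_sum]
  refine Fintype.sum_equiv (Equiv.addLeft u) _ _ fun v => ?_
  rw [Equiv.coe_addLeft, mul_smul_comm, ← map_mul, ← qEl_add, smul_smul, ← AddChar.map_add_eq_mul,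
    add_dotProduct]
  congr 2
  ring

include hψ in
theorem eig_mul_eig (w w' : Fin m → F) : eig ψ ρ w * eig ψ ρ w' = if w = w' then eig ψ ρ w else 0 := by
  conv_lhs => rw [eig, smul_mul_assoc, Finset.sum_mul]
  simp only [smul_mul_assoc, rho_mul_eig, smul_smul, ← Finset.sum_smul]
  have h : ∀ v : Fin m → F, ψ (-(v ⬝ᵥ w)) * ψ (v ⬝ᵥ w') = ψ ((w' - w) ⬝ᵥ v) := fun v => by
    rw [← AddChar.map_add_eq_mul, sub_dotProduct, dotProduct_comm w', dotProduct_comm w]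
    congr 1; ring
  rw [Finset.sum_congr rfl fun v _ => h v, sum_psi_dot hψ]
  have hq : ((Fintype.card F : ℂ) ^ m) ≠ 0 := pow_ne_zero _ (Nat.cast_ne_zero.2 Fintype.card_ne_zero)
  by_cases hw : w = w'
  · subst hw
    rw [if_pos (sub_self w), if_pos rfl, inv_mul_cancel₀ hq, one_smul]
  · rw [if_neg (sub_ne_zero.2 (Ne.symm hw)), if_neg hw, mul_zero, zero_smul]

include hψ in
theorem sum_eig : ∑ w : Fin m → F, eig ψ ρ w = 1 := by
  simp only [eig, ← Finset.smul_sum]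
  rw [Finset.sum_comm]
  simp only [← Finset.sum_smul]
  have h : ∀ v : Fin m → F, ∑ w : Fin m → F, ψ (-(v ⬝ᵥ w)) =
      if v = 0 then ((Fintype.card F : ℂ) ^ m) else 0 := fun v => by
    have := sum_psi_dot hψ (-v)
    simp only [neg_dotProduct, neg_eq_zero] at this
    exact this
  simp only [h, ite_smul, zero_smul, Finset.sum_ite_eq', Finset.mem_univ, if_true, qEl_zero, map_one,
    smul_smul, inv_mul_cancel₀ (pow_ne_zero m (Nat.cast_ne_zero.2 Fintype.card_ne_zero : (Fintype.card F : ℂ) ≠ 0)),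
    one_smul]

include hψ in
theorem isProj_eig (w : Fin m → F) : LinearMap.IsProj (LinearMap.range (eig ψ ρ w)) (eig ψ ρ w) :=
  ⟨fun x => ⟨x, rfl⟩, fun x ⟨y, hy⟩ => by
    subst hy
    have h := eig_mul_eig ρ hψ w w
    rw [if_pos rfl] at h
    exact LinearMap.congr_fun h y⟩

include hψ in
theorem trace_eig (w : Fin m → F) : LinearMap.trace ℂ V (eig ψ ρ w) = (mult ψ ρ w : ℂ) :=
  (isProj_eig ρ hψ w).trace

include hψ in
theorem finrank_eq : ((finrank ℂ V : ℕ) : ℂ) = ∑ w : Fin m → F, (mult ψ ρ w : ℂ) := by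
  rw [Finset.sum_congr rfl fun w _ => (trace_eig ρ hψ w).symm, ← map_sum, sum_eig ρ hψ,
    LinearMap.trace_one]

include hψ in
theorem trace_qEl (u : Fin m → F) :
    ρ.character (qEl u) = ∑ w : Fin m → F, ψ (u ⬝ᵥ w) * (mult ψ ρ w : ℂ) := by
  show LinearMap.trace ℂ V (ρ (qEl u)) = _
  conv_lhs => rw [← mul_one (ρ (qEl u)), ← sum_eig ρ hψ, Finset.mul_sum, map_sum]
  refine Finset.sum_congr rfl fun w _ => ?_
  rw [rho_mul_eig, map_smul, trace_eig ρ hψ, smul_eq_mul]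

theorem bl_eig {a : F} {A : Matrix (Fin m) (Fin m) F} (h : a * A.det = 1) (w : Fin m → F) :
    ρ (bl a 0 A h) * eig ψ ρ w = eig ψ ρ (a⁻¹ • (A *ᵥ w)) * ρ (bl a 0 A h) := by
  have ha : a ≠ 0 := left_ne_zero_of_mul_eq_one h
  have hA : IsUnit A := (Matrix.isUnit_iff_isUnit_det A).2 (IsUnit.of_mul_eq_one_right _ h)
  let E : (Fin m → F) ≃ (Fin m → F) := Equiv.ofBijective (fun v => a⁻¹ • (v ᵥ* A))
    (Finite.injective_iff_bijective.1 fun x y hxy =>
      Matrix.vecMul_injective_iff_isUnit.2 hA (smul_right_injective _ (inv_ne_zero ha) hxy))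
  rw [eig, eig, mul_smul_comm, smul_mul_assoc, Finset.mul_sum, Finset.sum_mul]
  congr 1
  refine (Fintype.sum_equiv E _ _ fun v => ?_).symm
  rw [mul_smul_comm, smul_mul_assoc, ← map_mul, ← map_mul, qEl_mul_bl h ha]
  show _ = ψ (-(a⁻¹ • (v ᵥ* A) ⬝ᵥ w)) • ρ (bl a 0 A h * qEl (a⁻¹ • (v ᵥ* A)))
  rw [smul_dotProduct, ← Matrix.dotProduct_mulVec, dotProduct_smul]

omit [DecidableEq F] in
theorem exists_sl_smul [DecidableEq F] (hm : 2 ≤ m) {w w' : Fin m → F} (hw : w ≠ 0) (hw' : w' ≠ 0) :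
    ∃ A : SpecialLinearGroup (Fin m) F, A.1 *ᵥ w = w' := by
  rcases Nat.lt_or_ge m 3 with h | h
  · obtain rfl : m = 2 := by omega
    have key : ∀ x : Fin 2 → F, x ≠ 0 → ∃ A : SpecialLinearGroup (Fin 2) F, A.1 *ᵥ Pi.single 0 1 = x := by
      intro x hx
      by_cases h0 : x 0 = 0
      · have h1 : x 1 ≠ 0 := fun h1 => hx (funext fun i => by fin_cases i <;> simp [h0, h1])
        refine ⟨⟨!![x 0, -(x 1)⁻¹; x 1, 0], by rw [Matrix.det_fin_two_of]; field_simp; ring⟩, ?_⟩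
        funext i; fin_cases i <;> simp [Matrix.mulVec, dotProduct, Fin.sum_univ_two]
      · refine ⟨⟨!![x 0, 0; x 1, (x 0)⁻¹], by rw [Matrix.det_fin_two_of]; field_simp; ring⟩, ?_⟩
        funext i; fin_cases i <;> simp [Matrix.mulVec, dotProduct, Fin.sum_univ_two]
    obtain ⟨A, hA⟩ := key w hw
    obtain ⟨B, hB⟩ := key w' hw'
    refine ⟨B * A⁻¹, ?_⟩
    show (B.1 * (A⁻¹).1) *ᵥ w = w'
    rw [← hA, Matrix.mulVec_mulVec, Matrix.mul_assoc, inv_mul_val, Matrix.mul_one, hB]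
  · obtain ⟨g, hg⟩ := (VectorPerm.pretransitive (F := F) h).exists_smul_eq ⟨w, hw⟩ ⟨w', hw'⟩
    exact ⟨g, congrArg Subtype.val hg⟩

include hψ in
theorem mult_eq (hm : 2 ≤ m) {w w' : Fin m → F} (hw : w ≠ 0) (hw' : w' ≠ 0) :
    mult ψ ρ w = mult ψ ρ w' := by
  obtain ⟨A, hA⟩ := exists_sl_smul hm hw hw'
  have h1 : (1 : F) * A.1.det = 1 := by simp
  have hconj := bl_eig ρ (ψ := ψ) h1 w
  rw [inv_one, one_smul, hA] at hconj
  apply Nat.cast_injective (R := ℂ)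
  rw [← trace_eig ρ hψ w, ← trace_eig ρ hψ w']
  have hu : ρ ((bl 1 0 A.1 h1)⁻¹) * ρ (bl 1 0 A.1 h1) = 1 := by rw [← map_mul, inv_mul_cancel, map_one]
  have hu' : ρ (bl 1 0 A.1 h1) * ρ ((bl 1 0 A.1 h1)⁻¹) = 1 := by rw [← map_mul, mul_inv_cancel, map_one]
  calc LinearMap.trace ℂ V (eig ψ ρ w)
      = LinearMap.trace ℂ V ((ρ (bl 1 0 A.1 h1) * eig ψ ρ w) * ρ ((bl 1 0 A.1 h1)⁻¹)) := by
        rw [LinearMap.trace_mul_comm, ← mul_assoc, hu, one_mul]
    _ = LinearMap.trace ℂ V (eig ψ ρ w') := by rw [hconj, mul_assoc, hu', mul_one]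

/-- The structure of a small representation. -/
structure IsSmall (ψ : AddChar F ℂ) (ρ : Representation ℂ (SpecialLinearGroup (Fin (m + 1)) F) V) : Prop where
  orth : ∀ a : F, a ≠ 0 → ∑ x : F, ψ (a * x) = 0
  one : ∀ w : Fin m → F, w ≠ 0 → mult ψ ρ w = 1

include hψ in
/-- Either the representation is trivial, or large, or small. -/
theorem trichotomy (hm : 2 ≤ m) :
    ρ = 1 ∨ 2 * (Fintype.card F ^ m - 1) ≤ finrank ℂ V ∨
      IsSmall ψ ρ ∧ finrank ℂ V = Fintype.card F ^ m - 1 + mult ψ ρ 0 := by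
  classical
  obtain ⟨j⟩ : Nonempty (Fin m) := ⟨⟨0, by omega⟩⟩
  have he : (Pi.single j (1 : F) : Fin m → F) ≠ 0 := by simp
  have hcard : (Finset.univ.erase (0 : Fin m → F)).card = Fintype.card F ^ m - 1 := by
    rw [Finset.card_erase_of_mem (Finset.mem_univ _), Finset.card_univ, Fintype.card_fun, Fintype.card_fin]
  have hdim : finrank ℂ V = mult ψ ρ 0 + (Fintype.card F ^ m - 1) * mult ψ ρ (Pi.single j 1) := by
    have h := finrank_eq ρ hψ
    rw [← Finset.add_sum_erase _ _ (Finset.mem_univ (0 : Fin m → F)),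
      Finset.sum_congr rfl (fun w hw => by rw [mult_eq ρ hψ hm (Finset.ne_of_mem_erase hw) he]),
      Finset.sum_const, hcard, nsmul_eq_mul, ← Nat.cast_mul, ← Nat.cast_add] at h
    exact_mod_cast h
  rcases h : mult ψ ρ (Pi.single j 1) with _ | _ | d
  · left
    have h0 : ∀ w : Fin m → F, w ≠ 0 → eig ψ ρ w = 0 := fun w hw => by
      have h1 : finrank ℂ (LinearMap.range (eig ψ ρ w)) = 0 := (mult_eq ρ hψ hm hw he).trans h
      exact LinearMap.range_eq_bot.1 (Submodule.finrank_eq_zero.1 h1)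
    have h1 : eig ψ ρ (0 : Fin m → F) = 1 := by
      rw [← sum_eig ρ hψ, Finset.sum_eq_single (0 : Fin m → F) (fun w _ hw => h0 w hw)
        (fun hn => absurd (Finset.mem_univ _) hn)]
    have h2 := rho_mul_eig ρ (ψ := ψ) (Pi.single j 1) (0 : Fin m → F)
    rw [h1, mul_one, dotProduct_zero, AddChar.map_zero_eq_one, one_smul] at h2
    have h3 := kernel_eq_top hm (MonoidHom.toHomUnits (ρ : _ →* Module.End ℂ V)) (j := j) (Units.ext h2)
    refine MonoidHom.ext fun g => ?_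
    have h4 := congrArg Units.val (DFunLike.congr_fun h3 g)
    exact h4
  · right; right
    refine ⟨⟨hψ, fun w hw => (mult_eq ρ hψ hm hw he).trans h⟩, ?_⟩
    rw [hdim, h]; ring
  · right; left
    rw [hdim, h, show d + 1 + 1 = d + 2 from rfl]
    have : 2 * (Fintype.card F ^ m - 1) ≤ (Fintype.card F ^ m - 1) * (d + 2) := by
      rw [mul_comm 2]; exact Nat.mul_le_mul_left _ (by omega)
    omega

variable {ρ}

namespace IsSmall

/-- The character at a transvection. -/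
theorem char_qEl (hs : IsSmall ψ ρ) {u : Fin m → F} (hu : u ≠ 0) :
    ρ.character (qEl u) = (mult ψ ρ 0 : ℂ) - 1 := by
  classical
  rw [trace_qEl ρ hs.orth u, ← Finset.add_sum_erase _ _ (Finset.mem_univ (0 : Fin m → F)),
    dotProduct_zero, AddChar.map_zero_eq_one, one_mul,
    Finset.sum_congr rfl (fun w hw => by rw [hs.one w (Finset.ne_of_mem_erase hw), Nat.cast_one, mul_one]),
    Finset.sum_erase_eq_sub (Finset.mem_univ _), sum_psi_dot hs.orth, if_neg hu, dotProduct_zero,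
    AddChar.map_zero_eq_one]
  ring

theorem eig_scalar (hs : IsSmall ψ ρ) {w : Fin m → F} (hw : w ≠ 0) {T : Module.End ℂ V}
    (hT : Commute T (eig ψ ρ w)) :
    T * eig ψ ρ w = LinearMap.trace ℂ V (T * eig ψ ρ w) • eig ψ ρ w := by
  obtain ⟨⟨b, hb⟩, -, hspan⟩ := finrank_eq_one_iff'.1 (hs.one w hw)
  have hbv : eig ψ ρ w b = b := (isProj_eig ρ hs.orth w).map_id b hb
  obtain ⟨t, ht⟩ : ∃ t, t • b = T b := by
    obtain ⟨t, ht⟩ := hspan ⟨T b, ⟨T b, by
      have h := LinearMap.congr_fun hT.eq b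
      simp only [Module.End.mul_apply, hbv] at h
      exact h.symm⟩⟩
    exact ⟨t, congrArg Subtype.val ht⟩
  have hTE : T * eig ψ ρ w = t • eig ψ ρ w := by
    refine LinearMap.ext fun x => ?_
    obtain ⟨s, hs'⟩ := hspan ⟨eig ψ ρ w x, x, rfl⟩
    have hs'' : s • b = eig ψ ρ w x := congrArg Subtype.val hs'
    rw [Module.End.mul_apply, LinearMap.smul_apply, ← hs'', map_smul, ← ht, smul_comm]
  have htr : LinearMap.trace ℂ V (T * eig ψ ρ w) = t := by
    rw [hTE, map_smul, trace_eig ρ hs.orth, hs.one w hw, Nat.cast_one, smul_eq_mul, mul_one]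
  rw [htr, hTE]

/-- Elements of the stabiliser act through a homomorphism, so commutators act trivially. -/
theorem trace_commutator (hs : IsSmall ψ ρ) {w : Fin m → F} (hw : w ≠ 0)
    {x y : SpecialLinearGroup (Fin (m + 1)) F} (hx : Commute (ρ x) (eig ψ ρ w))
    (hy : Commute (ρ y) (eig ψ ρ w)) :
    LinearMap.trace ℂ V (ρ (x * y * x⁻¹ * y⁻¹) * eig ψ ρ w) = 1 := by
  have hinv : ∀ z, Commute (ρ z) (eig ψ ρ w) → Commute (ρ z⁻¹) (eig ψ ρ w) := fun z hz => by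
    have h1 : ρ z⁻¹ * ρ z = 1 := by rw [← map_mul, inv_mul_cancel, map_one]
    have h2 : ρ z * ρ z⁻¹ = 1 := by rw [← map_mul, mul_inv_cancel, map_one]
    show ρ z⁻¹ * eig ψ ρ w = eig ψ ρ w * ρ z⁻¹
    calc ρ z⁻¹ * eig ψ ρ w = ρ z⁻¹ * (eig ψ ρ w * ρ z) * ρ z⁻¹ := by
          rw [mul_assoc (ρ z⁻¹), mul_assoc (eig ψ ρ w), h2, mul_one]
      _ = eig ψ ρ w * ρ z⁻¹ := by rw [← hz.eq, ← mul_assoc (ρ z⁻¹), h1, one_mul]
  obtain ⟨θ, hθ⟩ : ∃ θ : SpecialLinearGroup (Fin (m + 1)) F → ℂ,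
      ∀ z, θ z = LinearMap.trace ℂ V (ρ z * eig ψ ρ w) := ⟨_, fun _ => rfl⟩
  have hE : LinearMap.trace ℂ V (eig ψ ρ w) = 1 := by
    rw [trace_eig ρ hs.orth, hs.one w hw, Nat.cast_one]
  have hmul : ∀ z z', Commute (ρ z) (eig ψ ρ w) → Commute (ρ z') (eig ψ ρ w) →
      θ (z * z') = θ z * θ z' ∧ Commute (ρ (z * z')) (eig ψ ρ w) := fun z z' hz hz' => by
    refine ⟨?_, map_mul ρ z z' ▸ hz.mul_left hz'⟩
    rw [hθ, map_mul ρ, mul_assoc, hs.eig_scalar hw hz', mul_smul_comm, map_smul, ← hθ, ← hθ,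
      smul_eq_mul, mul_comm]
  have hone : ∀ z, Commute (ρ z) (eig ψ ρ w) → θ z * θ z⁻¹ = 1 := fun z hz => by
    rw [← (hmul z z⁻¹ hz (hinv z hz)).1, mul_inv_cancel, hθ, map_one, one_mul, hE]
  rw [← hθ, (hmul _ _ (hmul _ _ (hmul x y hx hy).2 (hinv x hx)).2 (hinv y hy)).1,
    (hmul _ _ (hmul x y hx hy).2 (hinv x hx)).1, (hmul x y hx hy).1]
  linear_combination (θ y * θ y⁻¹) * hone x hx + hone y hy

end IsSmall

end Cfsg.Agent.MinDegree
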