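/-
Irreducible representations of `SL_n(q)` with a vector fixed by the stabiliser of a vector.
-/
import Cfsg.Agent.Lib.PermChar.Vectors

set_option autoImplicit false

namespace Cfsg.Agent.MinDegree

open Matrix Cfsg.Agent.Char Cfsg.Agent.VectorPerm

variable {F : Type*} [Field F] [Fintype F] [DecidableEq F] {n : ℕ}

/-- The stabiliser of a vector forces the degree. -/
theorem deg_of_fixed (hn : 3 ≤ n) {k : ℕ}
    (ρ : Representation ℂ (SpecialLinearGroup (Fin n) F) (Fin k → ℂ)) [ρ.IsIrreducible]
    (x : NZ n F) {v : Fin k → ℂ} (hv : v ≠ 0)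
    (hfix : ∀ g : SpecialLinearGroup (Fin n) F, g.1 *ᵥ x.1 = x.1 → ρ g v = v) :
    k = 1 ∨ ∃ T : ℕ, (T + 1) * (Fintype.card F - 1) = Fintype.card F ^ n - 1 ∧ T ≤ k := by
  classical
  haveI := pretransitive (F := F) hn
  obtain ⟨χ, hχ, -, hperm, T, hT, hdeg, -⟩ := main_deg (F := F) hn
  obtain ⟨S, hS⟩ : ∃ S, S = MulAction.stabilizer (SpecialLinearGroup (Fin n) F) x := ⟨_, rfl⟩
  haveI : Fintype S := Fintype.ofFinite _
  have hρc : Cfsg.IsIrrCharacter (SpecialLinearGroup (Fin n) F) ρ.character := isIrrCharacter_of_rep ρ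
  have hfix' : ∀ s : S, ρ (s : SpecialLinearGroup (Fin n) F) v = v := fun s => hfix _ (by
    have hs := s.2
    simp only [hS, MulAction.mem_stabilizer_iff] at hs
    exact congrArg Subtype.val hs)
  let σ : Representation ℂ S (Fin k → ℂ) := ρ.comp S.subtype
  let τ : Representation ℂ S ℂ := Representation.trivial ℂ S ℂ
  let f : Representation.IntertwiningMap τ σ :=
    (LinearMap.toSpanSingleton ℂ (Fin k → ℂ) v).intertwiningMap_of_isIntertwiningMap τ σ (fun s c => by
      change c • v = ρ (s : SpecialLinearGroup (Fin n) F) (c • v)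
      rw [map_smul, hfix' s])
  have hne : Cfsg.classInner σ.character τ.character ≠ 0 := by
    rw [classInner_char, Nat.cast_ne_zero]
    have hf : f ≠ 0 := fun h => hv (by
      have := LinearMap.congr_fun (congrArg Representation.IntertwiningMap.toLinearMap h) 1
      simpa [f] using this)
    haveI : Nontrivial (Representation.IntertwiningMap τ σ) := ⟨⟨f, 0, hf⟩⟩
    exact Module.finrank_pos.ne'
  have hind : Cfsg.indFun S (fun _ => (1 : ℂ)) = fun g => 1 + ∑ i, χ i g := by
    subst hS
    funext g
    rw [indFun_stabilizer (NZ n F) x g, ← hperm g]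
    norm_cast
    exact Nat.card_congr
      { toFun := fun v => ⟨v.1.1, v.1.2, congrArg Subtype.val v.2⟩
        invFun := fun v => ⟨⟨v.1, v.2.1⟩, Subtype.ext v.2.2⟩
        left_inv := fun v => rfl
        right_inv := fun v => rfl }
  have h := classInner_indFun_right S (fun _ => (1 : ℂ))
    (IsCharacter.isClassFunction (IsIrrCharacter.isCharacter hρc))
  rw [hind] at h
  have hτ : τ.character = fun _ => (1 : ℂ) := by
    funext s
    show LinearMap.trace ℂ ℂ LinearMap.id = 1
    rw [LinearMap.trace_id, Module.finrank_self, Nat.cast_one]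
  rw [hτ] at hne
  have h' : Cfsg.classInner ρ.character (fun g => 1 + ∑ i, χ i g) ≠ 0 := by
    rw [h]; exact hne
  by_contra hcon
  push Not at hcon
  refine h' ?_
  have h1 : ρ.character 1 = (k : ℂ) := by simp [Representation.char_one]
  rw [show (fun g => 1 + ∑ i, χ i g) = (fun _ => (1 : ℂ)) + ∑ i, χ i by
    funext g; simp [Finset.sum_apply], classInner_add_right, classInner_sum_right,
    classInner_irr_of_ne hρc isIrrCharacter_one (fun e => hcon.1 (by
      have h2 := congrFun e 1
      rw [h1] at h2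
      exact_mod_cast h2)), zero_add]
  refine Finset.sum_eq_zero fun i _ => classInner_irr_of_ne hρc (hχ i) fun e => ?_
  have h2 := congrFun e 1
  rw [h1] at h2
  rcases hdeg i with h3 | h3 <;> rw [h3] at h2 <;>
    · have h4 := Nat.cast_injective (R := ℂ) h2
      have := hcon.2 T hT
      omega

/-- The representation of the smallest degree. -/
theorem exists_irr (hn : 3 ≤ n) :
    ∃ T : ℕ, (T + 1) * (Fintype.card F - 1) = Fintype.card F ^ n - 1 ∧
      ∃ ρ : Representation ℂ (SpecialLinearGroup (Fin n) F) (Fin T → ℂ), ρ.IsIrreducible := by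
  obtain ⟨χ, hχ, -, -, T, hT, -, i, hi⟩ := main_deg (F := F) hn
  obtain ⟨N, ρ, hρ, hρχ⟩ := hχ i
  have hN : N = T := by
    have h := congrFun hρχ 1
    rw [Representation.char_one, hi, Module.finrank_fin_fun] at h
    exact_mod_cast h
  subst hN
  exact ⟨_, hT, ρ, hρ⟩

end Cfsg.Agent.MinDegree
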