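/-
The induction step: what a representation of `SL_{m+1}(q)` below the bound looks like.
-/
import Cfsg.Agent.Lib.MinDegree.Orbit
import Cfsg.Agent.Lib.MinDegree.Perm

set_option autoImplicit false

namespace Cfsg.Agent.MinDegree

open Matrix Module Cfsg.Agent.Char

/-- `q + q ^ 2 + ⋯ + q ^ m`. -/
def S (q m : ℕ) : ℕ := ∑ i ∈ Finset.range m, q ^ (i + 1)

theorem S_succ (q m : ℕ) : S q (m + 1) = S q m + q ^ (m + 1) := by
  rw [S, Finset.sum_range_succ]; rfl

theorem S_mul {q : ℕ} (hq : 1 ≤ q) (m : ℕ) : (S q m + 1) * (q - 1) = q ^ (m + 1) - 1 := by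
  obtain ⟨r, rfl⟩ : ∃ r, q = r + 1 := ⟨q - 1, by omega⟩
  rw [Nat.add_sub_cancel]
  induction m with
  | zero => simp [S]
  | succ m ih =>
    rw [S_succ, add_right_comm, add_mul, ih]
    have h1 : 1 ≤ (r + 1) ^ (m + 1) := Nat.one_le_pow _ _ (by omega)
    have h2 : (r + 1) ^ (m + 1 + 1) = (r + 1) ^ (m + 1) * r + (r + 1) ^ (m + 1) := by
      rw [pow_succ (r + 1) (m + 1)]; ring
    omega

theorem S_eq_div {q : ℕ} (hq : 2 ≤ q) (m : ℕ) : S q m = (q ^ (m + 1) - q) / (q - 1) := by
  have h := S_mul (show 1 ≤ q by omega) m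
  rw [add_mul, one_mul] at h
  refine (Nat.div_eq_of_eq_mul_left (by omega) ?_).symm
  omega

theorem le_of_T {q m T k : ℕ} (hq : 2 ≤ q) (hT : (T + 1) * (q - 1) = q ^ (m + 1) - 1) (h : T ≤ k) :
    S q m ≤ k := by
  have := Nat.eq_of_mul_eq_mul_right (show 0 < q - 1 by omega) (hT.trans (S_mul (by omega) m).symm)
  omega

section

variable {G : Type} [Group G] [Finite G] {W : Type} [AddCommGroup W] [Module ℂ W] [FiniteDimensional ℂ W]

/-- No vectors fixed by the whole group. -/
def NoFix (σ : Representation ℂ G W) : Prop := ∀ v : W, (∀ g, σ g v = v) → v = 0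

theorem bound_of_irr {c : ℕ} {P : ℕ → Prop}
    (H : ∀ (U : Type) [AddCommGroup U] [Module ℂ U] [FiniteDimensional ℂ U] (τ : Representation ℂ G U)
      [τ.IsIrreducible], τ ≠ 1 → c ≤ finrank ℂ U ∧ P (finrank ℂ U))
    (σ : Representation ℂ G W) (hσ : NoFix σ) :
    finrank ℂ W = 0 ∨ (c ≤ finrank ℂ W ∧ (P (finrank ℂ W) ∨ 2 * c ≤ finrank ℂ W)) := by
  revert hσ
  refine rep_induction (G := G) (P := fun W _ _ _ σ => NoFix σ →
    finrank ℂ W = 0 ∨ (c ≤ finrank ℂ W ∧ (P (finrank ℂ W) ∨ 2 * c ≤ finrank ℂ W))) ?_ ?_ ?_ W σ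
  · intro V _ _ _ _ ρ _
    exact Or.inl finrank_zero_of_subsingleton
  · intro V _ _ _ ρ _ hρ
    have hne : ρ ≠ 1 := by
      intro h
      haveI := nontrivial_of_irreducible ρ
      obtain ⟨v, hv⟩ := exists_ne (0 : V)
      exact hv (hρ v fun g => by rw [h]; rfl)
    exact Or.inr ⟨(H V ρ hne).1, Or.inl (H V ρ hne).2⟩
  · intro V _ _ _ ρ a b hab ha hb hρ
    have hsum := Submodule.finrank_add_eq_of_isCompl (isCompl_toSubmodule hab)
    have hna : NoFix a.toRepresentation := fun v hv =>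
      Subtype.ext (hρ v.1 fun g => congrArg Subtype.val (hv g))
    have hnb : NoFix b.toRepresentation := fun v hv =>
      Subtype.ext (hρ v.1 fun g => congrArg Subtype.val (hv g))
    rcases ha hna with h1 | ⟨h1, h1'⟩
    · rcases hb hnb with h2 | h2
      · left; omega
      · right
        rw [show finrank ℂ V = finrank ℂ b.toSubmodule by omega]
        exact h2
    · rcases hb hnb with h2 | ⟨h2, h2'⟩
      · right
        rw [show finrank ℂ V = finrank ℂ a.toSubmodule by omega]
        exact ⟨h1, h1'⟩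
      · right
        exact ⟨by omega, Or.inr (by omega)⟩

end

variable {F : Type} [Field F] [Fintype F] [DecidableEq F] {m : ℕ}
variable {V : Type} [AddCommGroup V] [Module ℂ V] [FiniteDimensional ℂ V]
variable {ψ : AddChar F ℂ} {ρ : Representation ℂ (SpecialLinearGroup (Fin (m + 1)) F) V}

/-- Conditions under which the stabiliser of a dual vector kills transvections. -/
def Phased (q m : ℕ) : Prop := 4 ≤ m ∨ (m = 3 ∧ 4 ≤ q) ∨ (m = 2 ∧ q ≠ 2 ∧ q ≠ 4)

theorem comm_of_stab {a : F} {A : Matrix (Fin m) (Fin m) F} (h : a * A.det = 1) {w : Fin m → F}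
    (hw : A *ᵥ w = a • w) : Commute (ρ (bl a 0 A h)) (eig ψ ρ w) := by
  have ha : a ≠ 0 := left_ne_zero_of_mul_eq_one h
  have he := bl_eig ρ (ψ := ψ) h w
  rw [hw, smul_smul, inv_mul_cancel₀ ha, one_smul] at he
  exact he

theorem comm_emb {A : SpecialLinearGroup (Fin m) F} {w : Fin m → F} (hw : A.1 *ᵥ w = w) :
    Commute (ρ (emb A)) (eig ψ ρ w) :=
  comm_of_stab (a := 1) (by simp) (by rw [one_smul, hw])

theorem transvection_mulVec {i j : Fin m} (h : i ≠ j) (c : F) (w : Fin m → F) :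
    (SpecialLinearGroup.transvection h c).1 *ᵥ w = w + Pi.single i (c * w j) := by
  rw [SpecialLinearGroup.transvection_coe, Matrix.add_mulVec, Matrix.one_mulVec, Matrix.single_mulVec]
  rfl

/-- Every transvection fixing `w` is a commutator in the stabiliser of `w`. -/
theorem exists_commutator (hph : Phased (Fintype.card F) m) {i₀ i₁ : Fin m} (h0 : (i₀ : ℕ) = 0)
    (h1 : (i₁ : ℕ) = 1) (h01 : i₀ ≠ i₁) (c : F) {w : Fin m → F} (hw : w i₁ = 0) :
    ∃ x y, Commute (ρ x) (eig ψ ρ w) ∧ Commute (ρ y) (eig ψ ρ w) ∧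
      x * y * x⁻¹ * y⁻¹ = emb (SpecialLinearGroup.transvection h01 c) := by
  have hfix : ∀ s : F, (SpecialLinearGroup.transvection h01 s).1 *ᵥ w = w := fun s => by
    rw [transvection_mulVec, hw, mul_zero, Pi.single_zero, add_zero]
  -- a diagonal-like element scaling the root subgroup
  have htor : ∀ (a r : F) (A : Matrix (Fin m) (Fin m) F) (h : a * A.det = 1), r ≠ 1 → A *ᵥ w = a • w →
      (∀ s : F, A * Matrix.single i₀ i₁ s = Matrix.single i₀ i₁ (r * s) * A) →
      ∃ x y, Commute (ρ x) (eig ψ ρ w) ∧ Commute (ρ y) (eig ψ ρ w) ∧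
        x * y * x⁻¹ * y⁻¹ = emb (SpecialLinearGroup.transvection h01 c) := by
    intro a r A h hr hA hscal
    obtain ⟨s, hs⟩ : ∃ s, r * s - s = c :=
      ⟨c / (r - 1), by field_simp [sub_ne_zero.2 hr]⟩
    refine ⟨bl a 0 A h, emb (SpecialLinearGroup.transvection h01 s), comm_of_stab h hA,
      comm_emb (hfix s), ?_⟩
    rw [mul_inv_eq_iff_eq_mul, mul_inv_eq_iff_eq_mul, ← map_mul emb]
    have e : SpecialLinearGroup.transvection h01 c * SpecialLinearGroup.transvection h01 s =
        SpecialLinearGroup.transvection h01 (r * s) := by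
      refine Subtype.ext ?_
      show (SpecialLinearGroup.transvection h01 c).1 * (SpecialLinearGroup.transvection h01 s).1 = _
      rw [SpecialLinearGroup.transvection_coe, SpecialLinearGroup.transvection_coe,
        SpecialLinearGroup.transvection_coe, mul_add, mul_one, add_mul, one_mul,
        Matrix.single_mul_single_of_ne _ _ _ _ h01.symm, add_zero, add_assoc, ← Matrix.single_add]
      congr 2
      linear_combination -hs
    rw [e]
    refine Subtype.ext ?_
    show blMat a 0 A * blMat 1 0 _ = blMat 1 0 _ * blMat a 0 A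
    rw [blMat_mul, blMat_mul, SpecialLinearGroup.transvection_coe, SpecialLinearGroup.transvection_coe,
      Matrix.mul_add, Matrix.add_mul, Matrix.mul_one, Matrix.one_mul, hscal s]
    simp
  rcases hph with hm | ⟨rfl, hq⟩ | ⟨rfl, hq2, hq4⟩
  · -- two commuting root elements
    have main : ∀ (k l : Fin m), k ≠ i₀ → k ≠ i₁ → l ≠ i₀ → l ≠ i₁ → k ≠ l → (w k = 0 ∨ w l ≠ 0) →
        ∃ x y, Commute (ρ x) (eig ψ ρ w) ∧ Commute (ρ y) (eig ψ ρ w) ∧
          x * y * x⁻¹ * y⁻¹ = emb (SpecialLinearGroup.transvection h01 c) := by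
      intro k l hk0 hk1 hl0 hl1 hkl hwkl
      obtain ⟨c', hc'⟩ : ∃ c' : F, c * w k + c' * w l = 0 := by
        rcases hwkl with h | h
        · exact ⟨0, by rw [h, mul_zero, zero_mul, add_zero]⟩
        · exact ⟨-(c * w k) / w l, by field_simp; ring⟩
      refine ⟨emb (SpecialLinearGroup.transvection hk0.symm c * SpecialLinearGroup.transvection hl0.symm c'),
        emb (SpecialLinearGroup.transvection hk1 1), comm_emb ?_, comm_emb ?_, ?_⟩
      · show ((SpecialLinearGroup.transvection hk0.symm c).1 *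
          (SpecialLinearGroup.transvection hl0.symm c').1) *ᵥ w = w
        rw [← Matrix.mulVec_mulVec, transvection_mulVec, transvection_mulVec, Pi.add_apply,
          Pi.single_eq_of_ne hk0, add_zero, add_assoc, ← Pi.single_add, add_comm (c' * w l), hc',
          Pi.single_zero, add_zero]
      · rw [transvection_mulVec, hw, mul_zero, Pi.single_zero, add_zero]
      · rw [← map_inv, ← map_inv, ← map_mul, ← map_mul, ← map_mul]
        congr 1
        have hc : Commute (SpecialLinearGroup.transvection hl0.symm c')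
            (SpecialLinearGroup.transvection hk1 (1 : F)) := by
          refine Subtype.ext ?_
          show (SpecialLinearGroup.transvection hl0.symm c').1 * (SpecialLinearGroup.transvection hk1 (1 : F)).1 =
            (SpecialLinearGroup.transvection hk1 (1 : F)).1 * (SpecialLinearGroup.transvection hl0.symm c').1
          simp only [SpecialLinearGroup.transvection_coe, mul_add, add_mul, mul_one, one_mul,
            Matrix.single_mul_single_of_ne _ _ _ _ (Ne.symm hkl),
            Matrix.single_mul_single_of_ne _ _ _ _ (Ne.symm h01)]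
          abel
        have := ClassicalSL.commutator_transvection h01 hk0.symm hk1 c (1 : F)
        rw [commutatorElement_def, mul_one] at this
        rw [← this, _root_.mul_inv_rev, mul_assoc (SpecialLinearGroup.transvection hk0.symm c), hc.eq]
        group
    by_cases hw3 : w ⟨3, by omega⟩ = 0
    · exact main ⟨3, by omega⟩ ⟨2, by omega⟩ (by simp [Fin.ext_iff, h0]) (by simp [Fin.ext_iff, h1])
        (by simp [Fin.ext_iff, h0]) (by simp [Fin.ext_iff, h1]) (by simp [Fin.ext_iff]) (Or.inl hw3)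
    · exact main ⟨2, by omega⟩ ⟨3, by omega⟩ (by simp [Fin.ext_iff, h0]) (by simp [Fin.ext_iff, h1])
        (by simp [Fin.ext_iff, h0]) (by simp [Fin.ext_iff, h1]) (by simp [Fin.ext_iff]) (Or.inr hw3)
  · obtain rfl : i₀ = 0 := Fin.ext h0
    obtain rfl : i₁ = 1 := Fin.ext h1
    have hscal : ∀ (α β : F) (A : Matrix (Fin 3) (Fin 3) F), A 1 0 = 0 → A 2 0 = 0 → A 1 2 = 0 →
        A 0 0 = α → A 1 1 = β → β ≠ 0 → ∀ s : F,
        A * Matrix.single 0 1 s = Matrix.single 0 1 (α / β * s) * A := by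
      intro α β A a10 a20 a12 hα hβ hβ0 s
      ext i j
      fin_cases i <;> fin_cases j <;>
        simp [Matrix.mul_apply, Matrix.single_apply, Fin.sum_univ_three, a10, a20, a12, hα, hβ] <;>
        field_simp
    obtain ⟨b, hb⟩ : ∃ b : F, b ≠ 0 ∧ b ^ 2 ≠ 1 := by
      by_contra hc
      push Not at hc
      have hsub : (Finset.univ : Finset F) ⊆ {0, 1, -1} := fun x _ => by
        by_cases hx : x = 0
        · simp [hx]
        · rcases sq_eq_one_iff.1 (hc x hx) with rfl | rfl <;> simp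
      have := (Finset.card_le_card hsub).trans Finset.card_le_three
      rw [Finset.card_univ] at this
      omega
    by_cases hw2 : w 2 = 0
    · refine htor 1 b (Matrix.diagonal ![1, b⁻¹, b]) (by simp [Matrix.det_diagonal, Fin.prod_univ_three, hb.1])
        (fun e => hb.2 (by rw [e, one_pow])) ?_ ?_
      · funext i
        fin_cases i <;> simp [Matrix.mulVec_diagonal, hw2, hw]
      · intro s
        rw [hscal 1 b⁻¹ _ (by simp) (by simp) (by simp) (by simp) (by simp) (inv_ne_zero hb.1) s,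
          one_div, inv_inv]
    · refine htor 1 (b ^ 2) !![b, 0, (1 - b) * w 0 / w 2; 0, b⁻¹, 0; 0, 0, 1]
        (by simp [Matrix.det_fin_three, hb.1]) hb.2 ?_ ?_
      · funext i
        fin_cases i <;> simp [Matrix.mulVec, dotProduct, Fin.sum_univ_three, hw] <;> field_simp <;> ring
      · intro s
        rw [hscal b b⁻¹ _ (by simp) (by simp) (by simp) (by simp) (by simp) (inv_ne_zero hb.1) s,
          div_inv_eq_mul, ← sq]
  · obtain rfl : i₀ = 0 := Fin.ext h0
    obtain rfl : i₁ = 1 := Fin.ext h1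
    obtain ⟨b, hb0, hb⟩ : ∃ b : F, b ≠ 0 ∧ b ^ 3 ≠ 1 := by
      classical
      by_contra hc
      push Not at hc
      have h3 : ∀ u : Fˣ, u ^ 3 = 1 := fun u => Units.ext (by simpa using hc u u.ne_zero)
      obtain ⟨g, hg⟩ := IsCyclic.exists_ofOrder_eq_natCard (α := Fˣ)
      have hd : Fintype.card F - 1 ∣ 3 := by
        rw [← Fintype.card_units, ← Nat.card_eq_fintype_card, ← hg]
        exact orderOf_dvd_of_pow_eq_one (h3 g)
      have h2 := Fintype.one_lt_card (α := F)
      rcases (Nat.dvd_prime Nat.prime_three).1 hd with h | h <;> omega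
    refine htor b (b ^ 3) !![b, 0; 0, (b ^ 2)⁻¹]
      (by rw [Matrix.det_fin_two_of]; field_simp; ring) hb ?_ ?_
    · funext i
      fin_cases i <;> simp [Matrix.mulVec, dotProduct, Fin.sum_univ_two, hw]
    · intro s
      ext i j
      fin_cases i <;> fin_cases j <;>
        simp [Matrix.mul_apply, Matrix.single_apply, Fin.sum_univ_two] <;> field_simp

/-- The trace of a transvection of the Levi factor on the fixed space. -/
theorem trace_levi (hs : IsSmall ψ ρ) (hph : Phased (Fintype.card F) m) {i₀ i₁ : Fin m} (h0 : (i₀ : ℕ) = 0)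
    (h1 : (i₁ : ℕ) = 1) (h01 : i₀ ≠ i₁) {c : F} (hc : c ≠ 0) :
    LinearMap.trace ℂ V (ρ (emb (SpecialLinearGroup.transvection h01 c)) * eig ψ ρ 0) =
      (mult ψ ρ 0 : ℂ) - (Fintype.card F : ℂ) ^ (m - 1) := by
  classical
  have hm2 : 2 ≤ m := by have := i₁.isLt; omega
  obtain ⟨t, ht⟩ : ∃ t, t = emb (SpecialLinearGroup.transvection h01 c) := ⟨_, rfl⟩
  rw [← ht]
  have htot : ρ.character t = (mult ψ ρ 0 : ℂ) - 1 := by
    obtain ⟨g, hg⟩ := isConj_iff.1 (isConj_transvection hm2
      (fun e => h01 (Fin.succ_injective m e) : i₀.succ ≠ i₁.succ) hc i₀)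
    rw [← emb_transvection h01 c, ← ht] at hg
    rw [← hg, Representation.char_conj]
    exact hs.char_qEl (by simp)
  have hterm : ∀ w : Fin m → F, w ≠ 0 → LinearMap.trace ℂ V (ρ t * eig ψ ρ w) =
      if w i₁ = 0 then 1 else 0 := by
    intro w hw
    split_ifs with hwi
    · obtain ⟨x, y, hx, hy, hxy⟩ := exists_commutator (ρ := ρ) (ψ := ψ) hph h0 h1 h01 c hwi
      rw [ht, ← hxy]
      exact hs.trace_commutator hw hx hy
    · have hmove : (SpecialLinearGroup.transvection h01 c).1 *ᵥ w ≠ w := by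
        intro e
        rw [transvection_mulVec] at e
        have := congrFun e i₀
        simp [hc, hwi] at this
      obtain ⟨w', hw'⟩ : ∃ w', w' = (SpecialLinearGroup.transvection h01 c).1 *ᵥ w := ⟨_, rfl⟩
      have he : ρ t * eig ψ ρ w = eig ψ ρ w' * ρ t := by
        have h := bl_eig ρ (ψ := ψ) (a := 1) (A := (SpecialLinearGroup.transvection h01 c).1) (by simp) w
        rw [inv_one, one_smul, ← hw'] at h
        rw [ht]
        exact h
      have hee := eig_mul_eig ρ hs.orth w w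
      rw [if_pos rfl] at hee
      calc LinearMap.trace ℂ V (ρ t * eig ψ ρ w)
          = LinearMap.trace ℂ V ((ρ t * eig ψ ρ w) * eig ψ ρ w) := by rw [mul_assoc, hee]
        _ = LinearMap.trace ℂ V (eig ψ ρ w * (ρ t * eig ψ ρ w)) := LinearMap.trace_mul_comm _ _ _
        _ = 0 := by
          rw [he, ← mul_assoc, eig_mul_eig ρ hs.orth, if_neg (by rw [hw']; exact fun e => hmove e.symm),
            zero_mul, map_zero]
  have hcount : (∑ w ∈ Finset.univ.erase (0 : Fin m → F), if w i₁ = 0 then (1 : ℂ) else 0) =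
      (Fintype.card F : ℂ) ^ (m - 1) - 1 := by
    rw [Finset.sum_erase_eq_sub (Finset.mem_univ _), Finset.sum_boole, if_pos (Pi.zero_apply i₁)]
    congr 1
    rw [← Fintype.card_subtype, ← Nat.cast_pow, Nat.cast_inj,
      ← show Fintype.card ({j // j ≠ i₁} → F) = Fintype.card F ^ (m - 1) by
        rw [Fintype.card_fun, Fintype.card_subtype_compl, Fintype.card_subtype_eq, Fintype.card_fin]]
    exact Fintype.card_congr
      { toFun := fun w j => w.1 j.1
        invFun := fun u => ⟨fun j => if h : j = i₁ then 0 else u ⟨j, h⟩, dif_pos rfl⟩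
        left_inv := fun w => Subtype.ext (funext fun j => by
          dsimp only
          split_ifs with h
          · rw [h, w.2]
          · rfl)
        right_inv := fun u => funext fun j => dif_neg j.2 }
  have hdec : ρ.character t = LinearMap.trace ℂ V (ρ t * eig ψ ρ 0) +
      ((Fintype.card F : ℂ) ^ (m - 1) - 1) := by
    show LinearMap.trace ℂ V (ρ t) = _
    conv_lhs => rw [← mul_one (ρ t), ← sum_eig ρ hs.orth, Finset.mul_sum, map_sum,
      ← Finset.add_sum_erase _ _ (Finset.mem_univ (0 : Fin m → F))]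
    rw [Finset.sum_congr rfl fun w hw => hterm w (Finset.ne_of_mem_erase hw), hcount]
  linear_combination htot - hdec

theorem mem_eig_zero (A : SpecialLinearGroup (Fin m) F) (x : V) (hx : x ∈ LinearMap.range (eig ψ ρ 0)) :
    ρ (emb A) x ∈ LinearMap.range (eig ψ ρ 0) := by
  obtain ⟨y, rfl⟩ := hx
  exact ⟨ρ (emb A) y, (LinearMap.congr_fun (comm_emb (ρ := ρ) (ψ := ψ) (A := A)
    (Matrix.mulVec_zero A.1)).eq y).symm⟩

variable (ψ ρ) in
/-- The Levi factor on the fixed space. -/
noncomputable def levi : Representation ℂ (SpecialLinearGroup (Fin m) F) (LinearMap.range (eig ψ ρ 0)) where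
  toFun A := (ρ (emb A)).restrict (mem_eig_zero A)
  map_one' := LinearMap.ext fun x => Subtype.ext (by simp)
  map_mul' A B := LinearMap.ext fun x => Subtype.ext (by simp)

theorem levi_character (hs : IsSmall ψ ρ) (A : SpecialLinearGroup (Fin m) F) :
    (levi ψ ρ).character A = LinearMap.trace ℂ V (ρ (emb A) * eig ψ ρ 0) := by
  have hmap : ∀ x, (ρ (emb A) * eig ψ ρ 0) x ∈ LinearMap.range (eig ψ ρ 0) := fun x =>
    mem_eig_zero A _ ⟨x, rfl⟩
  rw [← LinearMap.trace_restrict_eq_of_forall_mem _ (ρ (emb A) * eig ψ ρ 0) hmap]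
  show LinearMap.trace ℂ _ _ = _
  congr 1
  refine LinearMap.ext fun x => Subtype.ext ?_
  show ρ (emb A) x.1 = ρ (emb A) (eig ψ ρ 0 x.1)
  rw [(isProj_eig ρ hs.orth 0).map_id _ x.2]

/-- Everything known about a representation below the bound. -/
theorem step (hm : 2 ≤ m) [ρ.IsIrreducible] (hρ : ρ ≠ 1) (hlt : finrank ℂ V < S (Fintype.card F) m) :
    ∃ ψ : AddChar F ℂ, ∃ f : ℕ, IsSmall ψ ρ ∧ f = mult ψ ρ 0 ∧
      finrank ℂ V = Fintype.card F ^ m - 1 + f ∧ NoFix (levi ψ ρ) ∧
      ∃ z : ℤ, ((S (Fintype.card F) m : ℤ) + 1) * ((Fintype.card F : ℤ) ^ m - 1) * ((f : ℤ) - 1) =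
        z * (finrank ℂ V : ℤ) := by
  classical
  obtain ⟨ψ, hψ⟩ := exists_psi F
  obtain ⟨q, hq⟩ : ∃ q, Fintype.card F = q := ⟨_, rfl⟩
  have hq2 : 2 ≤ q := hq ▸ Fintype.one_lt_card
  have hqm : q ^ 2 ≤ q ^ m := Nat.pow_le_pow_right (by omega) hm
  have hq4 : 4 ≤ q ^ 2 := Nat.pow_le_pow_left hq2 2
  rcases trichotomy ρ hψ hm with h | h | ⟨hs, hk⟩
  · exact absurd h hρ
  · exfalso
    rw [hq] at h hlt
    have hS := S_mul (show 1 ≤ q by omega) m
    obtain ⟨s, hs⟩ : ∃ s, S q m = s := ⟨_, rfl⟩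
    rw [hs] at hlt hS
    have : s ≤ 2 * (q ^ m - 1) := by
      rw [pow_succ] at hS
      obtain ⟨r, rfl⟩ : ∃ r, q = r + 2 := ⟨q - 2, by omega⟩
      rw [show r + 2 - 1 = r + 1 by omega] at hS
      obtain ⟨Q, hQ⟩ : ∃ Q, (r + 2) ^ m = Q := ⟨_, rfl⟩
      rw [hQ] at hS hqm ⊢
      have h1 : 1 ≤ Q * (r + 2) := Nat.one_le_iff_ne_zero.2 (by
        intro e; rcases Nat.mul_eq_zero.1 e with e | e <;> omega)
      have hS' : (s + 1) * (r + 1) + 1 = Q * (r + 2) := by omega
      have h4 : 4 ≤ Q := by omega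
      obtain ⟨Q', rfl⟩ : ∃ Q', Q = Q' + 1 := ⟨Q - 1, by omega⟩
      rw [Nat.add_sub_cancel]
      nlinarith
    omega
  refine ⟨ψ, _, hs, rfl, hk, ?_, ?_⟩
  · intro v hv
    by_contra hv0
    let e := (Module.finBasis ℂ V).equivFun
    haveI : (transport ρ e).IsIrreducible := isIrreducible_of_equiv (transportEquiv ρ e)
    have hv' : e v.1 ≠ 0 := fun h => hv0 (Subtype.ext (e.map_eq_zero_iff.1 h))
    have hfix : ∀ g : SpecialLinearGroup (Fin (m + 1)) F, g.1 *ᵥ Pi.single 0 1 = Pi.single 0 1 →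
        transport ρ e g (e v.1) = e v.1 := by
      intro g hg
      obtain ⟨u, A, rfl⟩ := stab_single hg
      rw [transport_apply, e.symm_apply_apply, map_mul, Module.End.mul_apply]
      congr 1
      have h1 : ρ (qEl u) v.1 = v.1 := by
        obtain ⟨⟨y, z, rfl⟩, rfl⟩ : ∃ y, y = v := ⟨v, rfl⟩
        have h2 := LinearMap.congr_fun (rho_mul_eig ρ (ψ := ψ) u 0) z
        rwa [dotProduct_zero, AddChar.map_zero_eq_one, one_smul, Module.End.mul_apply] at h2
      rw [h1]
      exact congrArg Subtype.val (hv A)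
    rcases deg_of_fixed (n := m + 1) (by omega) (transport ρ e) ⟨Pi.single 0 1, by simp⟩ hv' hfix with h | ⟨T, hT, hTk⟩
    · have : 1 ≤ q ^ m := by omega
      rw [hq] at hk
      omega
    · exact absurd (le_of_T (hq ▸ hq2) hT hTk) (by omega)
  · obtain ⟨j⟩ : Nonempty (Fin m) := ⟨⟨0, by omega⟩⟩
    obtain ⟨N, hN⟩ : ∃ N, N = (Subgroup.centralizer ({qEl (Pi.single j (1 : F))} : Set
        (SpecialLinearGroup (Fin (m + 1)) F))).index := ⟨_, rfl⟩
    have hcl := card_class (F := F) hm j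
    rw [← hN, ← S_mul (Fintype.card_pos) m, mul_comm (S _ m + 1), mul_assoc] at hcl
    have hN' : N = (S (Fintype.card F) m + 1) * (Fintype.card F ^ m - 1) :=
      Nat.eq_of_mul_eq_mul_left (show 0 < Fintype.card F - 1 by omega) hcl
    have hint := Char.isIntegral_centralChar ρ (qEl (Pi.single j (1 : F)))
    rw [← hN, hs.char_qEl (by simp)] at hint
    obtain ⟨z, hz⟩ := exists_int_of_isIntegral
      (q := (N : ℚ) * ((mult ψ ρ 0 : ℚ) - 1) / (finrank ℂ V : ℚ)) (by push_cast; exact hint)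
    refine ⟨z, ?_⟩
    have hk0 : (finrank ℂ V : ℚ) ≠ 0 := Nat.cast_ne_zero.2 (finrank_pos_of_irreducible ρ).ne'
    rw [div_eq_iff hk0] at hz
    have hz' : (N : ℤ) * ((mult ψ ρ 0 : ℤ) - 1) = z * (finrank ℂ V : ℤ) := by exact_mod_cast hz
    rw [← hz', hN']
    push_cast [Nat.one_le_pow m (Fintype.card F) Fintype.card_pos]
    ring

end Cfsg.Agent.MinDegree
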