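/-
The smallest degree of a non-trivial irreducible representation of `SL_n(q)`.
-/
import Cfsg.Agent.Lib.MinDegree.Step
import Mathlib.Algebra.IsPrimePow
import Mathlib.FieldTheory.Finite.Basic

set_option autoImplicit false

namespace Cfsg.Agent.MinDegree

open Matrix Module Cfsg.Agent.Char

variable {F : Type} [Field F] [Fintype F] [DecidableEq F]

/-- The bound holds in degree `m + 1`. -/
def Bound (F : Type) [Field F] [Fintype F] [DecidableEq F] (m : ℕ) (P : ℕ → Prop) : Prop :=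
  ∀ (U : Type) [AddCommGroup U] [Module ℂ U] [FiniteDimensional ℂ U]
    (τ : Representation ℂ (SpecialLinearGroup (Fin (m + 1)) F) U) [τ.IsIrreducible], τ ≠ 1 → P (finrank ℂ U)

theorem S_two (q : ℕ) : S q 2 = q + q ^ 2 := by simp [S, Finset.sum_range_succ]

theorem S_three (q : ℕ) : S q 3 = q + q ^ 2 + q ^ 3 := by simp [S, Finset.sum_range_succ]

theorem S_four (q : ℕ) : S q 4 = q + q ^ 2 + q ^ 3 + q ^ 4 := by simp [S, Finset.sum_range_succ]

theorem le_S (q : ℕ) {m : ℕ} (hm : 1 ≤ m) : q ^ m ≤ S q m := by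
  obtain ⟨k, rfl⟩ : ∃ k, m = k + 1 := ⟨m - 1, by omega⟩
  rw [S_succ]; omega

/-- In the phased range the fixed space is not killed by the transvections of the Levi factor. -/
theorem fixed_ne_zero {m : ℕ} (hm : 2 ≤ m) {V : Type} [AddCommGroup V] [Module ℂ V] [FiniteDimensional ℂ V]
    {ψ : AddChar F ℂ} {ρ : Representation ℂ (SpecialLinearGroup (Fin (m + 1)) F) V}
    (hs : IsSmall ψ ρ) (hph : Phased (Fintype.card F) m) : mult ψ ρ 0 ≠ 0 := by
  intro h0
  have h01 : (⟨0, by omega⟩ : Fin m) ≠ ⟨1, by omega⟩ := by simp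
  have h := trace_levi hs hph (i₀ := ⟨0, by omega⟩) (i₁ := ⟨1, by omega⟩) rfl rfl h01 (one_ne_zero (α := F))
  have he : eig ψ ρ (0 : Fin m → F) = 0 :=
    LinearMap.range_eq_bot.1 (Submodule.finrank_eq_zero.1 h0)
  rw [he, mul_zero, map_zero, h0, Nat.cast_zero, zero_sub, eq_comm, neg_eq_zero] at h
  exact pow_ne_zero _ (Nat.cast_ne_zero.2 Fintype.card_ne_zero) h

theorem kill_pred {q m k : ℕ} (hq : 2 ≤ q) (hm : 1 ≤ m) (hk : k + 1 = S q (m + 1))
    {z f : ℤ} (hf : (k : ℤ) = (q : ℤ) ^ (m + 1) - 1 + f)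
    (h : ((S q (m + 1) : ℤ) + 1) * ((q : ℤ) ^ (m + 1) - 1) * (f - 1) = z * (k : ℤ)) : False := by
  have hS1 := S_mul (show 1 ≤ q by omega) m
  obtain ⟨A, hA⟩ : ∃ A : ℤ, A = (S q m : ℤ) + 1 := ⟨_, rfl⟩
  have hpow : ((q : ℤ) ^ (m + 1) - 1) = A * ((q : ℤ) - 1) := by
    have h' : ((((S q m + 1) * (q - 1) : ℕ)) : ℤ) = ((q ^ (m + 1) - 1 : ℕ) : ℤ) := by rw [hS1]
    push_cast [Nat.one_le_pow (m + 1) q (by omega), show 1 ≤ q by omega] at h'
    rw [hA]; linarith
  have hSq : (q : ℤ) * A = (k : ℤ) + 1 := by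
    have h1 : (S q (m + 1) : ℤ) = (S q m : ℤ) + (q : ℤ) ^ (m + 1) := by rw [S_succ]; push_cast; rfl
    have h2 : ((k : ℤ) + 1) = (S q (m + 1) : ℤ) := by exact_mod_cast hk
    rw [h2, h1, hA]
    linear_combination (-1 : ℤ) * hpow + (-((q : ℤ) - 1)) * hA
  have hdvd : (k : ℤ) ∣ 2 * ((q : ℤ) - 1) := by
    have h2 : ((S q (m + 1) : ℤ) + 1) = (k : ℤ) + 2 := by
      rw [← show ((k + 1 : ℕ) : ℤ) = (S q (m + 1) : ℤ) by rw [hk]]; push_cast; ring
    rw [h2, hpow, show f - 1 = (k : ℤ) - (q : ℤ) ^ (m + 1) by linarith] at h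
    have hX : (k : ℤ) ∣ 2 * ((q : ℤ) - 1) * A * (q : ℤ) ^ (m + 1) :=
      ⟨((k : ℤ) + 2) * (A * ((q : ℤ) - 1)) - A * ((q : ℤ) - 1) * (q : ℤ) ^ (m + 1) - z, by
        linear_combination (-1 : ℤ) * h⟩
    have hgeo : (k : ℤ) ∣ ((q : ℤ) * A) ^ (m + 1) - 1 := by
      have h3 := sub_dvd_pow_sub_pow ((q : ℤ) * A) 1 (m + 1)
      rw [one_pow] at h3
      exact dvd_trans ⟨1, by rw [hSq]; ring⟩ h3
    have h4 := dvd_sub (hX.mul_right (A ^ m)) (hgeo.mul_left (2 * ((q : ℤ) - 1)))
    have e : 2 * ((q : ℤ) - 1) * A * (q : ℤ) ^ (m + 1) * A ^ m - 2 * ((q : ℤ) - 1) * (((q : ℤ) * A) ^ (m + 1) - 1) =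
        2 * ((q : ℤ) - 1) := by rw [mul_pow]; ring
    rwa [e] at h4
  have hle := Int.le_of_dvd (by omega) hdvd
  have hge := le_S q (show 1 ≤ m + 1 by omega)
  have hS : q ^ (m + 1) + q ≤ S q (m + 1) := by
    rw [S_succ]
    have := le_S q hm
    have h1 : q ≤ q ^ m := Nat.le_self_pow (by omega) q
    omega
  have hsq : q ^ 2 ≤ q ^ (m + 1) := Nat.pow_le_pow_right (by omega) (by omega)
  have : 2 * q ≤ q ^ 2 := by nlinarith
  omega

/-- `SL_3(q)`, `q ≠ 2, 4`. -/
theorem bound_three (hq2 : Fintype.card F ≠ 2) (hq4 : Fintype.card F ≠ 4) :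
    Bound F 2 fun k => S (Fintype.card F) 2 ≤ k := by
  intro V _ _ _ ρ _ hρ
  by_contra hlt
  rw [not_le] at hlt
  obtain ⟨ψ, f, hs, hf, hk, -, z, hz⟩ := step le_rfl hρ hlt
  obtain ⟨q, hq⟩ : ∃ q, Fintype.card F = q := ⟨_, rfl⟩
  have h01 : (0 : Fin 2) ≠ 1 := by simp
  -- averaging over a root subgroup
  let j : Multiplicative F →* SpecialLinearGroup (Fin 2) F :=
    { toFun := fun c => SpecialLinearGroup.transvection h01 c.toAdd
      map_one' := Subtype.ext (by simp [SpecialLinearGroup.transvection_coe])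
      map_mul' := fun a b => Subtype.ext (by
        show _ = (SpecialLinearGroup.transvection h01 a.toAdd).1 * (SpecialLinearGroup.transvection h01 b.toAdd).1
        simp only [SpecialLinearGroup.transvection_coe, mul_add, add_mul, mul_one, one_mul,
          Matrix.single_mul_single_of_ne _ _ _ _ h01.symm, add_zero, toAdd_mul, Matrix.single_add]
        abel) }
  let σ : Representation ℂ (Multiplicative F) _ := (levi ψ ρ).comp j
  let τ : Representation ℂ (Multiplicative F) ℂ := Representation.trivial ℂ (Multiplicative F) ℂ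
  obtain ⟨d, hd⟩ : ∃ d : ℕ, Cfsg.classInner σ.character τ.character = d := ⟨_, classInner_char τ σ⟩
  have hσ : ∀ c : Multiplicative F, σ.character c = if c = 1 then (f : ℂ) else (f : ℂ) - q := by
    intro c
    show (levi ψ ρ).character (j c) = _
    split_ifs with hc
    · rw [hc, map_one, Representation.char_one, hf]; rfl
    · rw [levi_character hs, hf]
      have h := trace_levi hs (Or.inr (Or.inr ⟨rfl, hq2, hq4⟩)) (i₀ := 0) (i₁ := 1) rfl rfl h01
        (c := c.toAdd) (fun e => hc (toAdd_eq_zero.1 e))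
      refine h.trans ?_
      rw [hq, show (2 - 1 : ℕ) = 1 from rfl, pow_one]
  have hτ : ∀ c : Multiplicative F, τ.character c = 1 := fun c => by
    show LinearMap.trace ℂ ℂ LinearMap.id = 1
    rw [LinearMap.trace_id, Module.finrank_self, Nat.cast_one]
  rw [Cfsg.classInner, ← Finset.add_sum_erase _ _ (Finset.mem_univ (1 : Multiplicative F)),
    hσ, if_pos rfl, hτ, map_one, mul_one,
    Finset.sum_congr rfl (fun c hc => by rw [hσ, if_neg (Finset.ne_of_mem_erase hc), hτ, map_one, mul_one]),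
    Finset.sum_const, Finset.card_erase_of_mem (Finset.mem_univ _), Finset.card_univ,
    Fintype.card_multiplicative, Nat.card_eq_fintype_card, Fintype.card_multiplicative, hq, nsmul_eq_mul] at hd
  have hq1 : 1 ≤ q := hq ▸ Fintype.card_pos
  have hfd : (q : ℤ) * d + (q : ℤ) * ((q : ℤ) - 1) = (q : ℤ) * f := by
    have hqc : (q : ℂ) ≠ 0 := Nat.cast_ne_zero.2 (by omega)
    rw [inv_mul_eq_iff_eq_mul₀ hqc, Nat.cast_sub hq1, Nat.cast_one] at hd
    have : ((q : ℤ) : ℂ) * d + ((q : ℤ) : ℂ) * (((q : ℤ) : ℂ) - 1) = ((q : ℤ) : ℂ) * f := by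
      push_cast; linear_combination -hd
    exact_mod_cast this
  rw [hq] at hk hz hlt hq2 hq4
  rw [S_two] at hlt hz
  have hq3 : 3 ≤ q := by
    have := Fintype.one_lt_card (α := F)
    omega
  have hq9 : 1 ≤ q ^ 2 := Nat.one_le_pow _ _ (by omega)
  have hf1 : q ≤ f + 1 := by
    have := mul_left_cancel₀ (show (q : ℤ) ≠ 0 by omega) (show (q : ℤ) * ((d : ℤ) + ((q : ℤ) - 1)) = (q : ℤ) * f by linarith)
    omega
  have hf2 : f ≤ q := by omega
  rcases Nat.lt_or_ge f q with hlt' | hge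
  · obtain rfl : f = q - 1 := by omega
    obtain ⟨r, rfl⟩ : ∃ r, q = r + 1 := ⟨q - 1, by omega⟩
    rw [Nat.add_sub_cancel] at hk hz
    have hkz : ((finrank ℂ V : ℕ) : ℤ) = ((r : ℤ) + 3) * r := by
      have : finrank ℂ V + 1 = (r + 1) ^ 2 + r := by omega
      have h' : ((finrank ℂ V : ℕ) : ℤ) + 1 = ((r : ℤ) + 1) ^ 2 + r := by exact_mod_cast this
      linear_combination h'
    rw [hkz] at hz
    push_cast at hz
    have hr : (r : ℤ) ≠ 0 := by omega
    have h12 : ((r : ℤ) + 3) ∣ 12 := by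
      have hz' : ((r : ℤ) + 1 + ((r : ℤ) + 1) ^ 2 + 1) * ((r : ℤ) + 2) * ((r : ℤ) - 1) = z * ((r : ℤ) + 3) :=
        mul_left_cancel₀ hr (by linear_combination hz)
      refine ⟨z - ((r : ℤ) ^ 3 + r ^ 2 + r - 6), ?_⟩
      linear_combination hz'
    have := Int.le_of_dvd (by norm_num) h12
    have hr9 : r ≤ 9 := by omega
    have hnp : r ≠ 9 := by
      rintro rfl
      have h10 : IsPrimePow 10 := by
        obtain ⟨p, _, n, hp, hn⟩ := FiniteField.card' F
        exact ⟨p, n, hp.prime, n.2, hn.symm.trans hq⟩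
      rw [isPrimePow_nat_iff_bounded] at h10
      revert h10; decide
    interval_cases r <;> omega
  · obtain rfl : q = f := by omega
    refine kill_pred (q := q) (m := 1) (k := finrank ℂ V) (by omega) le_rfl ?_
      (f := (q : ℤ)) (z := z) ?_ ?_
    · rw [show (1 + 1 : ℕ) = 2 from rfl, S_two]; omega
    · rw [hk]; push_cast [hq9]; ring
    · rw [show (1 + 1 : ℕ) = 2 from rfl, S_two]; exact hz

/-- The general step. -/
theorem bound_succ {m : ℕ} (hm : 2 ≤ m) (hph : Phased (Fintype.card F) (m + 1))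
    (H : Bound F m fun k => S (Fintype.card F) m ≤ k) :
    Bound F (m + 1) fun k => S (Fintype.card F) (m + 1) ≤ k := by
  intro V _ _ _ ρ _ hρ
  by_contra hlt
  rw [not_le] at hlt
  obtain ⟨ψ, f, hs, hf, hk, hnf, z, hz⟩ := step (by omega) hρ hlt
  have hf0 := fixed_ne_zero (by omega) hs hph
  have hb := bound_of_irr (c := S (Fintype.card F) m) (P := fun _ => True)
    (fun U _ _ _ τ _ hτ => ⟨H U τ hτ, trivial⟩) (levi ψ ρ) hnf
  rw [show finrank ℂ (LinearMap.range (eig ψ ρ 0)) = mult ψ ρ 0 from rfl, ← hf] at hb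
  obtain ⟨q, hq⟩ : ∃ q, Fintype.card F = q := ⟨_, rfl⟩
  have hq2 : 2 ≤ q := hq ▸ Fintype.one_lt_card
  have hpow : 1 ≤ q ^ (m + 1) := Nat.one_le_pow _ _ (by omega)
  rcases hb with hb | ⟨hb, -⟩
  · exact hf0 (hf ▸ hb)
  rw [hq] at hk hz hb hlt
  have hS := S_succ q m
  refine kill_pred (q := q) (m := m) (k := finrank ℂ V) hq2 (by omega) (by omega) (f := (f : ℤ)) (z := z) ?_ hz
  rw [hk]; push_cast [hpow]; ring

theorem small_three (hq : Fintype.card F = 2) : Bound F 2 fun k => 3 ≤ k := by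
  intro V _ _ _ ρ _ hρ
  by_contra hlt
  obtain ⟨ψ, f, hs, hf, hk, -⟩ := step le_rfl hρ (by rw [hq, S_two]; omega)
  rw [hq] at hk
  omega

theorem small_three_four (hq : Fintype.card F = 4) : Bound F 2 fun k => 15 ≤ k ∧ k ≠ 17 := by
  intro V _ _ _ ρ _ hρ
  by_contra hlt
  obtain ⟨ψ, f, hs, hf, hk, -, z, hz⟩ := step le_rfl hρ (by rw [hq, S_two]; omega)
  rw [hq, S_two] at *
  have hk17 : finrank ℂ V = 17 := by omega
  obtain rfl : f = 2 := by omega
  rw [hk17] at hz
  norm_num at hz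
  omega

theorem small_four_two (hq : Fintype.card F = 2) : Bound F 3 fun k => k = 7 ∨ 10 ≤ k := by
  intro V _ _ _ ρ _ hρ
  by_contra hlt
  obtain ⟨ψ, f, hs, hf, hk, hnf, -⟩ := step (by norm_num) hρ (by rw [hq, S_three]; omega)
  have hb := bound_of_irr (c := 3) (P := fun _ => True)
    (fun U _ _ _ τ _ hτ => ⟨small_three hq U τ hτ, trivial⟩) (levi ψ ρ) hnf
  rw [show finrank ℂ (LinearMap.range (eig ψ ρ 0)) = mult ψ ρ 0 from rfl, ← hf] at hb
  rw [hq] at hk
  rcases hb with hb | ⟨hb, -⟩ <;> omega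

theorem small_four_three (hq : Fintype.card F = 3) : Bound F 3 fun k => k = 26 ∨ 38 ≤ k := by
  intro V _ _ _ ρ _ hρ
  by_contra hlt
  obtain ⟨ψ, f, hs, hf, hk, hnf, -⟩ := step (by norm_num) hρ (by rw [hq, S_three]; omega)
  have hb := bound_of_irr (c := 12) (P := fun _ => True)
    (fun U _ _ _ τ _ hτ => ⟨by
      have h := bound_three (F := F) (by omega) (by omega) U τ hτ
      simpa [hq, S_two] using h, trivial⟩) (levi ψ ρ) hnf
  rw [show finrank ℂ (LinearMap.range (eig ψ ρ 0)) = mult ψ ρ 0 from rfl, ← hf] at hb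
  rw [hq] at hk
  rcases hb with hb | ⟨hb, -⟩ <;> omega

theorem five_two (hq : Fintype.card F = 2) : Bound F 4 fun k => S (Fintype.card F) 4 ≤ k := by
  intro V _ _ _ ρ _ hρ
  by_contra hlt
  rw [not_le] at hlt
  obtain ⟨ψ, f, hs, hf, hk, hnf, z, hz⟩ := step (by norm_num) hρ hlt
  have hf0 := fixed_ne_zero (by norm_num) hs (Or.inl le_rfl)
  have hb := bound_of_irr (c := 7) (P := fun k => k = 7 ∨ 10 ≤ k)
    (fun U _ _ _ τ _ hτ => ⟨by have := small_four_two hq U τ hτ; omega, small_four_two hq U τ hτ⟩)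
    (levi ψ ρ) hnf
  rw [show finrank ℂ (LinearMap.range (eig ψ ρ 0)) = mult ψ ρ 0 from rfl, ← hf] at hb
  rw [hq, S_four] at hlt hz
  rw [hq] at hk
  norm_num at hlt hz hk
  rcases hb with hb | ⟨h7, hb⟩
  · exact hf0 (hf ▸ hb)
  rw [hk] at hz
  have : f ≤ 14 := by omega
  interval_cases f <;> push_cast at hz <;> omega

theorem five_three (hq : Fintype.card F = 3) : Bound F 4 fun k => S (Fintype.card F) 4 ≤ k := by
  intro V _ _ _ ρ _ hρ
  by_contra hlt
  rw [not_le] at hlt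
  obtain ⟨ψ, f, hs, hf, hk, hnf, z, hz⟩ := step (by norm_num) hρ hlt
  have hf0 := fixed_ne_zero (by norm_num) hs (Or.inl le_rfl)
  have hb := bound_of_irr (c := 26) (P := fun k => k = 26 ∨ 38 ≤ k)
    (fun U _ _ _ τ _ hτ => ⟨by have := small_four_three hq U τ hτ; omega, small_four_three hq U τ hτ⟩)
    (levi ψ ρ) hnf
  rw [show finrank ℂ (LinearMap.range (eig ψ ρ 0)) = mult ψ ρ 0 from rfl, ← hf] at hb
  rw [hq, S_four] at hlt hz
  rw [hq] at hk
  norm_num at hlt hz hk
  rcases hb with hb | ⟨h7, hb⟩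
  · exact hf0 (hf ▸ hb)
  rw [hk] at hz
  have : f ≤ 39 := by omega
  interval_cases f <;> push_cast at hz <;> omega

theorem four_four (hq : Fintype.card F = 4) : Bound F 3 fun k => S (Fintype.card F) 3 ≤ k := by
  intro V _ _ _ ρ _ hρ
  by_contra hlt
  rw [not_le] at hlt
  obtain ⟨ψ, f, hs, hf, hk, hnf, z, hz⟩ := step (by norm_num) hρ hlt
  have hf0 := fixed_ne_zero (by norm_num) hs (Or.inr (Or.inl ⟨rfl, hq.ge⟩))
  have hb := bound_of_irr (c := 15) (P := fun k => k ≠ 17)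
    (fun U _ _ _ τ _ hτ => small_three_four hq U τ hτ) (levi ψ ρ) hnf
  rw [show finrank ℂ (LinearMap.range (eig ψ ρ 0)) = mult ψ ρ 0 from rfl, ← hf] at hb
  rw [hq, S_three] at hlt hz
  rw [hq] at hk
  norm_num at hlt hz hk
  rcases hb with hb | ⟨h7, hb⟩
  · exact hf0 (hf ▸ hb)
  rw [hk] at hz
  have : f ≤ 20 := by omega
  interval_cases f <;> push_cast at hz <;> omega

/-- The bound in the non-exceptional cases. -/
theorem bound_all : ∀ m : ℕ, 2 ≤ m →
    ((m + 1, Fintype.card F) ≠ (3, 2) ∧ (m + 1, Fintype.card F) ≠ (3, 4) ∧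
      (m + 1, Fintype.card F) ≠ (4, 2) ∧ (m + 1, Fintype.card F) ≠ (4, 3)) →
    Bound F m fun k => S (Fintype.card F) m ≤ k := by
  intro m hm
  induction m, hm using Nat.le_induction with
  | base =>
    rintro ⟨h1, h2, -, -⟩
    exact bound_three (fun e => h1 (by rw [e])) (fun e => h2 (by rw [e]))
  | succ m hm ih =>
    rintro ⟨-, -, h3, h4⟩
    have hq2 := Fintype.one_lt_card (α := F)
    rcases Nat.lt_or_ge m 4 with hm4 | hm4
    · interval_cases m
      · have h3' : Fintype.card F ≠ 2 := fun e => h3 (by rw [e])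
        have h4' : Fintype.card F ≠ 3 := fun e => h4 (by rw [e])
        by_cases h : Fintype.card F = 4
        · exact four_four h
        · refine bound_succ le_rfl (Or.inr (Or.inl ⟨rfl, by omega⟩)) (ih ⟨?_, ?_, ?_, ?_⟩) <;>
            simp [h3', h]
      · by_cases h : Fintype.card F = 2
        · exact five_two h
        by_cases h' : Fintype.card F = 3
        · exact five_three h'
        refine bound_succ (by norm_num) (Or.inl le_rfl) (ih ⟨?_, ?_, ?_, ?_⟩) <;> simp [h, h']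
    · refine bound_succ hm (Or.inl (by omega)) (ih ⟨?_, ?_, ?_, ?_⟩) <;>
        · intro e
          have h5 : m + 1 = _ := congrArg Prod.fst e
          omega

theorem main (n : ℕ) (hn : 3 ≤ n)
    (hex : (n, Fintype.card F) ≠ (3, 2) ∧ (n, Fintype.card F) ≠ (3, 4) ∧ (n, Fintype.card F) ≠ (4, 2) ∧ (n, Fintype.card F) ≠ (4, 3)) :
    (∀ (k : ℕ) (ρ : Representation ℂ (SpecialLinearGroup (Fin n) F) (Fin k → ℂ)), ρ.IsIrreducible → 2 ≤ k →
      (Fintype.card F ^ n - Fintype.card F) / (Fintype.card F - 1) ≤ k) ∧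
    (∃ ρ : Representation ℂ (SpecialLinearGroup (Fin n) F)
      (Fin ((Fintype.card F ^ n - Fintype.card F) / (Fintype.card F - 1)) → ℂ), ρ.IsIrreducible) := by
  obtain ⟨m, rfl⟩ : ∃ m, n = m + 1 := ⟨n - 1, by omega⟩
  have hq : 2 ≤ Fintype.card F := Fintype.one_lt_card
  rw [← S_eq_div hq]
  refine ⟨fun k ρ hρ hk => ?_, ?_⟩
  · haveI := hρ
    have hne : ρ ≠ 1 := by
      intro h
      obtain ⟨i⟩ : Nonempty (Fin k) := ⟨⟨0, by omega⟩⟩
      let a : Subrepresentation ρ := ⟨Submodule.span ℂ {Pi.single i 1}, fun g v hv => by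
        rw [h]; exact hv⟩
      have ha : a = ⊤ := (IsSimpleOrder.eq_bot_or_eq_top a).resolve_left fun e => by
        have h1 : (Pi.single i 1 : Fin k → ℂ) ∈ (⊥ : Submodule ℂ (Fin k → ℂ)) := by
          have := congrArg Subrepresentation.toSubmodule e
          rw [← show a.toSubmodule = ⊥ from this]
          exact Submodule.mem_span_singleton_self _
        simpa using h1
      have h1 := congrArg (fun a : Subrepresentation ρ => finrank ℂ a.toSubmodule) ha
      simp only [a] at h1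
      rw [finrank_span_singleton (by simp),
        show (⊤ : Subrepresentation ρ).toSubmodule = ⊤ from rfl, finrank_top, Module.finrank_fin_fun] at h1
      omega
    have h := bound_all (F := F) m (by omega) hex (Fin k → ℂ) ρ hne
    rwa [Module.finrank_fin_fun] at h
  · obtain ⟨T, hT, ρ, hρ⟩ := exists_irr (F := F) (n := m + 1) hn
    have h1 := Nat.eq_of_mul_eq_mul_right (show 0 < Fintype.card F - 1 by omega)
      (hT.trans (S_mul (by omega) m).symm)
    obtain rfl : T = S (Fintype.card F) m := by omega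
    exact ⟨ρ, hρ⟩

/-- Irreducibility is kept under pulling back along a surjection. -/
theorem isIrreducible_pullback {G H : Type*} [Group G] [Group H] {k : Type*} [Field k] {W : Type*}
    [AddCommGroup W] [Module k W] {f : G →* H} (hf : Function.Surjective f) {ρ : Representation k H W}
    (h : ρ.IsIrreducible) (σ : Representation k G W) (hσ : ∀ g, σ g = ρ (f g)) : σ.IsIrreducible := by
  refine (OrderIso.isSimpleOrder_iff ?_).2 h
  exact
    { toFun := fun a => ⟨a.toSubmodule, fun g v hv => by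
        obtain ⟨x, rfl⟩ := hf g
        rw [← hσ]; exact a.apply_mem_toSubmodule x hv⟩
      invFun := fun a => ⟨a.toSubmodule, fun g v hv => by
        rw [hσ]; exact a.apply_mem_toSubmodule (f g) hv⟩
      left_inv := fun a => rfl
      right_inv := fun a => rfl
      map_rel_iff' := Iff.rfl }

end Cfsg.Agent.MinDegree
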