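/-
A lower bound for the degree of a representation from a special unipotent radical of order `q ^ (1 + 8)`
with a Levi complement containing a cubically twisted root group.
-/
import Cfsg.Agent.Lib.Lie.ReeRepBasic

set_option autoImplicit false

namespace Cfsg.Agent.D4Radical

open LinearMap Module

variable (F K G : Type*) [Field F] [AddCommGroup K] [Module F K] [Group G]

/-- Root elements in the radical, in the Levi complement, and what is needed of their relations. -/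
structure Sys where
  A : AddChar F G
  B : AddChar K G
  C : AddChar K G
  D : AddChar F G
  Z : AddChar F G
  E : K → G
  AB : ∀ a b, A a * B b = B b * A a
  AC : ∀ a c, A a * C c = C c * A a
  AD : ∀ a d, A a * D d = D d * A a * Z (a * d)
  BD : ∀ b d, B b * D d = D d * B b
  CD : ∀ c d, C c * D d = D d * C c
  β : K →ₗ[F] K →ₗ[F] F
  BC : ∀ b c, B b * C c = C c * B b * Z (β b c)
  nondeg : ∀ c, c ≠ 0 → ∃ b, β b c ≠ 0
  ZA : ∀ t a, Z t * A a = A a * Z t
  ZB : ∀ t b, Z t * B b = B b * Z t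
  ZC : ∀ t c, Z t * C c = C c * Z t
  ZD : ∀ t d, Z t * D d = D d * Z t
  ZE : ∀ t u, Z t * E u = E u * Z t
  ED : ∀ u d, E u * D d = D d * E u
  α₁ : K →ₗ[F] K
  Q₂ : K →ₗ[F] K →ₗ[F] K
  T₃ : K →ₗ[F] K →ₗ[F] K →ₗ[F] F
  aniso : ∀ u, T₃ u u u = 0 → u = 0
  EA : ∀ u t, ∃ z, E u * A t * (E u)⁻¹ =
    A t * B (t • α₁ u) * C (t • Q₂ u u) * D (t * T₃ u u u) * Z z
  w : G
  wA : ∀ t, w * A t * w⁻¹ = D (-t)
  wD : ∀ t, w * D t * w⁻¹ = A t
  wZ : ∀ t, w * Z t * w⁻¹ = Z t
  DZ : ∃ n : G, ∀ t, n * D t * n⁻¹ = Z t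
  tZ : ∀ k : F, k ≠ 0 → ∃ h : G, ∀ t, h * Z t * h⁻¹ = Z (k * t)
  tA : ∀ k : F, k ≠ 0 → ∃ h : G, (∀ t, h * A t * h⁻¹ = A (k * t)) ∧ (∀ t, h * D t * h⁻¹ = D (k * t)) ∧
    ∀ t, h * Z t * h⁻¹ = Z (k * k * t)

variable {F K G}

/-- Every character is `ψ₁` composed with a linear form. -/
theorem exists_linear [Finite F] {V : Type*} [AddCommGroup V] [Module F V] {ψ₁ : AddChar F ℂ}
    (hψ₁ : ψ₁.IsPrimitive) (χ : AddChar V ℂ) : ∃ L : V →ₗ[F] F, ∀ v, χ v = ψ₁ (L v) := by
  classical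
  haveI := Fintype.ofFinite F
  have hinj : Function.Injective fun a : F => ψ₁.mulShift a := AddChar.to_mulShift_inj_of_isPrimitive hψ₁
  have hbij : Function.Bijective fun a : F => ψ₁.mulShift a :=
    (Fintype.bijective_iff_injective_and_card _).2 ⟨hinj, AddChar.card_eq.symm⟩
  choose L hL using fun v : V =>
    hbij.2 (χ.compAddMonoidHom ((LinearMap.toSpanSingleton F V v).toAddMonoidHom))
  have hap : ∀ (v : V) (t : F), ψ₁ (L v * t) = χ (t • v) := fun v t => by
    have h := DFunLike.congr_fun (hL v) t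
    simpa [AddChar.mulShift_apply] using h
  have huniq : ∀ (v : V) (a : F), (∀ t, ψ₁ (a * t) = χ (t • v)) → L v = a := fun v a ha =>
    hinj (DFunLike.ext _ _ fun t => by
      simp only [AddChar.mulShift_apply]
      rw [hap, ha])
  refine ⟨{ toFun := L, map_add' := fun v w => huniq _ _ fun t => ?_, map_smul' := fun c v => huniq _ _ fun t => ?_ },
    fun v => ?_⟩
  · rw [add_mul, AddChar.map_add_eq_mul, hap, hap, smul_add, AddChar.map_add_eq_mul]
  · rw [RingHom.id_apply, smul_eq_mul, mul_comm c, mul_assoc, hap, smul_smul, mul_comm c]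
  · show χ v = ψ₁ (L v)
    have := hap v 1
    rw [mul_one, one_smul] at this
    exact this.symm

/-- A cubic form in one extra variable has an affine zero. -/
theorem exists_affine_zero [Fintype F] (hK : finrank F K = 3) (a : F) (l : K →ₗ[F] F)
    (Q : K →ₗ[F] K →ₗ[F] F) (T : K →ₗ[F] K →ₗ[F] K →ₗ[F] F) (hT : ∀ u, T u u u = 0 → u = 0) :
    ∃ u, a + l u + Q u u + T u u u = 0 := by
  classical
  haveI : Module.Finite F K := Module.finite_of_finrank_eq_succ hK
  let β := Module.finBasisOfFinrankEq F K hK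
  obtain ⟨p, hp⟩ := CharP.exists F
  let P : MvPolynomial (Fin 4) F :=
    MvPolynomial.C a * (MvPolynomial.X 0) ^ 3 +
    ∑ i, MvPolynomial.C (l (β i)) * ((MvPolynomial.X 0) ^ 2 * MvPolynomial.X (Fin.succ i)) +
    ∑ i, ∑ j, MvPolynomial.C (Q (β i) (β j)) *
      (MvPolynomial.X 0 * MvPolynomial.X (Fin.succ i) * MvPolynomial.X (Fin.succ j)) +
    ∑ i, ∑ j, ∑ k, MvPolynomial.C (T (β i) (β j) (β k)) *
      (MvPolynomial.X (Fin.succ i) * MvPolynomial.X (Fin.succ j) * MvPolynomial.X (Fin.succ k))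
  have hev : ∀ x : Fin 4 → F, MvPolynomial.eval x P =
      a * x 0 ^ 3 + x 0 ^ 2 * l (β.equivFun.symm fun i => x i.succ) +
      x 0 * Q (β.equivFun.symm fun i => x i.succ) (β.equivFun.symm fun i => x i.succ) +
      T (β.equivFun.symm fun i => x i.succ) (β.equivFun.symm fun i => x i.succ)
        (β.equivFun.symm fun i => x i.succ) := fun x => by
    simp only [P, map_add, map_sum, map_mul, map_pow, MvPolynomial.eval_C, MvPolynomial.eval_X,
      Module.Basis.equivFun_symm_apply, map_smul, LinearMap.sum_apply, LinearMap.smul_apply, smul_eq_mul,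
      Finset.mul_sum]
    simp only [Fin.sum_univ_three]
    ring
  have hdeg : P.totalDegree < Fintype.card (Fin 4) := by
    rw [Fintype.card_fin, Nat.lt_succ_iff]
    have h1 : ∀ i : Fin 4, (MvPolynomial.X i : MvPolynomial (Fin 4) F).totalDegree ≤ 1 := fun i =>
      (MvPolynomial.totalDegree_X (R := F) i).le
    have hC : ∀ (c : F) (R : MvPolynomial (Fin 4) F), R.totalDegree ≤ 3 →
        (MvPolynomial.C c * R).totalDegree ≤ 3 := fun c R h =>
      (MvPolynomial.totalDegree_mul _ _).trans (by rw [MvPolynomial.totalDegree_C, zero_add]; exact h)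
    have h3 : ∀ i j k : Fin 4, (MvPolynomial.X i * MvPolynomial.X j * MvPolynomial.X k :
        MvPolynomial (Fin 4) F).totalDegree ≤ 3 := fun i j k => by
      refine (MvPolynomial.totalDegree_mul _ _).trans ?_
      have := MvPolynomial.totalDegree_mul (MvPolynomial.X i : MvPolynomial (Fin 4) F) (MvPolynomial.X j)
      have := h1 i; have := h1 j; have := h1 k
      omega
    refine (MvPolynomial.totalDegree_add _ _).trans (max_le ((MvPolynomial.totalDegree_add _ _).trans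
      (max_le ((MvPolynomial.totalDegree_add _ _).trans (max_le (hC _ _ ?_) ?_)) ?_)) ?_)
    · exact (MvPolynomial.totalDegree_pow _ _).trans (by have := h1 0; omega)
    · exact MvPolynomial.totalDegree_finsetSum_le fun i _ => hC _ _ (by rw [sq]; exact h3 _ _ _)
    · exact MvPolynomial.totalDegree_finsetSum_le fun i _ =>
        MvPolynomial.totalDegree_finsetSum_le fun j _ => hC _ _ (h3 _ _ _)
    · exact MvPolynomial.totalDegree_finsetSum_le fun i _ =>
        MvPolynomial.totalDegree_finsetSum_le fun j _ =>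
          MvPolynomial.totalDegree_finsetSum_le fun k _ => hC _ _ (h3 _ _ _)
  obtain ⟨n, hprime, -⟩ := FiniteField.card F p
  haveI : Fact p.Prime := ⟨hprime⟩
  have hdvd := char_dvd_card_solutions p hdeg
  have h0 : MvPolynomial.eval (0 : Fin 4 → F) P = 0 := by
    rw [hev]
    have : (β.equivFun.symm fun i : Fin 3 => (0 : Fin 4 → F) i.succ) = 0 := by
      simp [Module.Basis.equivFun_symm_apply]
    simp [this]
  obtain ⟨⟨x, hx⟩, hne⟩ : ∃ y : {x : Fin 4 → F // MvPolynomial.eval x P = 0}, y ≠ ⟨0, h0⟩ := by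
    refine Fintype.exists_ne_of_one_lt_card ?_ _
    haveI : Nonempty {x : Fin 4 → F // MvPolynomial.eval x P = 0} := ⟨⟨0, h0⟩⟩
    exact hprime.one_lt.trans_le (Nat.le_of_dvd Fintype.card_pos hdvd)
  rw [hev] at hx
  obtain ⟨v, hv⟩ : ∃ v, v = β.equivFun.symm fun i => x i.succ := ⟨_, rfl⟩
  rw [← hv] at hx
  have hx0 : x 0 ≠ 0 := by
    intro h
    refine hne (Subtype.ext ?_)
    rw [h] at hx
    simp only [zero_pow, ne_eq, OfNat.ofNat_ne_zero, not_false_iff, mul_zero, zero_mul, zero_add] at hx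
    have h' := hT v hx
    rw [hv, LinearEquiv.map_eq_zero_iff] at h'
    funext i
    induction i using Fin.cases with
    | zero => exact h
    | succ i => exact congrFun h' i
  refine ⟨(x 0)⁻¹ • v, ?_⟩
  simp only [map_smul, LinearMap.smul_apply, smul_eq_mul]
  field_simp
  linear_combination hx

theorem ne_one_of_mulShift {ψ₁ : AddChar F ℂ} (hψ₁ : ψ₁.IsPrimitive) {k : F} (hk : k ≠ 0) :
    ψ₁.mulShift k ≠ 1 :=
  hψ₁ hk

/-- The bound. -/
theorem bound [Fintype F] [Fintype K] (hK : finrank F K = 3) (S : Sys F K G)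
    {W : Type*} [AddCommGroup W] [Module ℂ W] [FiniteDimensional ℂ W] (ρ : G →* Module.End ℂ W)
    (hne : ρ (S.Z 1) ≠ 1) {q : ℕ} (hq : Fintype.card F = q)
    (hex : finrank ℂ W ≠ (q - 1) * (q ^ 4 + q ^ 3) + (q - 1)) :
    (q - 1) * (q ^ 4 + q ^ 3) + q ≤ finrank ℂ W := by
  classical
  have hq2 : 2 ≤ q := hq ▸ Fintype.one_lt_card
  have hcardK : Fintype.card K = q ^ 3 := by
    haveI : Module.Finite F K := Module.finite_of_finrank_eq_succ hK
    rw [Module.card_eq_pow_finrank (K := F), hK, hq]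
  obtain ⟨ψ₁, hψ₁n⟩ : ∃ ψ : AddChar F ℂ, ψ ≠ 1 := by
    obtain ⟨ψ, hψ⟩ := AddChar.exists_apply_ne_zero.2 (one_ne_zero (α := F))
    exact ⟨ψ, fun h => hψ (by rw [h, AddChar.one_apply])⟩
  have hψ₁ : ψ₁.IsPrimitive := AddChar.IsPrimitive.of_ne_one hψ₁n
  -- the central root group
  let RZ : AddChar F (Module.End ℂ W) :=
    { toFun := fun t => ρ (S.Z t)
      map_zero_eq_one' := by rw [AddChar.map_zero_eq_one, map_one]
      map_add_eq_mul' := fun x y => by rw [AddChar.map_add_eq_mul, map_mul] }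
  have hRZ : ∀ t, RZ t = ρ (S.Z t) := fun _ => rfl
  have hinv : ∀ g, ρ g * ρ g⁻¹ = 1 := fun g => by rw [← map_mul, mul_inv_cancel, map_one]
  have hinv' : ∀ g, ρ g⁻¹ * ρ g = 1 := fun g => by rw [← map_mul, inv_mul_cancel, map_one]
  obtain ⟨M, hM⟩ : ∃ M, M = ReeRep.mult RZ ψ₁ := ⟨_, rfl⟩
  have hmult : ∀ ψ : AddChar F ℂ, ψ ≠ 0 → ReeRep.mult RZ ψ = M := by
    intro ψ hψ
    obtain ⟨L, hL⟩ := exists_linear hψ₁ ψ
    have hk0 : L 1 ≠ 0 := fun h => hψ (DFunLike.ext _ _ fun t => by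
      rw [hL, show L t = t * L 1 by rw [← smul_eq_mul, ← map_smul, smul_eq_mul, mul_one], h, mul_zero,
        AddChar.map_zero_eq_one, AddChar.zero_apply])
    obtain ⟨h, hh⟩ := S.tZ (L 1) hk0
    have e : ψ = ψ₁.compAddMonoidHom (AddMonoidHom.mulLeft (L 1)) := DFunLike.ext _ _ fun t => by
      rw [AddChar.compAddMonoidHom_apply, hL, AddMonoidHom.coe_mulLeft, mul_comm, ← smul_eq_mul t, ← map_smul,
        smul_eq_mul, mul_one]
    rw [e, hM]
    refine ReeRep.mult_conj (g := ρ h) (g' := ρ h⁻¹) (mulLeft_bijective₀ _ hk0) (fun a => ?_) (hinv h) ψ₁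
    rw [hRZ, hRZ, AddMonoidHom.coe_mulLeft, ← hh, ← map_mul, ← map_mul]
    congr 1
    group
  have hMpos : M ≠ 0 := by
    obtain ⟨ψ, hψ, b, -, hb⟩ := ReeRep.exists_nontrivial (R := RZ) ⟨1, hne⟩ (fun _ => True) (fun _ _ => trivial)
    rw [← hmult ψ (fun h => hb (by rw [h, AddChar.zero_apply]))]
    exact hψ
  obtain ⟨e0, he0⟩ : ∃ e, e = ReeRep.proj RZ 0 := ⟨_, rfl⟩
  obtain ⟨N, hN⟩ : ∃ N, N = ReeRep.mult RZ 0 := ⟨_, rfl⟩
  have htrZ : ∀ t, t ≠ 0 → trace ℂ W (ρ (S.Z t)) = (N : ℂ) - M := by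
    intro t ht
    have h1 : trace ℂ W (ρ (S.Z t)) = ∑ ψ : AddChar F ℂ, ψ t * ReeRep.mult RZ ψ := by
      conv_lhs => rw [← mul_one (ρ (S.Z t)), ← ReeRep.sum_proj RZ, Finset.mul_sum, map_sum]
      exact Finset.sum_congr rfl fun ψ _ => by
        rw [← hRZ, ReeRep.mul_proj, map_smul, ReeRep.trace_proj, smul_eq_mul]
    have h2 : ∑ ψ : AddChar F ℂ, ψ t = 0 := by rw [AddChar.sum_apply_eq_ite, if_neg ht]
    rw [← Finset.add_sum_erase _ _ (Finset.mem_univ (0 : AddChar F ℂ))] at h1 h2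
    rw [h1, Finset.sum_congr rfl fun ψ hψ => by rw [hmult ψ (Finset.ne_of_mem_erase hψ)], ← Finset.sum_mul,
      eq_neg_of_add_eq_zero_right h2, AddChar.zero_apply, ← hN]
    ring
  have hcard : finrank ℂ W = N + (q - 1) * M := by
    rw [← ReeRep.sum_mult RZ, ← Finset.add_sum_erase _ _ (Finset.mem_univ (0 : AddChar F ℂ)),
      Finset.sum_congr rfl fun ψ hψ => hmult ψ (Finset.ne_of_mem_erase hψ), Finset.sum_const,
      Finset.card_erase_of_mem (Finset.mem_univ _), Finset.card_univ, AddChar.card_eq, hq, ← hN, smul_eq_mul]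
  -- elements centralising the central group commute with its projections
  have hcommP : ∀ g, (∀ t, S.Z t * g = g * S.Z t) → ∀ ψ, Commute (ρ g) (ReeRep.proj RZ ψ) := fun g hg ψ => by
    refine ((Finset.univ : Finset F).sum_induction (fun a => ψ (-a) • RZ a) (Commute (ρ g))
      (fun _ _ => Commute.add_right) (Commute.zero_right _) fun a _ => Commute.smul_right ?_ _).smul_right _
    show ρ g * RZ a = RZ a * ρ g
    rw [hRZ, ← map_mul, ← map_mul, hg]
  -- the abelian subgroup `C D`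
  let RY : AddChar (K × F) (Module.End ℂ W) :=
    { toFun := fun y => ρ (S.C y.1 * S.D y.2)
      map_zero_eq_one' := by simp [AddChar.map_zero_eq_one]
      map_add_eq_mul' := fun x y => by
        rw [← map_mul, Prod.fst_add, Prod.snd_add, AddChar.map_add_eq_mul, AddChar.map_add_eq_mul,
          mul_assoc, mul_assoc, ← mul_assoc (S.C y.1), S.CD, mul_assoc] }
  have hRY : ∀ y, RY y = ρ (S.C y.1 * S.D y.2) := fun _ => rfl
  have hYZ : ∀ (y : K × F) t, S.Z t * (S.C y.1 * S.D y.2) = S.C y.1 * S.D y.2 * S.Z t := fun y t => by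
    rw [← mul_assoc, S.ZC, mul_assoc, S.ZD, ← mul_assoc]
  have hzero : ∀ ψ : AddChar F ℂ, ψ ≠ 0 → ∀ y, y ≠ 0 → trace ℂ W (RY y * ReeRep.proj RZ ψ) = 0 := by
    intro ψ hψ y hy
    obtain ⟨t, ht⟩ : ∃ t, ψ t ≠ 1 := by
      by_contra h
      push Not at h
      exact hψ (DFunLike.ext _ _ fun t => by rw [h, AddChar.zero_apply])
    obtain ⟨g, hg, hgZ⟩ : ∃ g, g * (S.C y.1 * S.D y.2) = S.C y.1 * S.D y.2 * g * S.Z t ∧
        ∀ r, S.Z r * g = g * S.Z r := by
      by_cases hd : y.2 = 0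
      · have hc : y.1 ≠ 0 := fun h => hy (Prod.ext h hd)
        obtain ⟨b, hb⟩ := S.nondeg _ hc
        refine ⟨S.B ((t / S.β b y.1) • b), ?_, fun r => S.ZB r _⟩
        have hβ : S.β ((t / S.β b y.1) • b) y.1 = t := by simp [hb]
        rw [hd, AddChar.map_zero_eq_one, mul_one, S.BC, hβ]
      · refine ⟨S.A (t / y.2), ?_, fun r => S.ZA r _⟩
        rw [← mul_assoc, S.AC, mul_assoc, S.AD, div_mul_cancel₀ _ hd]
        simp only [mul_assoc]
    have hX : g * (S.C y.1 * S.D y.2) * g⁻¹ = S.C y.1 * S.D y.2 * S.Z t := by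
      rw [hg, mul_assoc _ g, ← hgZ t, ← mul_assoc, mul_inv_cancel_right]
    have key : trace ℂ W (RY y * ReeRep.proj RZ ψ) = ψ t * trace ℂ W (RY y * ReeRep.proj RZ ψ) := by
      calc trace ℂ W (RY y * ReeRep.proj RZ ψ)
          = trace ℂ W (ρ g * (RY y * ReeRep.proj RZ ψ) * ρ g⁻¹) := by
            conv_rhs => rw [trace_mul_comm, ← mul_assoc, hinv', one_mul]
        _ = trace ℂ W (ρ (g * (S.C y.1 * S.D y.2) * g⁻¹) * ReeRep.proj RZ ψ) := by
            congr 1
            have hc' : ReeRep.proj RZ ψ * ρ g⁻¹ = ρ g⁻¹ * ReeRep.proj RZ ψ :=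
              (hcommP g⁻¹ (fun r => (Commute.inv_right (show Commute (S.Z r) g from hgZ r)).eq) ψ).eq.symm
            rw [hRY, map_mul _ _ g⁻¹, map_mul _ g, mul_assoc, mul_assoc, hc', ← mul_assoc (ρ g),
              ← mul_assoc (ρ g * _)]
        _ = trace ℂ W (ψ t • (RY y * ReeRep.proj RZ ψ)) := by
            rw [hX, map_mul ρ, ← hRY, ← hRZ, mul_assoc, ReeRep.mul_proj, mul_smul_comm]
        _ = _ := by rw [map_smul, smul_eq_mul]
    by_contra h
    exact ht (mul_right_cancel₀ h (by rw [one_mul]; exact key.symm))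
  obtain ⟨m, hm⟩ : q ^ 4 ∣ M := by
    obtain ⟨P, hP⟩ : ∃ P, P = ReeRep.proj RY 0 * ReeRep.proj RZ ψ₁ := ⟨_, rfl⟩
    have hc : Commute (ReeRep.proj RY 0) (ReeRep.proj RZ ψ₁) := by
      refine ((Finset.univ : Finset (K × F)).sum_induction _ (fun x => Commute x (ReeRep.proj RZ ψ₁))
        (fun _ _ => Commute.add_left) (Commute.zero_left _) fun a _ => Commute.smul_left ?_ _).smul_left _
      rw [hRY]
      exact hcommP _ (fun t => hYZ a t) ψ₁
    have hPi : IsIdempotentElem P := hP ▸ IsIdempotentElem.mul_of_commute hc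
      (ReeRep.isIdempotentElem_proj 0) (ReeRep.isIdempotentElem_proj ψ₁)
    have hψ₁0 : ψ₁ ≠ 0 := fun h => hψ₁n (by rw [h]; rfl)
    have htr : trace ℂ W P = ((q : ℂ) ^ 4)⁻¹ * M := by
      rw [hP, ReeRep.proj, smul_mul_assoc, map_smul, Finset.sum_mul, map_sum,
        Finset.sum_eq_single (0 : K × F) (fun y _ hy => by
          rw [smul_mul_assoc, map_smul, hzero ψ₁ hψ₁0 y hy, smul_zero]) (fun h => absurd (Finset.mem_univ _) h),
        AddChar.map_zero_eq_one, neg_zero, AddChar.zero_apply, one_smul, one_mul, ReeRep.trace_proj, ← hM,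
        smul_eq_mul, Fintype.card_prod, hcardK, hq]
      push_cast
      rw [← pow_succ]
    refine ⟨finrank ℂ (LinearMap.range P), ?_⟩
    have h := hPi.isProj_range.trace
    rw [htr, inv_mul_eq_iff_eq_mul₀ (pow_ne_zero _ (Nat.cast_ne_zero.2 (by omega)))] at h
    exact_mod_cast h
  -- fixed points of `D` in the fixed space of the centre
  let RD : AddChar F (Module.End ℂ W) := ρ.compAddChar S.D
  have hRD : ∀ t, RD t = RY (0, t) := fun t => by
    rw [hRY, AddChar.map_zero_eq_one, one_mul]; rfl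
  have he0c : ∀ g, (∀ t, S.Z t * g = g * S.Z t) → Commute (ρ g) e0 := fun g hg => he0 ▸ hcommP g hg 0
  obtain ⟨eD, heD⟩ : ∃ e, e = ReeRep.proj RD 0 * e0 := ⟨_, rfl⟩
  have hcD : Commute (ReeRep.proj RD 0) e0 := by
    refine ((Finset.univ : Finset F).sum_induction _ (fun x => Commute x e0)
      (fun _ _ => Commute.add_left) (Commute.zero_left _) fun a _ => Commute.smul_left ?_ _).smul_left _
    exact he0c _ (fun t => S.ZD t a)
  have heDi : IsIdempotentElem eD := heD ▸ IsIdempotentElem.mul_of_commute hcD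
    (ReeRep.isIdempotentElem_proj 0) (he0 ▸ ReeRep.isIdempotentElem_proj 0)
  have htrD : ∀ t, t ≠ 0 → trace ℂ W (RD t * e0) = (N : ℂ) - M := fun t ht => by
    obtain ⟨g, hg⟩ := S.DZ
    have h1 : trace ℂ W (RD t) = (N : ℂ) - M := by
      rw [← htrZ t ht, ← hg, map_mul ρ, map_mul ρ, trace_mul_comm, ← mul_assoc, hinv', one_mul]
      rfl
    rw [← h1]
    conv_rhs => rw [← mul_one (RD t), ← ReeRep.sum_proj RZ, Finset.mul_sum, map_sum,
      ← Finset.add_sum_erase _ _ (Finset.mem_univ (0 : AddChar F ℂ)), ← he0]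
    rw [Finset.sum_eq_zero fun ψ hψ => ?_, add_zero]
    rw [hRD]
    exact hzero ψ (Finset.ne_of_mem_erase hψ) _ (fun h => ht (congrArg Prod.snd h))
  obtain ⟨e, he⟩ : ∃ e, e = finrank ℂ (LinearMap.range eD) := ⟨_, rfl⟩
  have heN : e + (q - 1) * (m * q ^ 3) = N := by
    have h := heDi.isProj_range.trace
    rw [← he, heD, ReeRep.proj, smul_mul_assoc, map_smul, Finset.sum_mul, map_sum,
      ← Finset.add_sum_erase _ _ (Finset.mem_univ (0 : F)), AddChar.map_zero_eq_one RD,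
      Finset.sum_congr rfl fun t ht => show trace ℂ W ((0 : AddChar F ℂ) (-t) • RD t * e0) = (N : ℂ) - M by
        rw [AddChar.zero_apply, one_smul, htrD t (Finset.ne_of_mem_erase ht)],
      AddChar.zero_apply, one_smul, one_mul, he0, ReeRep.trace_proj, ← hN, Finset.sum_const,
      Finset.card_erase_of_mem (Finset.mem_univ _), Finset.card_univ, hq, nsmul_eq_mul, smul_eq_mul,
      inv_mul_eq_iff_eq_mul₀ (Nat.cast_ne_zero.2 (by omega)), hm] at h
    have : ((q * (e + (q - 1) * (m * q ^ 3)) : ℕ) : ℂ) = ((q * N : ℕ) : ℂ) := by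
      push_cast [Nat.cast_sub (show 1 ≤ q by omega)] at h ⊢
      linear_combination -h
    exact Nat.eq_of_mul_eq_mul_left (show 0 < q by omega) (by exact_mod_cast this)
  have hdim : finrank ℂ W = m * ((q - 1) * (q ^ 4 + q ^ 3)) + e := by
    rw [hcard, ← heN, hm]; ring
  have hm1 : 1 ≤ m := Nat.pos_of_ne_zero fun h => hMpos (by rw [hm, h, mul_zero])
  rcases eq_or_lt_of_le hm1 with hm' | hm2
  swap
  · have h1 : 2 * ((q - 1) * (q ^ 4 + q ^ 3)) ≤ m * ((q - 1) * (q ^ 4 + q ^ 3)) := Nat.mul_le_mul_right _ hm2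
    have h2 : q ≤ (q - 1) * (q ^ 4 + q ^ 3) :=
      le_trans (le_trans (Nat.le_self_pow (by norm_num : (4 : ℕ) ≠ 0) q) (Nat.le_add_right _ _))
        (Nat.le_mul_of_pos_left _ (by omega))
    omega
  rw [← hm', one_mul] at hdim
  -- a common eigenvector in the fixed space of the centre, not fixed by `D`
  obtain ⟨ψ, v, hv0, hve, hψD, hvA, hvB, hvC, hvD⟩ : ∃ (L : F × K × K × F →ₗ[F] F) (v : W), v ≠ 0 ∧
      e0 v = v ∧ L (0, 0, 0, 1) ≠ 0 ∧
      (∀ x, ρ (S.A x) v = ψ₁ (L (x, 0, 0, 0)) • v) ∧ (∀ x, ρ (S.B x) v = ψ₁ (L (0, x, 0, 0)) • v) ∧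
      (∀ x, ρ (S.C x) v = ψ₁ (L (0, 0, x, 0)) • v) ∧ ∀ x, ρ (S.D x) v = ψ₁ (L (0, 0, 0, x)) • v := by
    have hZe : ∀ t, ρ (S.Z t) * e0 = e0 := fun t => by
      rw [he0, ← hRZ, ReeRep.mul_proj, AddChar.zero_apply, one_smul]
    have hee : e0 * e0 = e0 := he0 ▸ (ReeRep.isIdempotentElem_proj 0).eq
    let Φ : G → Module.End ℂ W := fun g => ρ g * e0 + (1 - e0)
    have hΦ1 : Φ 1 = 1 := by simp [Φ]
    have hΦm : ∀ g h, (∀ t, S.Z t * h = h * S.Z t) → Φ (g * h) = Φ g * Φ h := fun g h hh => by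
      have c := (he0c h hh).eq
      simp only [Φ, map_mul, add_mul, mul_add, sub_mul, mul_sub, one_mul, mul_one]
      rw [show ρ g * e0 * (ρ h * e0) = ρ g * ρ h * e0 by
          rw [mul_assoc, ← mul_assoc e0, ← c, mul_assoc (ρ h), hee, ← mul_assoc],
        mul_assoc (ρ g) e0 e0, hee, ← mul_assoc e0, ← c, mul_assoc (ρ h), hee]
      abel
    have hΦc : ∀ g h t, g * h = h * g * S.Z t → (∀ r, S.Z r * h = h * S.Z r) →
        (∀ r, S.Z r * g = g * S.Z r) → Commute (Φ g) (Φ h) := fun g h t e hh hgz => by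
      show Φ g * Φ h = Φ h * Φ g
      rw [← hΦm g h hh, ← hΦm h g hgz, e]
      simp only [Φ, map_mul]
      rw [mul_assoc, hZe]
    have hAD : ∀ a d, Commute (Φ (S.A a)) (Φ (S.D d)) := fun a d =>
      hΦc _ _ _ (S.AD a d) (fun r => S.ZD r d) (fun r => S.ZA r a)
    have hBC : ∀ b c, Commute (Φ (S.B b)) (Φ (S.C c)) := fun b c =>
      hΦc _ _ _ (S.BC b c) (fun r => S.ZC r c) (fun r => S.ZB r b)
    have h0 : ∀ g h, g * h = h * g → g * h = h * g * S.Z 0 := fun g h e => by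
      rw [AddChar.map_zero_eq_one, mul_one, e]
    have hAB : ∀ a b, Commute (Φ (S.A a)) (Φ (S.B b)) := fun a b =>
      hΦc _ _ _ (h0 _ _ (S.AB a b)) (fun r => S.ZB r b) (fun r => S.ZA r a)
    have hAC : ∀ a b, Commute (Φ (S.A a)) (Φ (S.C b)) := fun a b =>
      hΦc _ _ _ (h0 _ _ (S.AC a b)) (fun r => S.ZC r b) (fun r => S.ZA r a)
    have hBD : ∀ a b, Commute (Φ (S.B a)) (Φ (S.D b)) := fun a b =>
      hΦc _ _ _ (h0 _ _ (S.BD a b)) (fun r => S.ZD r b) (fun r => S.ZB r a)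
    have hCD : ∀ a b, Commute (Φ (S.C a)) (Φ (S.D b)) := fun a b =>
      hΦc _ _ _ (h0 _ _ (S.CD a b)) (fun r => S.ZD r b) (fun r => S.ZC r a)
    let R : AddChar (F × K × K × F) (Module.End ℂ W) :=
      { toFun := fun y => Φ (S.A y.1) * (Φ (S.B y.2.1) * (Φ (S.C y.2.2.1) * Φ (S.D y.2.2.2)))
        map_zero_eq_one' := by simp [hΦ1]
        map_add_eq_mul' := fun x y => by
          simp only [Prod.fst_add, Prod.snd_add, AddChar.map_add_eq_mul]
          rw [hΦm _ _ (fun r => S.ZA r _), hΦm _ _ (fun r => S.ZB r _), hΦm _ _ (fun r => S.ZC r _),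
            hΦm _ _ (fun r => S.ZD r _)]
          have e1 := (hAB y.1 x.2.1).mul_right ((hAC y.1 x.2.2.1).mul_right (hAD y.1 x.2.2.2))
          have e2 := (hBC y.2.1 x.2.2.1).mul_right (hBD y.2.1 x.2.2.2)
          rw [Commute.mul_mul_mul_comm (hCD y.2.2.1 x.2.2.2), Commute.mul_mul_mul_comm e2,
            Commute.mul_mul_mul_comm e1] }
    have hR : ∀ y, R y = Φ (S.A y.1) * (Φ (S.B y.2.1) * (Φ (S.C y.2.2.1) * Φ (S.D y.2.2.2))) := fun _ => rfl
    have hDne : ∃ χ : AddChar (F × K × K × F) ℂ, ReeRep.proj R χ ≠ 0 ∧ ∃ x, χ (0, 0, 0, x) ≠ 1 := by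
      by_contra hno
      push Not at hno
      have h1 : RD 1 * e0 + (1 - e0) = 1 := by
        calc RD 1 * e0 + (1 - e0) = R (0, 0, 0, 1) * ∑ χ, ReeRep.proj R χ := by
              rw [ReeRep.sum_proj, mul_one]; simp [hR, hΦ1, Φ, RD]
          _ = ∑ χ, ReeRep.proj R χ := by
              rw [Finset.mul_sum]
              refine Finset.sum_congr rfl fun χ _ => ?_
              by_cases h : ReeRep.proj R χ = 0
              · rw [h, mul_zero]
              · rw [ReeRep.mul_proj, hno χ h 1, one_smul]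
          _ = 1 := ReeRep.sum_proj R
      have h2 := htrD 1 one_ne_zero
      rw [show RD 1 * e0 = e0 from add_right_cancel (h1.trans (add_sub_cancel _ _).symm), he0,
        ReeRep.trace_proj, ← hN] at h2
      have : (M : ℂ) = 0 := by linear_combination h2
      exact hMpos (by exact_mod_cast this)
    obtain ⟨χ, hχ, x, hx⟩ := hDne
    obtain ⟨v, hv⟩ : ∃ v, ReeRep.proj R χ v ≠ 0 := by
      by_contra h
      push Not at h
      exact hχ (LinearMap.ext h)
    obtain ⟨L, hL⟩ := exists_linear hψ₁ χ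
    have hev : ∀ y, R y (ReeRep.proj R χ v) = χ y • ReeRep.proj R χ v := fun y => by
      rw [← Module.End.mul_apply, ReeRep.mul_proj, LinearMap.smul_apply]
    obtain ⟨v', hv'⟩ : ∃ v', v' = ReeRep.proj R χ v := ⟨_, rfl⟩
    rw [← hv'] at hv hev
    have hev' : e0 v' = v' := by
      have h := hev (0, 0, 0, x)
      simp only [hR, AddChar.map_zero_eq_one, hΦ1, one_mul, Φ, LinearMap.add_apply, LinearMap.sub_apply,
        Module.End.one_apply, Module.End.mul_apply] at h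
      have h' := congrArg (⇑((1 : Module.End ℂ W) - e0)) h
      rw [map_smul, map_add] at h'
      have z1 : (1 - e0) ((ρ (S.D x)) (e0 v')) = 0 := by
        rw [← Module.End.mul_apply (ρ (S.D x)), (he0c _ (fun r => S.ZD r x)).eq, Module.End.mul_apply,
          LinearMap.sub_apply, Module.End.one_apply, ← Module.End.mul_apply e0 e0, hee, sub_self]
      have z2 : (1 - e0) (v' - e0 v') = v' - e0 v' := by
        rw [LinearMap.sub_apply, Module.End.one_apply, map_sub, ← Module.End.mul_apply e0, hee, sub_self, sub_zero]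
      rw [z1, z2, zero_add, LinearMap.sub_apply, Module.End.one_apply] at h'
      have h'' : (χ (0, 0, 0, x) - 1) • (v' - e0 v') = 0 := by rw [sub_smul, one_smul, ← h', sub_self]
      exact (sub_eq_zero.1 ((smul_eq_zero.1 h'').resolve_left (sub_ne_zero.2 hx))).symm
    have hone : ∀ g y, R y = Φ g → ρ g v' = χ y • v' := fun g y e => by
      rw [← hev y, e]
      simp [Φ, hev']
    refine ⟨L, v', hv, hev', fun h => hx ?_, fun t => ?_, fun t => ?_, fun t => ?_, fun t => ?_⟩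
    · have e : ((0 : F), (0 : K), (0 : K), x) = x • ((0 : F), (0 : K), (0 : K), (1 : F)) := by simp
      rw [hL, e, map_smul, h, smul_zero, AddChar.map_zero_eq_one]
    all_goals rw [← hL]; refine hone _ _ ?_; simp [hR, hΦ1]
  -- move it
  obtain ⟨u, hu⟩ := exists_affine_zero hK (ψ (1, 0, 0, 0))
    ((ψ ∘ₗ LinearMap.inr F F (K × K × F) ∘ₗ LinearMap.inl F K (K × F)) ∘ₗ S.α₁)
    (S.Q₂.compr₂ (ψ ∘ₗ LinearMap.inr F F (K × K × F) ∘ₗ LinearMap.inr F K (K × F) ∘ₗ LinearMap.inl F K F))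
    ((ψ (0, 0, 0, 1)) • S.T₃) (fun u h => S.aniso u (by
      simp only [LinearMap.smul_apply, smul_eq_mul] at h
      exact (mul_eq_zero.1 h).resolve_left hψD))
  simp only [LinearMap.comp_apply, LinearMap.inr_apply, LinearMap.inl_apply, LinearMap.compr₂_apply,
    LinearMap.smul_apply, smul_eq_mul] at hu
  have hlin : ∀ (a : F) (b c : K) (d : F), ψ₁ (ψ (a, 0, 0, 0)) * ψ₁ (ψ (0, b, 0, 0)) *
      ψ₁ (ψ (0, 0, c, 0)) * ψ₁ (ψ (0, 0, 0, d)) = ψ₁ (ψ (a, b, c, d)) := fun a b c d => by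
    rw [← AddChar.map_add_eq_mul, ← AddChar.map_add_eq_mul, ← AddChar.map_add_eq_mul, ← map_add, ← map_add,
      ← map_add]
    simp
  obtain ⟨v1, hv1⟩ : ∃ v1, v1 = ρ (S.E u)⁻¹ v := ⟨_, rfl⟩
  have hfix : ∀ {x : W}, e0 x = x → ∀ t, ρ (S.Z t) x = x := fun {x} hx t => by
    rw [← hx, ← Module.End.mul_apply, ← hRZ, he0, ReeRep.mul_proj, AddChar.zero_apply, one_smul]
  have hv1A : ∀ t, ρ (S.A t) v1 = v1 := fun t => by
    obtain ⟨z, hz⟩ := S.EA u t
    rw [hv1, ← Module.End.mul_apply, ← map_mul,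
      show S.A t * (S.E u)⁻¹ = (S.E u)⁻¹ * (S.E u * S.A t * (S.E u)⁻¹) by group, hz]
    simp only [map_mul, Module.End.mul_apply, hfix hve, hvD, hvC, hvB, hvA, map_smul, smul_smul]
    rw [show ψ₁ (ψ (0, 0, 0, t * (((S.T₃ u) u) u))) * (ψ₁ (ψ (0, 0, t • ((S.Q₂ u) u), 0)) *
        (ψ₁ (ψ (0, t • S.α₁ u, 0, 0)) * ψ₁ (ψ (t, 0, 0, 0)))) =
        ψ₁ (ψ (t, t • S.α₁ u, t • ((S.Q₂ u) u), t * (((S.T₃ u) u) u))) by rw [← hlin t (t • S.α₁ u) (t • (S.Q₂ u) u) (t * (((S.T₃ u) u) u))]; ring]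
    have e : ((t, t • S.α₁ u, t • ((S.Q₂ u) u), t * (((S.T₃ u) u) u)) : F × K × K × F) =
        t • (((1 : F), (0 : K), (0 : K), (0 : F)) + ((0 : F), S.α₁ u, (0 : K), (0 : F)) +
          ((0 : F), (0 : K), (S.Q₂ u) u, (0 : F)) +
          ((S.T₃ u) u) u • ((0 : F), (0 : K), (0 : K), (1 : F))) := by simp
    rw [e, LinearMap.map_smul, map_add ψ, map_add ψ, map_add ψ, LinearMap.map_smul, smul_eq_mul, smul_eq_mul,
      show ψ (1, 0, 0, 0) + ψ (0, S.α₁ u, 0, 0) + ψ (0, 0, (S.Q₂ u) u, 0) +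
        ((S.T₃ u) u) u * ψ (0, 0, 0, 1) = 0 by linear_combination hu,
      mul_zero, AddChar.map_zero_eq_one, one_smul]
  have hv1D : ∀ t, ρ (S.D t) v1 = ψ₁ (t * ψ (0, 0, 0, 1)) • v1 := fun t => by
    rw [hv1, ← Module.End.mul_apply, ← map_mul,
      ← (Commute.inv_left (show Commute (S.E u) (S.D t) from S.ED u t)).eq, map_mul,
      Module.End.mul_apply, hvD, map_smul]
    congr 2
    rw [show ((0 : F), (0 : K), (0 : K), t) = t • ((0 : F), (0 : K), (0 : K), (1 : F)) by simp, map_smul,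
      smul_eq_mul]
  have hv1Z : ∀ t, ρ (S.Z t) v1 = v1 := fun t => by
    rw [hv1, ← Module.End.mul_apply, ← map_mul,
      (Commute.inv_right (show Commute (S.Z t) (S.E u) from S.ZE t u)).eq, map_mul, Module.End.mul_apply,
      hfix hve]
  have hv10 : v1 ≠ 0 := fun h => hv0 (by
    rw [hv1] at h
    rw [← Module.End.one_apply (R := ℂ) v, ← hinv (S.E u), Module.End.mul_apply, h, map_zero])
  obtain ⟨a0, ha0⟩ : ∃ a0, a0 = ψ (0, 0, 0, 1) := ⟨_, rfl⟩
  -- its images in the fixed space of `D`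
  choose h hhA hhD hhZ using fun k : Fˣ => S.tA (k : F) k.ne_zero
  obtain ⟨V, hV⟩ : ∃ V : Fˣ → W, ∀ k, V k = ρ (h k * S.w) v1 := ⟨_, fun _ => rfl⟩
  have hVeig : ∀ k : Fˣ, (∀ t, ρ (S.A t) (V k) = ψ₁ (t * ((k : F)⁻¹ * a0)) • V k) ∧
      (∀ t, ρ (S.D t) (V k) = V k) ∧ ∀ t, ρ (S.Z t) (V k) = V k := by
    intro k
    have hswap : ∀ g g' : G, g * (h k * S.w) = (h k * S.w) * g' → ρ g (V k) = ρ (h k * S.w) (ρ g' v1) :=
      fun g g' e => by
        rw [hV, ← Module.End.mul_apply, ← map_mul, e, map_mul, Module.End.mul_apply]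
    refine ⟨fun t => ?_, fun t => ?_, fun t => ?_⟩
    · rw [hswap _ (S.D ((k : F)⁻¹ * t)) ?_, hv1D, map_smul, ← hV, ha0]
      · congr 2; ring
      · have e := hhA k ((k : F)⁻¹ * t)
        rw [← S.wD, mul_inv_cancel_left₀ k.ne_zero] at e
        rw [← e]
        group
    · rw [hswap _ (S.A (-((k : F)⁻¹ * t))) ?_, hv1A, ← hV]
      have e := hhD k ((k : F)⁻¹ * t)
      rw [← neg_neg ((k : F)⁻¹ * t), ← S.wA, neg_neg, mul_inv_cancel_left₀ k.ne_zero] at e
      rw [← e]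
      group
    · rw [hswap _ (S.Z ((k : F)⁻¹ * (k : F)⁻¹ * t)) ?_, hv1Z, ← hV]
      have e := hhZ k ((k : F)⁻¹ * (k : F)⁻¹ * t)
      rw [← S.wZ, show (k : F) * k * ((k : F)⁻¹ * (k : F)⁻¹ * t) = t by field_simp] at e
      rw [← e]
      group
  have hVmem : ∀ k, V k ∈ LinearMap.range eD := fun k => by
    refine ⟨V k, ?_⟩
    have h1 : ∀ (R : AddChar F (Module.End ℂ W)), (∀ t, R t (V k) = V k) →
        ReeRep.proj R 0 (V k) = V k := fun R hR => by
      simp only [ReeRep.proj, LinearMap.smul_apply, LinearMap.sum_apply, AddChar.zero_apply, one_smul, hR,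
        Finset.sum_const, Finset.card_univ, ← Nat.cast_smul_eq_nsmul ℂ, smul_smul]
      rw [inv_mul_cancel₀ (Nat.cast_ne_zero.2 Fintype.card_ne_zero), one_smul]
    rw [heD, Module.End.mul_apply, he0, h1 RZ (hVeig k).2.2, h1 RD (hVeig k).2.1]
  have hli : LinearIndependent ℂ V := by
    let RA : AddChar F (Module.End ℂ W) := ρ.compAddChar S.A
    rw [Fintype.linearIndependent_iff]
    intro c hc j
    have hP : ∀ k, ReeRep.proj RA (ψ₁.mulShift ((j : F)⁻¹ * a0)) (V k) = if k = j then V j else 0 := fun k => by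
      simp only [ReeRep.proj, LinearMap.smul_apply, LinearMap.sum_apply]
      rw [Finset.sum_congr rfl fun t _ => show ψ₁.mulShift ((j : F)⁻¹ * a0) (-t) • RA t (V k) =
          ψ₁ (t * (((k : F)⁻¹ - (j : F)⁻¹) * a0)) • V k by
        show _ • ρ (S.A t) (V k) = _
        rw [(hVeig k).1, smul_smul, AddChar.mulShift_apply, ← AddChar.map_add_eq_mul]
        congr 2; ring]
      rw [← Finset.sum_smul, AddChar.sum_mulShift _ hψ₁, smul_smul]
      by_cases hkj : k = j
      · subst hkj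
        rw [if_pos (by rw [sub_self, zero_mul]), if_pos rfl, inv_mul_cancel₀ (Nat.cast_ne_zero.2 Fintype.card_ne_zero),
          one_smul]
      · rw [if_neg hkj, if_neg, Nat.cast_zero, mul_zero, zero_smul]
        rw [mul_eq_zero, sub_eq_zero, inv_inj, not_or]
        exact ⟨fun e => hkj (Units.ext e), ha0 ▸ hψD⟩
    have h' := congrArg (ReeRep.proj RA (ψ₁.mulShift ((j : F)⁻¹ * a0))) hc
    simp only [map_sum, map_smul, map_zero, hP, smul_ite, smul_zero, Finset.sum_ite_eq', Finset.mem_univ,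
      if_true] at h'
    refine (smul_eq_zero.1 h').resolve_right fun h0 => hv10 ?_
    rw [hV] at h0
    rw [← Module.End.one_apply (R := ℂ) v1, ← hinv' (h j * S.w), Module.End.mul_apply, h0, map_zero]
  have hle : q - 1 ≤ e := by
    have h := Submodule.finrank_mono (Submodule.span_le.2 (Set.range_subset_iff.2 hVmem))
    rw [finrank_span_eq_card hli, ← he, Fintype.card_units, hq] at h
    exact h
  rcases eq_or_lt_of_le hle with h | h
  · exact absurd (hdim.trans (by rw [← h])) hex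
  · omega

end Cfsg.Agent.D4Radical
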