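/-
The smallest degree of a nontrivial representation of `E₆(q)`.
-/
import Cfsg.Agent.Lib.MinDegree.Heis.Levi
import Cfsg.Agent.Lib.Lie.ChevSimple
import Cfsg.Agent.Lib.Lie.OrderE6
import Cfsg.Agent.Lib.Lie.TwE6
import Cfsg.Agent.Lib.Char.Integral
import Cfsg.Agent.Lib.OrthDeg.Unitary
import Cfsg.Agent.S1054
import Cfsg.Agent.S1063

set_option autoImplicit false
set_option maxRecDepth 20000
set_option maxHeartbeats 2000000

namespace Cfsg.Agent.MinDegreeE6

open LinearMap Module Cfsg.Lie Cfsg.Agent.Chev Cfsg.Agent.Chev.Tab Cfsg.Agent.Heis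

/-! ### arithmetic -/

theorem coprime_of_two {R P u v w : ℤ} (h : u * R + v * P = 2) (hP : P = 2 * w + 1) : IsCoprime R P :=
  ⟨-(w * u), 1 - w * v, by linear_combination -w * h + hP⟩

theorem coprime_of_four {R P u v w : ℤ} (h : u * R + v * P = 4) (hP : P = 2 * w + 1) : IsCoprime R P :=
  ⟨-((w ^ 2 + w) * u), P - (w ^ 2 + w) * v, by linear_combination -(w ^ 2 + w) * h + (P + 2 * w + 1) * hP⟩

theorem not_dvd_order {q : ℕ} (hq : 2 ≤ q) {k : ℕ} (hk : k + 1 = q ^ 11 + q ^ 8 + q ^ 7 + q ^ 5 + q ^ 4 + q) :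
    ¬ k ∣ q ^ 36 * (q ^ 2 - 1) * (q ^ 5 - 1) * (q ^ 6 - 1) * (q ^ 8 - 1) * (q ^ 9 - 1) * (q ^ 12 - 1) := by
  intro hd
  have h := Int.natCast_dvd_natCast.2 hd
  have h1 : ∀ e, 1 ≤ q ^ e := fun e => Nat.one_le_pow _ _ (by omega)
  push_cast [Nat.cast_sub (h1 2), Nat.cast_sub (h1 5), Nat.cast_sub (h1 6), Nat.cast_sub (h1 8), Nat.cast_sub (h1 9),
    Nat.cast_sub (h1 12)] at h
  have hk' : (k : ℤ) + 1 = (q : ℤ) ^ 11 + (q : ℤ) ^ 8 + (q : ℤ) ^ 7 + (q : ℤ) ^ 5 + (q : ℤ) ^ 4 + (q : ℤ) := by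
    exact_mod_cast hk
  obtain ⟨x, hx⟩ : ∃ x : ℤ, x = (q : ℤ) := ⟨_, rfl⟩
  rw [← hx] at h hk'
  obtain ⟨R, hR⟩ : ∃ R : ℤ, R = x ^ 9 + x ^ 8 + x ^ 5 + x ^ 4 + x ^ 3 + x ^ 2 - 1 := ⟨_, rfl⟩
  have hRk : R ∣ (k : ℤ) := ⟨x ^ 2 - x + 1, by rw [hR]; linear_combination hk'⟩
  have h' := hRk.trans h
  have c0 : IsCoprime R x := ⟨-1, x + x ^ 2 + x ^ 3 + x ^ 4 + x ^ 7 + x ^ 8, by rw [hR]; ring⟩
  have c2 : IsCoprime R (x + 1) := ⟨-1, x ^ 2 + x ^ 4 + x ^ 8, by rw [hR]; ring⟩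
  have c4 : IsCoprime R (x ^ 2 + 1) := ⟨-x, 1 - x - x ^ 2 + 2 * x ^ 3 + 2 * x ^ 4 - x ^ 5 - x ^ 6 + x ^ 7 + x ^ 8,
    by rw [hR]; ring⟩
  have c8 : IsCoprime R (x ^ 4 + 1) := ⟨-1 + x - x ^ 2, x + x ^ 4 + x ^ 7, by rw [hR]; ring⟩
  have c9 : IsCoprime R (x ^ 6 + x ^ 3 + 1) := ⟨-1 + x - x ^ 2, x + x ^ 5, by rw [hR]; ring⟩
  obtain ⟨w1, hw1⟩ := Int.even_mul_succ_self x
  obtain ⟨w2, hw2⟩ := Int.even_mul_succ_self (x - 1)
  have c3 : IsCoprime R (x ^ 2 + x + 1) := coprime_of_two (u := x) (w := w1)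
    (v := 2 - x - x ^ 2 + x ^ 3 - x ^ 4 - x ^ 5 + x ^ 6 - x ^ 8) (by rw [hR]; ring) (by linear_combination hw1)
  have c6 : IsCoprime R (x ^ 2 - x + 1) := coprime_of_four (u := -1) (w := w2)
    (v := 3 + 3 * x + x ^ 2 - x ^ 3 - x ^ 4 + x ^ 5 + 2 * x ^ 6 + x ^ 7) (by rw [hR]; ring)
    (by linear_combination hw2)
  have c12 : IsCoprime R (x ^ 4 - x ^ 2 + 1) := coprime_of_two (u := -1 + x - x ^ 2) (w := 2 * w1 * w2)
    (v := 1 + x + x ^ 2 + x ^ 3 + x ^ 4 + x ^ 5 + x ^ 7) (by rw [hR]; ring)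
    (by linear_combination (x * (x - 1)) * hw1 + 2 * w1 * hw2)
  have e : x ^ 36 * (x ^ 2 - 1) * (x ^ 5 - 1) * (x ^ 6 - 1) * (x ^ 8 - 1) * (x ^ 9 - 1) * (x ^ 12 - 1) =
      ((x ^ 36 * (x + 1) ^ 4) * ((x ^ 2 + x + 1) ^ 3 * (x ^ 2 + 1) ^ 2) *
        ((x ^ 2 - x + 1) ^ 2 * (x ^ 4 + 1)) * ((x ^ 6 + x ^ 3 + 1) * (x ^ 4 - x ^ 2 + 1))) *
          ((x - 1) ^ 6 * (x ^ 4 + x ^ 3 + x ^ 2 + x + 1)) := by ring
  rw [e] at h'
  have h'' := (((((c0.pow_right (n := 36)).mul_right (c2.pow_right (n := 4))).mul_right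
    ((c3.pow_right (n := 3)).mul_right (c4.pow_right (n := 2)))).mul_right
      ((c6.pow_right (n := 2)).mul_right c8)).mul_right (c9.mul_right c12)).dvd_of_dvd_mul_left h'
  obtain ⟨v1, hv1⟩ : ∃ v, v = -6 - 6 * x - 5 * x ^ 2 - 4 * x ^ 3 - 3 * x ^ 4 - 2 * x ^ 5 - 2 * x ^ 6 - 2 * x ^ 7 - x ^ 8 :=
    ⟨_, rfl⟩
  obtain ⟨v5, hv5⟩ : ∃ v, v = 1 + x - x ^ 3 + 3 * x ^ 4 + 2 * x ^ 5 - 3 * x ^ 6 + 2 * x ^ 7 + x ^ 8 := ⟨_, rfl⟩
  have m1 : (5 : ℤ) ≡ v1 * (x - 1) [ZMOD R] := Int.modEq_iff_dvd.2 ⟨-1, by rw [hR, hv1]; ring⟩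
  have m5 : (5 : ℤ) ≡ v5 * (x ^ 4 + x ^ 3 + x ^ 2 + x + 1) [ZMOD R] :=
    Int.modEq_iff_dvd.2 ⟨-(-4 + 2 * x - 2 * x ^ 2 - x ^ 3), by rw [hR, hv5]; ring⟩
  have m := (m1.pow 6).mul m5
  have hz : (v1 * (x - 1)) ^ 6 * (v5 * (x ^ 4 + x ^ 3 + x ^ 2 + x + 1)) ≡ 0 [ZMOD R] := by
    refine Int.modEq_zero_iff_dvd.2 ((h''.mul_left (v1 ^ 6 * v5)).trans (dvd_of_eq ?_))
    ring
  have hdvd : R ∣ (78125 : ℤ) := by
    have := Int.modEq_zero_iff_dvd.1 (m.trans hz)
    norm_num at this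
    exact this
  have hx2 : 2 ≤ q := hq
  rcases (show q = 2 ∨ q = 3 ∨ 4 ≤ q by omega) with rfl | rfl | h4
  · rw [hR, hx] at hdvd; norm_num at hdvd
  · rw [hR, hx] at hdvd; norm_num at hdvd
  · have hx4 : (4 : ℤ) ≤ x := by rw [hx]; exact_mod_cast h4
    have := Int.le_of_dvd (by norm_num) hdvd
    have : (4 : ℤ) ^ 9 ≤ x ^ 9 := pow_le_pow_left₀ (by norm_num) hx4 9
    have : (0 : ℤ) ≤ x ^ 8 + x ^ 5 + x ^ 4 + x ^ 3 + x ^ 2 := by positivity
    rw [hR] at *
    linarith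

/-! ### the certificate -/

/-- the abelian subgroup -/
def cfg : Cfg where
  th := 71
  r0 := 70
  a0 := 46
  n := 9
  c := fun j => [53, 54, 55, 64, 65, 66, 67, 68, 69].getD j 0
  z := fun j => [63, 62, 61, 52, 51, 50, 49, 48, 47].getD j 0
  u := fun j => [60, 59, 58, 45, 44, 43, 41, 40, 39].getD j 0
  sw := [1]

/-- the radical modulo its centre -/
def qcfg : QCfg where
  qs := [70, 69, 66, 68, 55, 65, 67, 54, 63, 64, 52, 53, 62, 49, 51, 61, 48, 50, 47, 46]
  k0 := 0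
  kc := fun j => [11, 7, 4, 9, 5, 2, 6, 3, 1].getD j 0
  word := fun j => ([[], [3], [2, 3], [4, 3], [0, 2, 3], [4, 2, 3], [5, 4, 3], [4, 0, 2, 3], [3, 4, 2, 3], [5, 4, 2, 3], [3, 4, 0, 2, 3], [5, 4, 0, 2, 3], [5, 3, 4, 2, 3], [2, 3, 4, 0, 2, 3], [5, 3, 4, 0, 2, 3], [4, 5, 3, 4, 2, 3], [5, 2, 3, 4, 0, 2, 3], [4, 5, 3, 4, 0, 2, 3], [4, 5, 2, 3, 4, 0, 2, 3], [3, 4, 5, 2, 3, 4, 0, 2, 3]] : List (List ℕ)).getD j []

/-- derivation of the roots fixing a distinguished vector -/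
def steps : List (ℕ × Option (ℕ × ℕ)) :=
  [(14, none), (15, none), (29, none), (33, none), (34, none), (35, none), (36, none), (37, none), (38, none), (42, none), (46, none), (47, none), (48, none), (49, none), (50, none), (51, none), (52, none), (56, none), (57, none), (61, none), (62, none), (63, none), (14, some (29, 15)), (15, some (14, 42)), (29, some (14, 56)), (33, some (35, 34)), (34, some (33, 36)), (35, some (33, 37)), (36, some (34, 38)), (37, some (35, 38)), (38, some (37, 36)), (42, some (15, 57)), (47, some (34, 48)), (48, some (47, 37)), (49, some (48, 36)), (50, some (47, 42)), (51, some (50, 37)), (52, some (51, 36)), (56, some (29, 57)), (57, some (56, 42)), (61, some (57, 47)), (62, some (61, 37)), (63, some (62, 36)), (11, none), (12, none), (13, none), (26, none), (27, none), (28, none), (30, none), (31, none), (32, none), (11, some (35, 12)), (12, some (11, 36)), (13, some (12, 37)), (26, some (11,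 56)), (27, some (26, 36)), (28, some (27, 37)), (30, some (26, 42)), (31, some (30, 36)), (32, some (31, 37)), (46, some (32, 47))]

/-- the roots fixing a distinguished vector -/
def fx : List ℕ :=
  [46, 32, 31, 30, 28, 27, 26, 13, 12, 11, 63, 62, 61, 57, 56, 52, 51, 50, 49, 48, 47, 42, 38, 37, 36, 35, 34, 33, 29, 15, 14, 71, 53, 54, 55, 64, 65, 66, 67, 68, 69]

/-- the trace computation -/
def tcfg : TCfg where
  a1 := 14
  a2 := 60
  wa := [5, 4, 3, 0, 2, 0]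
  wz := [1, 3, 4, 5, 2, 3, 4, 1, 3, 0, 2, 0]
  Lz := [(14, none), (15, none), (25, none), (29, none), (33, none), (34, none), (35, none), (36, none), (37, none), (38, none), (39, none), (40, none), (41, none), (42, none), (43, none), (44, none), (45, none), (56, none), (57, none), (58, none), (59, none), (60, none), (14, some (29, 15)), (15, some (14, 42)), (29, some (14, 56)), (33, some (35, 34)), (34, some (33, 36)), (35, some (33, 37)), (36, some (34, 38)), (37, some (35, 38)), (38, some (37, 36)), (39, some (34, 40)), (40, some (39, 37)), (41, some (40, 36)), (42, some (15, 57)), (43, some (42, 39)), (44, some (43, 37)), (45, some (44, 36)), (56, some (29, 57)), (57, some (56, 42)), (58, some (57, 39)), (59, some (58, 37)), (60, some (59, 36)), (8, none), (9, none), (10, none), (19, none), (20, none), (21, none), (22, none), (23, none), (24, none), (8, some (35, 9)), (9, some (8, 36)), (10, some (9, 37)), (19, some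 (8, 56)), (20, some (19, 36)), (21, some (20, 37)), (22, some (19, 42)), (23, some (22, 36)), (24, some (23, 37)), (25, some (24, 39))]

/-- the special linear group in the Levi complement -/
def lcfg : LCfg where
  n := 6
  rt := fun i j => ([[0, 56, 57, 58, 59, 60], [15, 0, 42, 43, 44, 45], [14, 29, 0, 39, 40, 41], [13, 28, 32, 0, 37, 38], [12, 27, 31, 34, 0, 36], [11, 26, 30, 33, 35, 0]] : List (List ℕ)).getD i [] |>.getD j 0
  sg := fun i j => ([[1, 1, -1, 1, -1, 1], [1, 1, 1, -1, 1, -1], [-1, 1, 1, 1, -1, 1], [1, -1, 1, 1, 1, -1], [-1, 1, -1, 1, 1, 1], [1, -1, 1, -1, 1, 1]] : List (List ℤ)).getD i [] |>.getD j 1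

/-! ### the group -/

variable {F : Type*} [Field F]

theorem gA : E6Data.tab.GoodA := TwE6.gA

theorem g0 : E6Data.tab.Good := TwE6.g0

/-- root elements in the group -/
noncomputable def xG (r : ℕ) : AddChar F (E6Data.tab.D.group F) where
  toFun t := ⟨xg g0 r t, xg_mem_group g0 r t⟩
  map_zero_eq_one' := Subtype.ext (xg_zero g0 r)
  map_add_eq_mul' s t := Subtype.ext (xg_add g0 r s t).symm

variable (F) in
/-- the relations of the group -/
noncomputable def grp : Grp E6Data.tab F (E6Data.tab.D.group F) where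
  S _ := true
  x := xG
  J _ := true
  w i := ⟨nG g0 F i, nG_mem_group g0 i⟩
  comm r s _ _ hr hs h1 h2 t u := by
    refine Subtype.ext ?_
    have hp : ∀ L : List (ℕ × F), (((L.map fun e => (xG e.1 e.2 : E6Data.tab.D.group F)).prod :
        E6Data.tab.D.group F) : GL E6Data.tab.D.Idx F) = (L.map fun e => xg g0 e.1 e.2).prod := fun L => by
      induction L with
      | nil => rfl
      | cons e L ih => rw [List.map_cons, List.map_cons, List.prod_cons, List.prod_cons, Subgroup.coe_mul, ih]; rfl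
    simp only [Subgroup.coe_mul, hp]
    exact xg_comm gA hr hs h1 h2 t u
  conj i s _ _ hi hs t := Subtype.ext (nG_conj g0 hi hs t)

theorem chkY : cfg.chkY E6Data.tab (fun _ => true) (fun _ => true) = true := by decide +kernel

theorem chkQ : qcfg.chk E6Data.tab (fun _ => true) (fun _ => true) cfg fx = true := by decide +kernel

theorem chkRun : run E6Data.tab (fun _ => true) cfg.ys steps (cfg.ys.filter (· != cfg.r0)) [cfg.r0] = some fx := by
  decide +kernel

theorem chkA : tcfg.chkA E6Data.tab (fun _ => true) (fun _ => true) cfg = true := by decide +kernel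

theorem chkB : tcfg.chkB E6Data.tab (fun _ => true) (fun _ => true) cfg qcfg fx = true := by decide +kernel

theorem chkL : lcfg.chk E6Data.tab (fun _ => true) cfg qcfg = true := by decide +kernel

theorem free_lengths : ((List.range qcfg.m).map fun i => (qcfg.free E6Data.tab cfg i).length) =
    [9, 8, 7, 7, 6, 6, 6, 5, 5, 5, 4, 4, 4, 3, 3, 3, 2, 2, 1, 0] := by decide +kernel

theorem fix_cases : ((List.range qcfg.m).map fun i => tcfg.fixCase E6Data.tab (fun _ => true) cfg qcfg fx i) =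
    [false, false, false, false, true, false, true, true, false, true, true, true, true, true, true, true, true, true,
      true, true] := by decide +kernel

theorem still_length : (tcfg.still E6Data.tab (fun _ => true) cfg).length = 6 := by decide +kernel

theorem rt_eq : lcfg.rt 0 5 = tcfg.a2 := by decide +kernel

theorem sum_cells {M : Type*} [AddCommMonoid M] (g : ℕ → Bool → M) :
    ∑ i : Fin qcfg.m, g (qcfg.free E6Data.tab cfg i).length
      (tcfg.fixCase E6Data.tab (fun _ => true) cfg qcfg fx i) =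
    (([9, 8, 7, 7, 6, 6, 6, 5, 5, 5, 4, 4, 4, 3, 3, 3, 2, 2, 1, 0] : List ℕ).zipWith g
      [false, false, false, false, true, false, true, true, false, true, true, true, true, true, true, true, true,
        true, true, true]).sum := by
  rw [← free_lengths, ← fix_cases, List.zipWith_map, List.zipWith_self,
    Fin.sum_univ_eq_sum_range (fun i => g (qcfg.free E6Data.tab cfg i).length
      (tcfg.fixCase E6Data.tab (fun _ => true) cfg qcfg fx i)) qcfg.m]
  rfl

theorem scal : Cfg.Scal cfg (grp F) := by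
  intro k hk
  obtain ⟨c, hc⟩ : ∃ c : ℕ → Fˣ, c = Function.update (1 : ℕ → Fˣ) 1 (Units.mk0 k hk) := ⟨_, rfl⟩
  have key : ∀ r, r < E6Data.tab.n → ∀ t : F,
      (⟨tor E6Data.tab F c, tor_mem_group g0 c⟩ : E6Data.tab.D.group F) * (grp F).x r t *
        (⟨tor E6Data.tab F c, tor_mem_group g0 c⟩ : E6Data.tab.D.group F)⁻¹ =
      (grp F).x r ((wt E6Data.tab F c r : F) * t) := fun r hr t => Subtype.ext (tor_xg g0 c hr t)
  have hwt : wt E6Data.tab F c cfg.th = Units.mk0 k hk := by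
    rw [wt, Finset.prod_eq_single 1]
    · rw [show E6Data.tab.A 1 cfg.th = 1 by decide +kernel, hc, Function.update_self, zpow_one]
    · intro j _ hj
      rw [hc, Function.update_of_ne hj, Pi.one_apply, one_zpow]
    · intro h1
      exact absurd (Finset.mem_range.2 (show 1 < E6Data.tab.l by decide +kernel)) h1
  refine ⟨⟨tor E6Data.tab F c, tor_mem_group g0 c⟩, fun t => ?_, ⟨_, Units.ne_zero _, key _ (by decide +kernel)⟩,
    fun j => ⟨_, Units.ne_zero _, key _ ?_⟩⟩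
  · rw [key _ (by decide +kernel), hwt]; rfl
  · revert j; decide +kernel

theorem min_degree [Fintype F] (k : ℕ) (ρ : Representation ℂ (E6Data.tab.D.group F) (Fin k → ℂ))
    (hirr : ρ.IsIrreducible) (hk : 2 ≤ k) :
    Fintype.card F * (Fintype.card F ^ 6 + Fintype.card F ^ 3 + 1) * (Fintype.card F ^ 4 + 1) ≤ k := by
  classical
  obtain ⟨q, hq⟩ : ∃ q, q = Fintype.card F := ⟨_, rfl⟩
  have hq2 : 2 ≤ q := hq ▸ Fintype.one_lt_card
  rw [← hq]
  let f : E6Data.tab.D.group F →* Module.End ℂ (Fin k → ℂ) := ρ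
  have hd := Cfg.good_of_chk cfg (grp F) rfl rfl chkY
  have hQ := qcfg.good_of_chk (E := grp F) rfl rfl chkQ
  have hinj : ∀ g, f g = 1 → g = 1 := by
    haveI : IsSimpleGroup ↥(E6Data.tab.D.group F) := by
      obtain ⟨hs, -⟩ := S1054.result (F := F) E6Data.tab.D (by simp [E6Data.tab])
      exact hs
    rcases f.toHomUnits.normal_ker.eq_bot_or_eq_top with h | h
    · intro g hg
      have : g ∈ f.toHomUnits.ker := MonoidHom.mem_ker.2 (Units.ext hg)
      rwa [h, Subgroup.mem_bot] at this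
    · exfalso
      obtain ⟨g, x, hgx⟩ := OrthDeg.exists_ne_of_irreducible ρ hirr hk
      refine hgx ?_
      have : g ∈ f.toHomUnits.ker := h ▸ Subgroup.mem_top g
      have e : f g = 1 := congrArg Units.val (MonoidHom.mem_ker.1 this)
      show f g x = x
      rw [e]; rfl
  obtain ⟨ψ₁, hψn⟩ : ∃ ψ : AddChar F ℂ, ψ ≠ 1 := by
    obtain ⟨ψ, hψ⟩ := AddChar.exists_apply_ne_zero.2 (one_ne_zero (α := F))
    exact ⟨ψ, fun h => hψ (by rw [h, AddChar.one_apply])⟩
  have hψ : ψ₁.IsPrimitive := AddChar.IsPrimitive.of_ne_one hψn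
  haveI : Fintype ((Fin cfg.n → F) →ₗ[F] F) := Fintype.ofFinite _
  haveI : Fintype (F × F × (Fin cfg.n → F) →ₗ[F] F) := Fintype.ofFinite _
  obtain ⟨S, hS⟩ : ∃ S, S = Cfg.sys hd := ⟨_, rfl⟩
  have hT : Fintype.card ((Fin cfg.n → F) →ₗ[F] F) = q ^ 9 := by
    rw [← Fintype.card_congr cf, Fintype.card_fun, Fintype.card_fin, ← hq]
    rfl
  have hu : S.Uniform f ψ₁ := hS ▸ (Cfg.sys hd).uniform_of_scales f (Cfg.scales hd scal)
  have hm0 : S.m f ψ₁ ≠ 0 := S.m_ne_zero f hψ hu ⟨1, fun h => by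
    rw [hS] at h
    have h1 := congrArg Subtype.val (hinj _ h)
    rw [show (Cfg.sys hd).Y = Cfg.Y hd.toGood0 from rfl, Cfg.Y_th] at h1
    exact one_ne_zero (xg_injective g0 (show cfg.th < E6Data.tab.n by decide +kernel) (h1.trans (xg_zero g0 cfg.th).symm))⟩
  have hfr : k = (q - 1) * (q * q ^ 9 * S.m f ψ₁) + ReeRep.mult (S.RZ f) 0 := by
    refine (Module.finrank_fin_fun ℂ (n := k)).symm.trans ?_
    rw [S.finrank_eq f hψ hu, hT, ← hq]
  have hpoly : q * (q ^ 6 + q ^ 3 + 1) * (q ^ 4 + 1) = q ^ 11 + q ^ 8 + q ^ 7 + q ^ 5 + q ^ 4 + q := by ring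
  rw [hpoly]
  obtain ⟨t, ht⟩ : ∃ t, q = t + 2 := ⟨q - 2, by omega⟩
  rcases (show S.m f ψ₁ = 1 ∨ 2 ≤ S.m f ψ₁ by omega) with hm | hm
  swap
  · have hC : (q - 1) * (q ^ 9 * S.m f ψ₁) ≤ ReeRep.mult (S.RZ f) 0 := by
      have e : (0 : AddChar F ℂ) = ψ₁.mulShift 0 := by rw [AddChar.mulShift_zero]; rfl
      rw [e, S.mu_RZ f hψ, ← Finset.add_sum_erase _ _ (Finset.mem_univ (0 : F))]
      refine le_add_left (le_of_eq ?_)
      rw [Finset.sum_congr rfl fun d hd => Finset.sum_congr rfl fun φ _ => S.mu_fixed f hψ hu (Finset.ne_of_mem_erase hd) φ]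
      simp [hT, hq, Finset.card_erase_of_mem, mul_assoc]
    have h1 : (q - 1) * (q * q ^ 9 * 2) ≤ (q - 1) * (q * q ^ 9 * S.m f ψ₁) := Nat.mul_le_mul_left _ (Nat.mul_le_mul_left _ hm)
    have h2 : (q - 1) * (q ^ 9 * 2) ≤ (q - 1) * (q ^ 9 * S.m f ψ₁) := Nat.mul_le_mul_left _ (Nat.mul_le_mul_left _ hm)
    have h3 : q ^ 11 + q ^ 8 + q ^ 7 + q ^ 5 + q ^ 4 + q ≤ (q - 1) * (q * q ^ 9 * 2) + (q - 1) * (q ^ 9 * 2) := by
      subst ht
      rw [show t + 2 - 1 = t + 1 from rfl]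
      ring_nf
      omega
    omega
  subst hS
  have hctx : Ctx cfg (grp F) qcfg fx f ψ₁ := Ctx.ofCentre hd hQ hψ ⟨steps, chkRun⟩ hu hm
  have hC : ReeRep.mult ((Cfg.sys hd).RZ f) 0 = finrank ℂ (range (e0 (grp F) cfg f)) := by
    have e : (Cfg.sys hd).RZ f = f.compAddChar ((grp F).x cfg.th) :=
      DFunLike.ext _ _ fun x => congrArg f (Cfg.Y_th hd.toGood0 x)
    rw [e]; rfl
  rw [hC, Ctx.finrank_fixed hctx, hm, ← hq, sum_cells (fun l _ => q ^ l)] at hfr
  obtain ⟨s, x, hx, hmove⟩ := Ctx.exists_moved hctx hd hu hm rfl rfl chkA chkB (by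
    rw [← hq, show (grp F).S = fun _ => true from rfl, sum_cells (fun l b => if b = true then q ^ l else 0),
      sum_cells (fun l _ => q ^ l), still_length, show cfg.n = 9 from rfl]
    intro e
    subst ht
    rw [show t + 2 - 1 = t + 1 from rfl] at e
    simp only [List.zipWith_cons_cons, List.zipWith_nil_right, List.sum_cons, List.sum_nil, if_true,
      Bool.false_eq_true, if_false] at e
    have : (t + 2) ^ 5 = 0 := by ring_nf at e ⊢; omega
    exact pow_ne_zero 5 (Nat.succ_ne_zero (t + 1)) this)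
  have hb := Ctx.levi_bound hctx rfl chkL (le_refl 5 |>.trans (by decide)) (i := ⟨0, by decide⟩) (j := ⟨5, by decide⟩)
    (by decide) hx (by rw [show lcfg.rt ((⟨0, by decide⟩ : Fin lcfg.n) : ℕ) ((⟨5, by decide⟩ : Fin lcfg.n) : ℕ) = tcfg.a2 from rt_eq]; exact hmove)
  rw [← hq, show lcfg.n = 6 from rfl] at hb
  have hS6 : (q ^ 6 - q) / (q - 1) = q ^ 5 + q ^ 4 + q ^ 3 + q ^ 2 + q := by
    refine Nat.div_eq_of_eq_mul_left (by omega) ?_
    subst ht
    rw [show t + 2 - 1 = t + 1 from rfl]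
    refine Nat.sub_eq_of_eq_add ?_
    ring
  rw [hS6] at hb
  have hmain : q ^ 11 + q ^ 8 + q ^ 7 + q ^ 5 + q ^ 4 + q ≤ k + 1 := by
    rw [hfr]
    subst ht
    simp only [List.zipWith_cons_cons, List.zipWith_nil_right, List.sum_cons, List.sum_nil]
    rw [show t + 2 - 1 = t + 1 from rfl]
    ring_nf at hb ⊢
    omega
  by_contra hlt
  have hkeq : k + 1 = q ^ 11 + q ^ 8 + q ^ 7 + q ^ 5 + q ^ 4 + q := by omega
  have hdv : k ∣ Nat.card (E6Data.tab.D.group F) := by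
    have hχ : Cfsg.IsIrrCharacter (E6Data.tab.D.group F) ρ.character := ⟨k, ρ, hirr, rfl⟩
    exact Char.degree_dvd_card hχ (by rw [Representation.char_one, Module.finrank_fin_fun])
  refine not_dvd_order hq2 hkeq ?_
  have ho := S1063.result (F := F) hq.symm
  rw [← ho]
  exact hdv.mul_left _

end Cfsg.Agent.MinDegreeE6
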