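/-
The numbers just below the smallest degree of `E₈(q)` do not divide the order of the group.
-/
import Mathlib.Tactic.LinearCombination
import Mathlib.FieldTheory.Finite.Basic

set_option autoImplicit false
set_option maxRecDepth 20000

namespace Cfsg.Agent.MinDegreeE8.Arith

/-- value of a coefficient list, constant term first -/
def ev : List ℤ → ℤ → ℤ
  | [], _ => 0
  | c :: L, x => c + x * ev L x

/-- sum of coefficient lists -/
def padd : List ℤ → List ℤ → List ℤ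
  | [], L => L
  | a :: A, [] => a :: A
  | a :: A, b :: B => (a + b) :: padd A B

/-- product of coefficient lists -/
def pmul : List ℤ → List ℤ → List ℤ
  | [], _ => []
  | a :: A, B => padd (B.map fun b => a * b) (0 :: pmul A B)

theorem ev_padd : ∀ (A B : List ℤ) (x : ℤ), ev (padd A B) x = ev A x + ev B x
  | [], B, x => by simp [padd, ev]
  | a :: A, [], x => by simp [padd, ev]
  | a :: A, b :: B, x => by simp only [padd, ev, ev_padd A B x]; ring

theorem ev_smul (a : ℤ) : ∀ (B : List ℤ) (x : ℤ), ev (B.map fun b => a * b) x = a * ev B x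
  | [], x => by simp [ev]
  | b :: B, x => by simp only [List.map_cons, ev, ev_smul a B x]; ring

theorem ev_pmul : ∀ (A B : List ℤ) (x : ℤ), ev (pmul A B) x = ev A x * ev B x
  | [], B, x => by simp [pmul, ev]
  | a :: A, B, x => by simp only [pmul, ev_padd, ev_smul, ev, ev_pmul A B x]; ring

/-- all partial Horner values are positive -/
def posFrom (b : ℤ) : List ℤ → Bool
  | [] => false
  | [c] => decide (0 < c)
  | c :: L => posFrom b L && decide (0 < c + b * ev L b)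

theorem posFrom_le {b : ℤ} (hb : 0 ≤ b) : ∀ {L : List ℤ}, posFrom b L = true → ∀ {x : ℤ}, b ≤ x →
    0 < ev L b ∧ ev L b ≤ ev L x
  | [], h, _, _ => by simp [posFrom] at h
  | [c], h, x, _ => by
    simp only [posFrom, decide_eq_true_eq] at h
    simp [ev, h]
  | c :: d :: L, h, x, hx => by
    simp only [posFrom, Bool.and_eq_true, decide_eq_true_eq] at h
    obtain ⟨h1, h2⟩ := posFrom_le hb h.1 hx
    refine ⟨h.2, ?_⟩
    show c + b * ev (d :: L) b ≤ c + x * ev (d :: L) x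
    exact add_le_add le_rfl (mul_le_mul hx h2 h1.le (hb.trans hx))

/-- the product of the numbers `q^d - 1` -/
def ordList : List ℤ :=
  ([2, 8, 12, 14, 18, 20, 24, 30] : List ℕ).foldr (fun d L => pmul ((-1) :: (List.replicate (d - 1) 0 ++ [1])) L) [1]

/-- the degree -/
def degList : List ℤ :=
  pmul [0, 1] (pmul (1 :: (List.replicate 11 0 ++ [1])) (pmul (1 :: (List.replicate 9 0 ++ [1]))
    (1 :: (List.replicate 5 0 ++ [1]))))

/-- the order without the power of `q` -/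
def ord (q : ℕ) : ℕ :=
  (q ^ 2 - 1) * (q ^ 8 - 1) * (q ^ 12 - 1) * (q ^ 14 - 1) * (q ^ 18 - 1) * (q ^ 20 - 1) * (q ^ 24 - 1) * (q ^ 30 - 1)

/-- the degree -/
def deg (q : ℕ) : ℕ := q * (q ^ 12 + 1) * (q ^ 10 + 1) * (q ^ 6 + 1)

theorem ev_ordList {q : ℕ} (hq : 1 ≤ q) : ev ordList q = (ord q : ℤ) := by
  have h1 : ∀ e, 1 ≤ q ^ e := fun e => Nat.one_le_pow _ _ hq
  rw [ord]
  push_cast [Nat.cast_sub (h1 2), Nat.cast_sub (h1 8), Nat.cast_sub (h1 12), Nat.cast_sub (h1 14), Nat.cast_sub (h1 18),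
    Nat.cast_sub (h1 20), Nat.cast_sub (h1 24), Nat.cast_sub (h1 30)]
  simp only [ordList, List.foldr_cons, List.foldr_nil, ev_pmul, Nat.reduceSub, List.replicate, List.cons_append,
    List.nil_append, ev]
  ring

theorem ev_degList (q : ℕ) : ev degList q = (deg q : ℤ) := by
  rw [deg]
  push_cast
  simp only [degList, ev_pmul, List.replicate, List.cons_append, List.nil_append, ev]
  ring

/-- checks for a difference `j` -/
def chk (j : ℕ) (Q R : List ℤ) (s : ℤ) (b : ℕ) : Bool :=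
  let D := padd degList [-(j : ℤ)]
  let P := R.map fun c => s * (j : ℤ) * c
  (padd (padd (pmul Q D) R) (ordList.map fun c => -1 * c)).all (fun c => c == 0) &&
    posFrom b P && posFrom b (padd D (P.map fun c => -1 * c)) && (s == 1 || s == -1) &&
    (List.range b).all fun q => Nat.blt q 4 || (((j : ℤ) * ev R q) % ev D q != 0)

theorem ev_zero : ∀ {L : List ℤ}, L.all (fun c => c == 0) = true → ∀ x, ev L x = 0
  | [], _, _ => rfl
  | c :: L, h, x => by
    simp only [List.all_cons, Bool.and_eq_true, beq_iff_eq] at h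
    simp [ev, h.1, ev_zero h.2]

theorem not_dvd_of_chk {j : ℕ} {Q R : List ℤ} {s : ℤ} {b : ℕ} (h : chk j Q R s b = true) {q k : ℕ} (hq : 4 ≤ q)
    (hk : k + j = deg q) : ¬ k ∣ j * ord q := by
  intro hd
  simp only [chk, Bool.and_eq_true, Bool.or_eq_true, beq_iff_eq, List.all_eq_true, List.mem_range, bne_iff_ne,
    Nat.blt_eq] at h
  obtain ⟨⟨⟨⟨hid, hP⟩, hdif⟩, hs⟩, hsmall⟩ := h
  have hid' : ∀ x, ev Q x * ev (padd degList [-(j : ℤ)]) x + ev R x - ev ordList x = 0 := by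
    intro x
    have := ev_zero (List.all_eq_true.2 fun c hc => by simpa using hid c hc) x
    rw [ev_padd, ev_padd, ev_pmul, ev_smul] at this
    linarith
  have hD : ev (padd degList [-(j : ℤ)]) q = (k : ℤ) := by
    rw [ev_padd, ev_degList, ← hk]
    simp [ev]
  have hdz : (k : ℤ) ∣ (j : ℤ) * ev R q := by
    have h1 : (k : ℤ) ∣ (j : ℤ) * ev ordList q := by
      rw [ev_ordList (by omega)]
      exact_mod_cast Int.natCast_dvd_natCast.2 hd
    have e : (j : ℤ) * ev R q = (j : ℤ) * ev ordList q - (k : ℤ) * ((j : ℤ) * ev Q q) := by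
      have := hid' q
      rw [hD] at this
      linear_combination (j : ℤ) * this
    rw [e]
    exact dvd_sub h1 (dvd_mul_right _ _)
  by_cases hqb : q < b
  · refine (hsmall q hqb).resolve_left (by omega) ?_
    rw [hD]
    exact Int.emod_eq_zero_of_dvd hdz
  · have hb : (b : ℤ) ≤ (q : ℤ) := by exact_mod_cast not_lt.1 hqb
    obtain ⟨p1, p2⟩ := posFrom_le (Int.natCast_nonneg b) hP hb
    obtain ⟨d1, d2⟩ := posFrom_le (Int.natCast_nonneg b) hdif hb
    rw [ev_smul] at p1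
    rw [ev_padd, ev_smul, ev_smul] at d1
    rw [ev_smul, ev_smul] at p2
    rw [ev_padd, ev_smul, ev_smul, ev_padd (padd degList [-(j : ℤ)]), ev_smul, ev_smul, hD] at d2
    have hpos : 0 < s * (j : ℤ) * ev R q := lt_of_lt_of_le p1 p2
    have hlt : s * (j : ℤ) * ev R q < (k : ℤ) := by linarith
    have hle := Int.le_of_dvd hpos ((mul_assoc s _ _).symm ▸ hdz.mul_left s)
    linarith

theorem chk1 : chk 1
    [(-4), 11, (-15), (-8), (-7), 28, (-7), 2, 3, 22, 9, (-7), 10, 8, 11, (-13), 3, 1, 1, (-10), (-7), 2,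
    (-5), (-6), (-9), 7, (-5), (-2), (-3), 4, 4, (-2), 3, 2, 8, (-2), 3, 1, 4, (-1), (-3), 3, (-1), (-1),
    (-5), 0, (-1), 0, (-3), (-2), 1, 0, (-1), 0, 3, (-1), 1, 2, 2, 0, (-1), 1, 1, 1, (-2), 0, 0, 0, (-1),
    (-1), 1, (-2), 0, 0, 0, (-1), 0, 0, 0, 1, 0, 0, 0, 1, 0, 1, 0, 0, 0, 0, 0, 0, 0, (-1), 0, 0, 0, (-1),
    0, 1]
    [(-3), 15, (-27), 7, 1, 35, (-35), 13, (-11), 34, (-4), (-5), (-23), 24, (-2), (-5), (-25), 7, (-35),
    2, (-31), 8, (-28), (-5), (-48), 13, (-10), (-9), (-35)]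
    (-1) 36 = true := by decide +kernel

theorem chk2 : chk 2
    [46, 47, (-48), (-32), 4, 115, (-38), 8, 6, 88, 12, (-28), 26, 29, 22, (-55), 6, 4, 2, (-43), (-14),
    8, (-10), (-21), (-18), 28, (-10), (-2), (-6), 19, 8, (-8), 6, 8, 16, (-11), 6, 1, 8, (-4), (-6), 6,
    (-2), (-1), (-10), 0, (-2), 0, (-6), (-2), 2, 0, (-2), 0, 6, (-1), 2, 2, 4, 0, (-2), 1, 2, 1, (-4),
    0, 0, 0, (-2), (-1), 2, (-2), 0, 0, 0, (-1), 0, 0, 0, 1, 0, 0, 0, 1, 0, 1, 0, 0, 0, 0, 0, 0, 0, (-1),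
    0, 0, 0, (-1), 0, 1]
    [93, 48, (-144), (-16), 40, 226, (-191), 8, (-44), 218, (-31), (-118), (-83), 72, (-8), (-94), (-103),
    (-22), (-143), (-80), (-124), 34, (-115), (-88), (-192), 104, (-40), (-30), (-143)]
    (-1) 287 = true := by decide +kernel

theorem chk3 : chk 3
    [204, 107, (-117), (-72), 51, 260, (-117), 18, 9, 198, 3, (-63), 54, 64, 33, (-125), 9, 9, 3, (-98),
    (-21), 18, (-15), (-46), (-27), 63, (-15), (-2), (-9), 44, 12, (-18), 9, 18, 24, (-26), 9, 1, 12,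
    (-9), (-9), 11, (-3), (-1), (-15), 0, (-3), 0, (-9), (-2), 3, 0, (-3), 0, 9, (-1), 3, 2, 6, 0, (-3),
    1, 3, 1, (-6), 0, 0, 0, (-3), (-1), 3, (-2), 0, 0, 0, (-1), 0, 0, 0, 1, 0, 0, 0, 1, 0, 1, 0, 0, 0, 0,
    0, 0, 0, (-1), 0, 0, 0, (-1), 0, 1]
    [613, 117, (-459), (-99), 225, 729, (-611), (-33), (-99), 702, (-116), (-447), (-143), 168, (-18),
    (-351), (-233), (-123), (-323), (-330), (-279), 96, (-260), (-327), (-432), 351, (-90), (-75),
    (-323)]
    (-1) 970 = true := by decide +kernel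

theorem small : ∀ q ∈ [2, 3], ∀ j ∈ [1, 2, 3], (q ^ 120 * ord q) % (deg q - j) ≠ 0 := by decide +kernel

theorem not_dvd {q : ℕ} (hpp : IsPrimePow q) {j k : ℕ} (hj : j ∈ [1, 2, 3]) (hk : k + j = deg q) :
    ¬ k ∣ q ^ 120 * ord q := by
  intro hd
  have hq2 : 2 ≤ q := hpp.two_le
  rcases (show q = 2 ∨ q = 3 ∨ 4 ≤ q by omega) with rfl | rfl | hq4
  · exact small 2 (by simp) j hj (by rw [show deg 2 - j = k by omega]; exact Nat.mod_eq_zero_of_dvd hd)
  · exact small 3 (by simp) j hj (by rw [show deg 3 - j = k by omega]; exact Nat.mod_eq_zero_of_dvd hd)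
  suffices hjo : k ∣ j * ord q by
    fin_cases hj
    · exact not_dvd_of_chk chk1 hq4 hk hjo
    · exact not_dvd_of_chk chk2 hq4 hk hjo
    · exact not_dvd_of_chk chk3 hq4 hk hjo
  obtain ⟨U, hU⟩ : ∃ U, deg q = q * U := ⟨(q ^ 12 + 1) * (q ^ 10 + 1) * (q ^ 6 + 1), by rw [deg]; ring⟩
  have hj3 : j = 1 ∨ j = 2 ∨ j = 3 := by simpa using hj
  by_cases hc : Nat.Coprime k q
  · exact ((hc.pow_right 120).dvd_of_dvd_mul_left hd).mul_left j
  obtain ⟨p, hp, hpk, hpq⟩ := Nat.Prime.not_coprime_iff_dvd.1 hc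
  have hpj : p ∣ j := (Nat.dvd_add_right hpk).1 (hk ▸ hU ▸ hpq.mul_right U)
  obtain rfl : p = j := by
    rcases hj3 with rfl | rfl | rfl
    · exact absurd hpj hp.not_dvd_one
    · exact (Nat.prime_dvd_prime_iff_eq hp Nat.prime_two).1 hpj
    · exact (Nat.prime_dvd_prime_iff_eq hp Nat.prime_three).1 hpj
  obtain ⟨P, e, hP, he, hPe⟩ := hpp
  have hPp : Nat.Prime P := Nat.prime_iff.2 hP
  obtain rfl : p = P := (Nat.prime_dvd_prime_iff_eq hp hPp).1 (hp.dvd_of_dvd_pow (hPe.symm ▸ hpq))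
  obtain ⟨e, rfl⟩ : ∃ e', e = e' + 2 := ⟨e - 2, by
    rcases (show e = 1 ∨ 2 ≤ e by omega) with rfl | h
    · rw [pow_one] at hPe; omega
    · omega⟩
  obtain ⟨c, rfl⟩ : ∃ c, k = p * c := hpk
  have hc1 : c + 1 = p * (p ^ e * U) := by
    refine Nat.eq_of_mul_eq_mul_left hp.pos ?_
    calc p * (c + 1) = p * c + p := by ring
      _ = deg q := hk
      _ = p * (p * (p ^ e * U)) := by rw [hU, ← hPe]; ring
  have hcp : Nat.Coprime c p := (hp.coprime_iff_not_dvd.2 fun h => hp.not_dvd_one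
    ((Nat.dvd_add_right h).1 (hc1 ▸ dvd_mul_right p (p ^ e * U)))).symm
  refine Nat.mul_dvd_mul_left p (Nat.Coprime.dvd_of_dvd_mul_left ?_ ((dvd_mul_left c p).trans hd))
  rw [← hPe, ← pow_mul]
  exact hcp.pow_right _

end Cfsg.Agent.MinDegreeE8.Arith
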