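/-
Certificates for the three radicals used for the smallest degree of `E₈(q)`.
-/
import Cfsg.Agent.Lib.MinDegree.Heis.Levi

set_option autoImplicit false

namespace Cfsg.Agent.MinDegreeE8

open Cfsg.Agent.Heis

/-- the roots of the Levi subgroup of type E7, with the highest root -/
def mask7 : ℕ := 883532242932480308119538782117515084044539652202230370781651416954970112

/-- the roots of the Levi subgroup of type E6 -/
def mask6 : ℕ := 25736583454108785889866830432581230787938373161201194005168128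

/-- the abelian subgroup, level 1 -/
def cfg1 : Cfg where
  th := 239
  r0 := 238
  a0 := 120
  n := 27
  c := fun j => [161, 183, 193, 199, 202, 203, 209, 212, 213, 216, 217, 218, 221, 222, 223, 224, 225, 228, 229, 230, 231, 232, 233, 234, 235, 236, 237].getD j 0
  z := fun j => [227, 220, 215, 211, 208, 206, 201, 198, 196, 192, 190, 187, 182, 180, 177, 173, 168, 160, 158, 155, 151, 146, 140, 134, 129, 125, 122].getD j 0
  u := fun j => [226, 219, 214, 210, 207, 205, 200, 197, 195, 191, 189, 186, 181, 179, 176, 172, 167, 159, 157, 154, 150, 145, 139, 133, 128, 124, 121].getD j 0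
  sw := [7]

/-- the radical, level 1 -/
def qcfg1 : QCfg where
  qs := [238, 237, 236, 235, 234, 232, 233, 225, 231, 224, 230, 223, 229, 218, 222, 228, 217, 221, 227, 213, 216, 220, 203, 212, 215, 202, 209, 211, 199, 201, 208, 193, 198, 206, 183, 192, 196, 161, 182, 190, 160, 180, 187, 158, 177, 155, 173, 151, 168, 140, 146, 134, 129, 125, 122, 120]
  k0 := 0
  kc := fun j => [37, 34, 31, 28, 25, 22, 26, 23, 19, 20, 16, 13, 17, 14, 11, 9, 7, 15, 12, 10, 8, 5, 6, 4, 3, 2, 1].getD j 0
  word := fun j => ([[], [6], [5, 6], [4, 5, 6], [3, 4, 5, 6], [1, 3, 4, 5, 6], [2, 3, 4, 5, 6], [0, 2, 3, 4, 5, 6], [2, 1, 3, 4, 5, 6], [0, 2, 1, 3, 4, 5, 6], [3, 2, 1, 3, 4, 5, 6], [3, 0, 2, 1, 3, 4, 5, 6], [4, 3, 2, 1, 3, 4, 5, 6], [2, 3, 0, 2, 1, 3, 4, 5, 6], [4, 3, 0, 2, 1, 3, 4, 5, 6], [5, 4, 3, 2, 1, 3, 4, 5, 6], [4, 2, 3, 0, 2, 1, 3, 4, 5, 6], [5, 4, 3, 0, 2, 1, 3, 4, 5, 6], [6, 5, 4, 3, 2, 1, 3, 4, 5, 6], [3, 4, 2, 3, 0, 2, 1, 3, 4, 5, 6], [5, 4, 2, 3, 0, 2, 1, 3, 4, 5, 6], [6, 5, 4,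 3, 0, 2, 1, 3, 4, 5, 6], [1, 3, 4, 2, 3, 0, 2, 1, 3, 4, 5, 6], [5, 3, 4, 2, 3, 0, 2, 1, 3, 4, 5, 6], [6, 5, 4, 2, 3, 0, 2, 1, 3, 4, 5, 6], [5, 1, 3, 4, 2, 3, 0, 2, 1, 3, 4, 5, 6], [4, 5, 3, 4, 2, 3, 0, 2, 1, 3, 4, 5, 6], [6, 5, 3, 4, 2, 3, 0, 2, 1, 3, 4, 5, 6], [4, 5, 1, 3, 4, 2, 3, 0, 2, 1, 3, 4, 5, 6], [6, 5, 1, 3, 4, 2, 3, 0, 2, 1, 3, 4, 5, 6], [6, 4, 5, 3, 4, 2, 3, 0, 2, 1, 3, 4, 5, 6], [3, 4, 5, 1, 3, 4, 2, 3, 0, 2, 1, 3, 4, 5, 6], [6, 4, 5, 1, 3, 4, 2, 3, 0, 2, 1, 3, 4, 5, 6], [5, 6, 4, 5, 3, 4, 2, 3, 0, 2, 1, 3, 4, 5, 6], [2, 3, 4, 5, 1, 3, 4, 2, 3, 0, 2, 1, 3, 4, 5, 6], [6, 3, 4, 5, 1, 3, 4, 2, 3, 0, 2, 1, 3, 4, 5, 6], [5, 6, 4, 5, 1, 3, 4, 2, 3, 0, 2, 1, 3, 4, 5, 6], [0, 2, 3, 4, 5, 1, 3, 4, 2, 3, 0, 2, 1, 3, 4, 5, 6], [6, 2, 3, 4, 5, 1, 3, 4, 2, 3, 0, 2, 1, 3, 4, 5, 6], [5, 6, 3, 4, 5, 1, 3, 4, 2, 3, 0, 2, 1, 3, 4, 5, 6], [6, 0, 2, 3, 4, 5, 1, 3, 4, 2, 3, 0, 2, 1, 3, 4, 5, 6], [5, 6, 2, 3, 4, 5, 1, 3, 4, 2, 3, 0, 2, 1, 3, 4, 5, 6], [4, 5, 6, 3, 4, 5, 1, 3, 4, 2,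 3, 0, 2, 1, 3, 4, 5, 6], [5, 6, 0, 2, 3, 4, 5, 1, 3, 4, 2, 3, 0, 2, 1, 3, 4, 5, 6], [4, 5, 6, 2, 3, 4, 5, 1, 3, 4, 2, 3, 0, 2, 1, 3, 4, 5, 6], [4, 5, 6, 0, 2, 3, 4, 5, 1, 3, 4, 2, 3, 0, 2, 1, 3, 4, 5, 6], [3, 4, 5, 6, 2, 3, 4, 5, 1, 3, 4, 2, 3, 0, 2, 1, 3, 4, 5, 6], [3, 4, 5, 6, 0, 2, 3, 4, 5, 1, 3, 4, 2, 3, 0, 2, 1, 3, 4, 5, 6], [1, 3, 4, 5, 6, 2, 3, 4, 5, 1, 3, 4, 2, 3, 0, 2, 1, 3, 4, 5, 6], [1, 3, 4, 5, 6, 0, 2, 3, 4, 5, 1, 3, 4, 2, 3, 0, 2, 1, 3, 4, 5, 6], [2, 3, 4, 5, 6, 0, 2, 3, 4, 5, 1, 3, 4, 2, 3, 0, 2, 1, 3, 4, 5, 6], [2, 1, 3, 4, 5, 6, 0, 2, 3, 4, 5, 1, 3, 4, 2, 3, 0, 2, 1, 3, 4, 5, 6], [3, 2, 1, 3, 4, 5, 6, 0, 2, 3, 4, 5, 1, 3, 4, 2, 3, 0, 2, 1, 3, 4, 5, 6], [4, 3, 2, 1, 3, 4, 5, 6, 0, 2, 3, 4, 5, 1, 3, 4, 2, 3, 0, 2, 1, 3, 4, 5, 6], [5, 4, 3, 2, 1, 3, 4, 5, 6, 0, 2, 3, 4, 5, 1, 3, 4, 2, 3, 0, 2, 1, 3, 4, 5, 6], [6, 5, 4, 3, 2, 1, 3, 4, 5, 6, 0, 2, 3, 4, 5, 1, 3, 4, 2, 3, 0, 2, 1, 3, 4, 5, 6]] : List (List ℕ)).getD j []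

/-- derivation of the roots fixing a distinguished vector, level 1 -/
def steps1 : List (ℕ × Option (ℕ × ℕ)) :=
  [(45, none), (98, none), (123, none), (125, none), (126, none), (127, none), (130, none), (131, none), (135, none), (136, none), (141, none), (142, none), (162, none), (163, none), (35, some (98, 45)), (45, some (35, 141)), (51, some (45, 130)), (61, some (51, 135)), (64, some (61, 126)), (68, some (64, 130)), (73, some (68, 141)), (74, some (73, 123)), (75, some (74, 126)), (76, some (75, 130)), (77, some (76, 135)), (83, some (61, 162)), (86, some (83, 126)), (90, some (86, 130)), (101, some (90, 141)), (102, some (101, 123)), (103, some (102, 126)), (104, some (103, 130)), (107, some (101, 135)), (108, some (107, 123)), (109, some (108, 126)), (112, some (107, 130)), (113, some (112, 123)), (116, some (112, 126)), (122, some (116, 125)), (123, some (113, 127)), (125, some (123, 122)), (126, some (116, 127)), (127, some (126, 123)), (129, some (127, 122)),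 (130, some (113, 131)), (131, some (130, 126)), (132, some (131, 123)), (134, some (132, 122)), (135, some (109, 136)), (136, some (135, 130)), (137, some (136, 126)), (138, some (137, 123)), (140, some (138, 122)), (141, some (109, 142)), (142, some (141, 130)), (143, some (142, 126)), (144, some (143, 123)), (146, some (144, 122)), (147, some (142, 135)), (148, some (147, 126)), (149, some (148, 123)), (151, some (149, 122)), (152, some (148, 130)), (153, some (152, 123)), (155, some (153, 122)), (156, some (153, 126)), (158, some (156, 122)), (160, some (158, 123)), (162, some (104, 163)), (163, some (162, 135)), (164, some (163, 130)), (165, some (164, 126)), (166, some (165, 123)), (168, some (166, 122)), (169, some (164, 141)), (170, some (169, 126)), (171, some (170, 123)), (173, some (171, 122)), (174, some (170, 130)), (175, some (174, 123)), (177, some (175, 122)), (178, some (175, 126)), (180, some (178, 122)), (182, some (180, 123)), (184, some (174, 135)), (185,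 some (184, 123)), (187, some (185, 122)), (188, some (185, 126)), (190, some (188, 122)), (192, some (190, 123)), (194, some (188, 130)), (196, some (194, 122)), (198, some (196, 123)), (201, some (198, 126)), (204, some (194, 141)), (206, some (204, 122)), (208, some (206, 123)), (211, some (208, 126)), (215, some (211, 130)), (220, some (215, 135)), (227, some (220, 162)), (20, none), (13, some (77, 20)), (20, some (13, 162)), (25, some (20, 135)), (29, some (25, 130)), (39, some (29, 141)), (42, some (39, 126)), (48, some (42, 130)), (58, some (48, 135)), (80, some (58, 162)), (82, some (80, 123)), (85, some (82, 126)), (89, some (85, 130)), (100, some (89, 141)), (106, some (100, 135)), (111, some (106, 130)), (115, some (111, 126)), (118, some (115, 123)), (120, some (118, 122))]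

/-- the roots fixing a distinguished vector, level 1 -/
def fx1 : List ℕ :=
  [120, 118, 115, 111, 106, 100, 89, 85, 82, 80, 58, 48, 42, 39, 29, 25, 20, 13, 227, 220, 215, 211, 208, 206, 204, 201, 198, 196, 194, 192, 190, 188, 187, 185, 184, 182, 180, 178, 177, 175, 174, 173, 171, 170, 169, 168, 166, 165, 164, 163, 162, 160, 158, 156, 155, 153, 152, 151, 149, 148, 147, 146, 144, 143, 142, 141, 140, 138, 137, 136, 135, 134, 132, 131, 130, 129, 127, 126, 125, 123, 122, 116, 113, 112, 109, 108, 107, 104, 103, 102, 101, 90, 86, 83, 77, 76, 75, 74, 73, 68, 64, 61, 51, 45, 35, 239, 161, 183, 193, 199, 202, 203, 209, 212, 213, 216, 217, 218, 221, 222, 223, 224, 225, 228, 229, 230, 231, 232, 233, 234, 235, 236, 237]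

/-- the trace computation, level 1 -/
def tcfg1 : TCfg where
  a1 := 204
  a2 := 226
  wa := [0, 2, 3, 4, 5, 6]
  wz := [7, 6, 5, 4, 3, 2, 1, 3, 4, 5, 6, 7, 0, 2, 3, 4, 5, 6]
  Lz := [(45, none), (98, none), (123, none), (126, none), (127, none), (130, none), (131, none), (135, none), (136, none), (141, none), (142, none), (162, none), (163, none), (35, some (98, 45)), (45, some (35, 141)), (51, some (45, 130)), (61, some (51, 135)), (83, some (61, 162)), (86, some (83, 126)), (90, some (86, 130)), (101, some (90, 141)), (102, some (101, 123)), (103, some (102, 126)), (104, some (103, 130)), (107, some (101, 135)), (108, some (107, 123)), (109, some (108, 126)), (112, some (107, 130)), (113, some (112, 123)), (116, some (112, 126)), (123, some (113, 127)), (126, some (116, 127)), (130, some (113, 131)), (135, some (109, 136)), (141, some (109, 142)), (162, some (104, 163)), (163, some (162, 135)), (164, some (163, 130)), (169, some (164, 141)), (170, some (169, 126)), (174,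 some (170, 130)), (184, some (174, 135)), (185, some (184, 123)), (188, some (185, 126)), (194, some (188, 130)), (204, some (194, 141))]

/-- free positions of the cells, level 1 -/
def lens1 : List ℕ :=
  [27, 26, 25, 24, 23, 22, 22, 21, 21, 20, 20, 19, 19, 18, 18, 18, 17, 17, 17, 16, 16, 16, 15, 15, 15, 14, 14, 14, 13, 13, 13, 12, 12, 12, 11, 11, 11, 10, 10, 10, 9, 9, 9, 8, 8, 7, 7, 6, 6, 5, 5, 4, 3, 2, 1, 0]

/-- fixed cells, level 1 -/
def cases1 : List Bool :=
  [false, false, false, false, false, false, false, true, false, true, false, true, false, true, true, false, true, true, false, true, true, true, true, true, true, true, true, true, true, true, true, true, true, true, true, true, true, true, true, true, true, true, true, true, true, true, true, true, true, true, true, true, true, true, true, true]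

/-- the abelian subgroup, level 2 -/
def cfg2 : Cfg where
  th := 239
  r0 := 226
  a0 := 0
  n := 16
  c := fun j => [167, 172, 176, 179, 181, 186, 189, 191, 195, 197, 200, 205, 207, 210, 214, 219].getD j 0
  z := fun j => [0, 0, 0, 0, 0, 0, 0, 0, 0, 0, 0, 0, 0, 0, 0, 0].getD j 0
  u := fun j => [204, 194, 188, 185, 184, 178, 175, 174, 171, 170, 169, 166, 165, 164, 163, 162].getD j 0
  sw := []

/-- the radical, level 2 -/
def qcfg2 : QCfg where
  qs := [226, 219, 214, 210, 200, 207, 197, 205, 191, 195, 181, 189, 159, 179, 186, 157, 176, 154, 172, 150, 167, 139, 145, 133, 128, 124, 121]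
  k0 := 0
  kc := fun j => [20, 18, 16, 13, 10, 14, 11, 8, 9, 6, 4, 7, 5, 3, 2, 1].getD j 0
  word := fun j => ([[], [0], [2, 0], [3, 2, 0], [1, 3, 2, 0], [4, 3, 2, 0], [4, 1, 3, 2, 0], [5, 4, 3, 2, 0], [3, 4, 1, 3, 2, 0], [5, 4, 1, 3, 2, 0], [2, 3, 4, 1, 3, 2, 0], [5, 3, 4, 1, 3, 2, 0], [0, 2, 3, 4, 1, 3, 2, 0], [5, 2, 3, 4, 1, 3, 2, 0], [4, 5, 3, 4, 1, 3, 2, 0], [5, 0, 2, 3, 4, 1, 3, 2, 0], [4, 5, 2, 3, 4, 1, 3, 2, 0], [4, 5, 0, 2, 3, 4, 1, 3, 2, 0], [3, 4, 5, 2, 3, 4, 1, 3, 2, 0], [3, 4, 5, 0, 2, 3, 4, 1, 3, 2, 0], [1, 3, 4, 5, 2, 3, 4, 1, 3, 2, 0], [1, 3, 4, 5, 0, 2, 3, 4, 1, 3, 2, 0], [2, 3, 4, 5, 0, 2, 3, 4, 1, 3, 2, 0], [2, 1, 3, 4, 5, 0, 2, 3, 4, 1, 3, 2, 0], [3, 2, 1, 3, 4, 5, 0, 2, 3, 4, 1, 3, 2, 0], [4, 3, 2, 1, 3, 4, 5, 0, 2, 3, 4, 1, 3, 2, 0], [5, 4, 3, 2, 1, 3, 4, 5, 0, 2, 3, 4, 1, 3, 2, 0]] : List (List ℕ)).getD j []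

/-- derivation of the roots fixing a distinguished vector, level 2 -/
def steps2 : List (ℕ × Option (ℕ × ℕ)) :=
  [(86, none), (113, none), (123, none), (124, none), (126, none), (127, none), (130, none), (131, none), (135, none), (136, none), (141, none), (142, none), (83, some (113, 86)), (86, some (83, 126)), (90, some (86, 130)), (95, some (90, 135)), (96, some (95, 123)), (97, some (96, 126)), (98, some (97, 130)), (101, some (90, 141)), (107, some (101, 135)), (108, some (107, 123)), (109, some (108, 126)), (112, some (107, 130)), (113, some (112, 123)), (116, some (112, 126)), (121, some (116, 124)), (123, some (113, 127)), (124, some (123, 121)), (126, some (116, 127)), (127, some (126, 123)), (128, some (127, 121)), (130, some (113, 131)), (131, some (130, 126)), (132, some (131, 123)), (133, some (132, 121)), (135, some (109, 136)), (136, some (135, 130)), (137, some (136, 126)), (138, some (137, 123)), (139, some (138, 121)), (141, some (109, 142)), (142, some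 (141, 130)), (143, some (142, 126)), (144, some (143, 123)), (145, some (144, 121)), (147, some (142, 135)), (148, some (147, 126)), (149, some (148, 123)), (150, some (149, 121)), (152, some (148, 130)), (153, some (152, 123)), (154, some (153, 121)), (156, some (153, 126)), (157, some (156, 121)), (159, some (157, 123)), (45, none), (35, some (98, 45)), (45, some (35, 141)), (51, some (45, 130)), (61, some (51, 135)), (64, some (61, 126)), (68, some (64, 130)), (73, some (68, 141)), (74, some (73, 123)), (75, some (74, 126)), (76, some (75, 130)), (77, some (76, 135))]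

/-- the roots fixing a distinguished vector, level 2 -/
def fx2 : List ℕ :=
  [77, 76, 75, 74, 73, 68, 64, 61, 51, 45, 35, 159, 157, 156, 154, 153, 152, 150, 149, 148, 147, 145, 144, 143, 142, 141, 139, 138, 137, 136, 135, 133, 132, 131, 130, 128, 127, 126, 124, 123, 121, 116, 113, 112, 109, 108, 107, 101, 98, 97, 96, 95, 90, 86, 83, 239, 167, 172, 176, 179, 181, 186, 189, 191, 195, 197, 200, 205, 207, 210, 214, 219]

/-- the trace computation, level 2 -/
def tcfg2 : TCfg where
  a1 := 0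
  a2 := 204
  wa := []
  wz := []
  Lz := []

/-- free positions of the cells, level 2 -/
def lens2 : List ℕ :=
  [16, 15, 14, 13, 12, 12, 11, 11, 10, 10, 9, 9, 8, 8, 8, 7, 7, 6, 6, 5, 5, 4, 4, 3, 2, 1, 0]

/-- fixed cells, level 2 -/
def cases2 : List Bool :=
  [false, false, false, false, true, false, true, false, true, true, true, true, true, true, true, true, true, true, true, true, true, true, true, true, true, true, true]

/-- the abelian subgroup, level 3 -/
def cfg3 : Cfg where
  th := 204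
  r0 := 194
  a0 := 141
  n := 9
  c := fun j => [152, 153, 156, 174, 175, 178, 184, 185, 188].getD j 0
  z := fun j => [171, 170, 169, 149, 148, 147, 144, 143, 142].getD j 0
  u := fun j => [166, 165, 164, 138, 137, 136, 132, 131, 130].getD j 0
  sw := [1]

/-- the radical, level 3 -/
def qcfg3 : QCfg where
  qs := [194, 188, 178, 185, 156, 175, 184, 153, 171, 174, 149, 152, 170, 144, 148, 169, 143, 147, 142, 141]
  k0 := 0
  kc := fun j => [11, 7, 4, 9, 5, 2, 6, 3, 1].getD j 0
  word := fun j => ([[], [3], [2, 3], [4, 3], [0, 2, 3], [4, 2, 3], [5, 4, 3], [4, 0, 2, 3], [3, 4, 2, 3], [5, 4, 2, 3], [3, 4, 0, 2, 3], [5, 4, 0, 2, 3], [5, 3, 4, 2, 3], [2, 3, 4, 0, 2, 3], [5, 3, 4, 0, 2, 3], [4, 5, 3, 4, 2, 3], [5, 2, 3, 4, 0, 2, 3], [4, 5, 3, 4, 0, 2, 3], [4, 5, 2, 3, 4, 0, 2, 3], [3, 4, 5, 2, 3, 4, 0, 2, 3]] : List (List ℕ)).getD j []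

/-- derivation of the roots fixing a distinguished vector, level 3 -/
def steps3 : List (ℕ × Option (ℕ × ℕ)) :=
  [(77, none), (104, none), (113, none), (116, none), (123, none), (126, none), (127, none), (135, none), (143, none), (162, none), (163, none), (76, some (104, 77)), (77, some (76, 135)), (104, some (76, 162)), (112, some (116, 113)), (113, some (112, 123)), (116, some (112, 126)), (123, some (113, 127)), (126, some (116, 127)), (127, some (126, 123)), (135, some (77, 163)), (142, some (113, 143)), (143, some (142, 126)), (144, some (143, 123)), (147, some (142, 135)), (148, some (147, 126)), (149, some (148, 123)), (162, some (104, 163)), (163, some (162, 135)), (169, some (163, 142)), (170, some (169, 126)), (171, some (170, 123)), (74, none), (73, some (116, 74)), (101, some (73, 162)), (107, some (101, 135)), (108, some (107, 123)), (109, some (108, 126)), (141, some (109, 142))]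

/-- the roots fixing a distinguished vector, level 3 -/
def fx3 : List ℕ :=
  [141, 109, 108, 107, 101, 73, 171, 170, 169, 163, 162, 149, 148, 147, 144, 143, 142, 135, 127, 126, 123, 116, 113, 112, 104, 77, 76, 204, 152, 153, 156, 174, 175, 178, 184, 185, 188]

/-- the trace computation, level 3 -/
def tcfg3 : TCfg where
  a1 := 163
  a2 := 166
  wa := [5, 4, 3]
  wz := [1, 3, 4, 5, 2, 3, 4, 1, 3]
  Lz := [(77, none), (104, none), (135, none), (162, none), (163, none), (76, some (104, 77)), (77, some (76, 135)), (104, some (76, 162)), (135, some (77, 163)), (162, some (104, 163)), (163, some (162, 135))]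

/-- free positions of the cells, level 3 -/
def lens3 : List ℕ :=
  [9, 8, 7, 7, 6, 6, 6, 5, 5, 5, 4, 4, 4, 3, 3, 3, 2, 2, 1, 0]

/-- fixed cells, level 3 -/
def cases3 : List Bool :=
  [false, false, false, false, true, false, true, true, false, true, true, true, true, true, true, true, true, true, true, true]

/-- the special linear group in the Levi complement -/
def lcfg : LCfg where
  n := 6
  rt := fun i j => ([[0, 162, 163, 164, 165, 166], [77, 0, 135, 136, 137, 138], [76, 104, 0, 130, 131, 132], [75, 103, 109, 0, 126, 127], [74, 102, 108, 113, 0, 123], [73, 101, 107, 112, 116, 0]] : List (List ℕ)).getD i [] |>.getD j 0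
  sg := fun i j => ([[1, 1, -1, 1, -1, 1], [1, 1, 1, -1, 1, -1], [-1, 1, 1, 1, -1, 1], [1, -1, 1, 1, 1, -1], [-1, 1, -1, 1, 1, 1], [1, -1, 1, -1, 1, 1]] : List (List ℤ)).getD i [] |>.getD j 1

end Cfsg.Agent.MinDegreeE8
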