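/-
Kernel checks of the certificates used for the smallest degree of `E₈(q)`.
-/
import Cfsg.Agent.Lib.MinDegree.E8Data
import Cfsg.Agent.Lib.MinDegree.Heis.Chain
import Cfsg.Agent.Lib.Lie.TabE8

set_option autoImplicit false
set_option maxRecDepth 20000

namespace Cfsg.Agent.MinDegreeE8

open Cfsg.Agent.Heis Cfsg.Agent.Chev Cfsg.Agent.Chev.Tab

/-- all roots -/
abbrev S0 : ℕ → Bool := fun _ => true
/-- all reflections -/
abbrev J0 : ℕ → Bool := fun _ => true
/-- the roots of E7 and the highest root -/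
abbrev S7 : ℕ → Bool := fun r => Nat.testBit mask7 r
/-- the reflections of E7 -/
abbrev J7 : ℕ → Bool := fun i => Nat.blt i 7
/-- the roots of E6 -/
abbrev S6 : ℕ → Bool := fun r => Nat.testBit mask6 r
/-- the reflections of E6 -/
abbrev J6 : ℕ → Bool := fun i => Nat.blt i 6

theorem mask7_lt : mask7 < 2 ^ E8Data.tab.n := by decide +kernel

theorem mask6_lt : mask6 < 2 ^ E8Data.tab.n := by decide +kernel

theorem chkY1 : cfg1.chkY E8Data.tab S0 J0 = true := by decide +kernel

theorem chkA1 : tcfg1.chkA E8Data.tab S0 J0 cfg1 = true := by decide +kernel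

theorem still1 : (tcfg1.still E8Data.tab S0 cfg1).length = 21 := by decide +kernel

theorem chkQ1 : qcfg1.chk E8Data.tab S0 J0 cfg1 fx1 = true := by decide +kernel

theorem chkRun1 : run E8Data.tab S0 cfg1.ys steps1 (cfg1.ys.filter (· != cfg1.r0)) [cfg1.r0] = some fx1 := by
  decide +kernel

theorem chkB1 : tcfg1.chkB E8Data.tab S0 J0 cfg1 qcfg1 fx1 = true := by decide +kernel

theorem lens_eq1 : ((List.range qcfg1.m).map fun i => (qcfg1.free E8Data.tab cfg1 i).length) = lens1 := by
  decide +kernel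

theorem cases_eq1 : ((List.range qcfg1.m).map fun i => tcfg1.fixCase E8Data.tab S0 cfg1 qcfg1 fx1 i) = cases1 := by
  decide +kernel

theorem chkY2 : cfg2.chk0 E8Data.tab S7 = true := by decide +kernel

theorem chkQ2 : qcfg2.chk E8Data.tab S7 J7 cfg2 fx2 = true := by decide +kernel

theorem chkRun2 : run E8Data.tab S7 cfg2.ys steps2 (cfg2.ys.filter (· != cfg2.r0)) [cfg2.r0] = some fx2 := by
  decide +kernel

theorem chkB2 : tcfg2.chkB E8Data.tab S7 J7 cfg2 qcfg2 fx2 = true := by decide +kernel

theorem lens_eq2 : ((List.range qcfg2.m).map fun i => (qcfg2.free E8Data.tab cfg2 i).length) = lens2 := by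
  decide +kernel

theorem cases_eq2 : ((List.range qcfg2.m).map fun i => tcfg2.fixCase E8Data.tab S7 cfg2 qcfg2 fx2 i) = cases2 := by
  decide +kernel

theorem chkY3 : cfg3.chkY E8Data.tab S6 J6 = true := by decide +kernel

theorem chkA3 : tcfg3.chkA E8Data.tab S6 J6 cfg3 = true := by decide +kernel

theorem still3 : (tcfg3.still E8Data.tab S6 cfg3).length = 6 := by decide +kernel

theorem chkQ3 : qcfg3.chk E8Data.tab S6 J6 cfg3 fx3 = true := by decide +kernel

theorem chkRun3 : run E8Data.tab S6 cfg3.ys steps3 (cfg3.ys.filter (· != cfg3.r0)) [cfg3.r0] = some fx3 := by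
  decide +kernel

theorem chkB3 : tcfg3.chkB E8Data.tab S6 J6 cfg3 qcfg3 fx3 = true := by decide +kernel

theorem lens_eq3 : ((List.range qcfg3.m).map fun i => (qcfg3.free E8Data.tab cfg3 i).length) = lens3 := by
  decide +kernel

theorem cases_eq3 : ((List.range qcfg3.m).map fun i => tcfg3.fixCase E8Data.tab S6 cfg3 qcfg3 fx3 i) = cases3 := by
  decide +kernel

theorem levi7 : leviChk E8Data.tab S0 S7 J7 cfg1 qcfg1 = true := by decide +kernel

theorem levi6 : leviChk E8Data.tab S7 S6 J6 cfg2 qcfg2 = true := by decide +kernel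

theorem chkL : lcfg.chk E8Data.tab S6 cfg3 qcfg3 = true := by decide +kernel

theorem rt_eq : lcfg.rt 0 5 = tcfg3.a2 := by decide +kernel

/-- a word carrying the highest root of E7 to that of E6 -/
def w76 : List ℕ := [6, 5, 4, 3, 2, 0]

theorem wt_ok : Grp.wordOK E8Data.tab S7 J7 w76 tcfg1.a2 = true := by decide +kernel

theorem wt_eq : E8Data.tab.rw' w76 tcfg1.a2 = tcfg2.a2 := by decide +kernel

theorem a2_eq : tcfg2.a2 = cfg3.th := by decide +kernel

theorem r0_eq : tcfg1.a2 = cfg2.r0 := by decide +kernel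

theorem th_eq : cfg2.th = cfg1.th := by decide +kernel

theorem th_mem7 : S7 cfg1.th = true := by decide +kernel

theorem a2_mem7 : S7 tcfg1.a2 = true ∧ S7 tcfg2.a2 = true := by decide +kernel

theorem a2_mem6 : S6 tcfg2.a2 = true := by decide +kernel

end Cfsg.Agent.MinDegreeE8
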