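/-
The smallest degree of a nontrivial representation of `E₈(q)`.
-/
import Cfsg.Agent.Lib.MinDegree.E8Checks
import Cfsg.Agent.Lib.MinDegree.E8Arith
import Cfsg.Agent.Lib.Lie.ChevSimple
import Cfsg.Agent.Lib.Lie.GoodK
import Cfsg.Agent.Lib.Char.Integral
import Cfsg.Agent.Lib.OrthDeg.Unitary
import Cfsg.Agent.S1054
import Cfsg.Agent.S1065

set_option autoImplicit false
set_option maxRecDepth 20000
set_option maxHeartbeats 2000000

namespace Cfsg.Agent.MinDegreeE8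

open LinearMap Module Cfsg.Lie Cfsg.Agent.Chev Cfsg.Agent.Chev.Tab Cfsg.Agent.Heis

variable {F : Type*} [Field F]

theorem gA : E8Data.tab.GoodA := ⟨E8Data.good, by decide +kernel⟩

theorem g0 : E8Data.tab.Good := E8Data.good

/-- root elements in the group -/
noncomputable def xG (r : ℕ) : AddChar F (E8Data.tab.D.group F) where
  toFun t := ⟨xg g0 r t, xg_mem_group g0 r t⟩
  map_zero_eq_one' := Subtype.ext (xg_zero g0 r)
  map_add_eq_mul' s t := Subtype.ext (xg_add g0 r s t).symm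

variable (F) in
/-- the relations of the group -/
noncomputable def grp : Grp E8Data.tab F (E8Data.tab.D.group F) where
  S _ := true
  x := xG
  J _ := true
  w i := ⟨nG g0 F i, nG_mem_group g0 i⟩
  comm r s _ _ hr hs h1 h2 t u := by
    refine Subtype.ext ?_
    have hp : ∀ L : List (ℕ × F), (((L.map fun e => (xG e.1 e.2 : E8Data.tab.D.group F)).prod :
        E8Data.tab.D.group F) : GL E8Data.tab.D.Idx F) = (L.map fun e => xg g0 e.1 e.2).prod := fun L => by
      induction L with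
      | nil => rfl
      | cons e L ih => rw [List.map_cons, List.map_cons, List.prod_cons, List.prod_cons, Subgroup.coe_mul, ih]; rfl
    simp only [Subgroup.coe_mul, hp]
    exact xg_comm gA hr hs h1 h2 t u
  conj i s _ _ hi hs t := Subtype.ext (nG_conj g0 hi hs t)

theorem scal : Cfg.Scal cfg1 (grp F) := by
  intro k hk
  obtain ⟨c, hc⟩ : ∃ c : ℕ → Fˣ, c = Function.update (1 : ℕ → Fˣ) 7 (Units.mk0 k hk) := ⟨_, rfl⟩
  have key : ∀ r, r < E8Data.tab.n → ∀ t : F,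
      (⟨tor E8Data.tab F c, tor_mem_group g0 c⟩ : E8Data.tab.D.group F) * (grp F).x r t *
        (⟨tor E8Data.tab F c, tor_mem_group g0 c⟩ : E8Data.tab.D.group F)⁻¹ =
      (grp F).x r ((wt E8Data.tab F c r : F) * t) := fun r hr t => Subtype.ext (tor_xg g0 c hr t)
  have hwt : wt E8Data.tab F c cfg1.th = Units.mk0 k hk := by
    rw [wt, Finset.prod_eq_single 7]
    · rw [show E8Data.tab.A 7 cfg1.th = 1 by decide +kernel, hc, Function.update_self, zpow_one]
    · intro j _ hj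
      rw [hc, Function.update_of_ne hj, Pi.one_apply, one_zpow]
    · intro h1
      exact absurd (Finset.mem_range.2 (show 7 < E8Data.tab.l by decide +kernel)) h1
  refine ⟨⟨tor E8Data.tab F c, tor_mem_group g0 c⟩, fun t => ?_, ⟨_, Units.ne_zero _, key _ (by decide +kernel)⟩,
    fun j => ⟨_, Units.ne_zero _, key _ ?_⟩⟩
  · rw [key _ (by decide +kernel), hwt]; rfl
  · revert j; decide +kernel

theorem mono : Grp.Mono (grp F) := fun _ _ _ => Subtype.ext rfl

theorem lt_of_testBit {m r : ℕ} (hm : m < 2 ^ E8Data.tab.n) (h : Nat.testBit m r = true) : r < E8Data.tab.n := by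
  by_contra hc
  rw [Nat.testBit_lt_two_pow (hm.trans_le (Nat.pow_le_pow_right (by norm_num) (not_lt.1 hc)))] at h
  exact Bool.false_ne_true h

/-- the sum over the cells -/
theorem sums1 {M : Type*} [AddCommMonoid M] (g : ℕ → Bool → M) :
    ∑ i : Fin qcfg1.m, g (qcfg1.free E8Data.tab cfg1 i).length (tcfg1.fixCase E8Data.tab S0 cfg1 qcfg1 fx1 i) =
      (lens1.zipWith g cases1).sum := sum_cells_eq _ _ lens_eq1 cases_eq1 g

theorem sums2 {M : Type*} [AddCommMonoid M] (g : ℕ → Bool → M) :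
    ∑ i : Fin qcfg2.m, g (qcfg2.free E8Data.tab cfg2 i).length (tcfg2.fixCase E8Data.tab S7 cfg2 qcfg2 fx2 i) =
      (lens2.zipWith g cases2).sum := sum_cells_eq _ _ lens_eq2 cases_eq2 g

theorem sums3 {M : Type*} [AddCommMonoid M] (g : ℕ → Bool → M) :
    ∑ i : Fin qcfg3.m, g (qcfg3.free E8Data.tab cfg3 i).length (tcfg3.fixCase E8Data.tab S6 cfg3 qcfg3 fx3 i) =
      (lens3.zipWith g cases3).sum := sum_cells_eq _ _ lens_eq3 cases_eq3 g

theorem diff1 (x : ℂ) :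
    x * x ^ 27 + (x - 1) * (x * x ^ 21 + (lens1.zipWith (fun l b => if b = true then x ^ l else 0) cases1).sum -
      (lens1.zipWith (fun l _ => x ^ l) cases1).sum) = x ^ 17 := by
  simp only [lens1, cases1, List.zipWith_cons_cons, List.zipWith_nil_right, List.sum_cons, List.sum_nil, if_true,
    Bool.false_eq_true, if_false]
  ring

theorem diff2 (x : ℂ) :
    x ^ 17 - (x - 1) * ((lens2.zipWith (fun l _ => x ^ l) cases2).sum -
      (lens2.zipWith (fun l b => if b = true then x ^ l else 0) cases2).sum) = x ^ 11 := by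
  simp only [lens2, cases2, List.zipWith_cons_cons, List.zipWith_nil_right, List.sum_cons, List.sum_nil, if_true,
    Bool.false_eq_true, if_false]
  ring

theorem diff3 (x : ℤ) :
    x * x ^ 9 + (x - 1) * (x * x ^ 6 + (lens3.zipWith (fun l b => if b = true then x ^ l else 0) cases3).sum -
      (lens3.zipWith (fun l _ => x ^ l) cases3).sum) = x ^ 5 := by
  simp only [lens3, cases3, List.zipWith_cons_cons, List.zipWith_nil_right, List.sum_cons, List.sum_nil, if_true,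
    Bool.false_eq_true, if_false]
  ring

theorem total (x : ℤ) :
    (x - 1) * (x * x ^ 27 + (lens1.zipWith (fun l _ => x ^ l) cases1).sum +
      (lens2.zipWith (fun l _ => x ^ l) cases2).sum + x * x ^ 9 + (lens3.zipWith (fun l _ => x ^ l) cases3).sum) +
      (x ^ 5 + x ^ 4 + x ^ 3 + x ^ 2 + x) + 3 = x * (x ^ 12 + 1) * (x ^ 10 + 1) * (x ^ 6 + 1) := by
  simp only [lens1, cases1, lens2, cases2, lens3, cases3, List.zipWith_cons_cons, List.zipWith_nil_right,
    List.sum_cons, List.sum_nil]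
  ring

theorem cast_cells {R : Type*} [Semiring R] (q : ℕ) : ∀ (ls : List ℕ) (cs : List Bool),
    (((ls.zipWith (fun l _ => q ^ l) cs).sum : ℕ) : R) = (ls.zipWith (fun l _ => (q : R) ^ l) cs).sum
  | [], _ => by simp
  | _ :: _, [] => by simp
  | a :: ls, b :: cs => by simp [cast_cells q ls cs]

theorem card_forms [Fintype F] (n : ℕ) [Fintype ((Fin n → F) →ₗ[F] F)] :
    Fintype.card ((Fin n → F) →ₗ[F] F) = Fintype.card F ^ n := by
  rw [← Fintype.card_congr cf, Fintype.card_fun, Fintype.card_fin]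

theorem level3 [Fintype F] {G W : Type*} [Group G] [AddCommGroup W] [Module ℂ W] [FiniteDimensional ℂ W]
    (E : Grp E8Data.tab F G) (f : G →* Module.End ℂ W) {ψ₁ : AddChar F ℂ} (hψ : ψ₁.IsPrimitive) {q : ℕ}
    (hq : q = Fintype.card F) (hS : E.S = S6) (hJ : E.J = J6)
    (hmult : ∀ d : F, d ≠ 0 → ReeRep.mult (f.compAddChar (E.x cfg3.th)) (ψ₁.mulShift d) = q * q ^ 9) :
    (q - 1) * (q * q ^ 9 + (lens3.zipWith (fun l _ => q ^ l) cases3).sum) + (q ^ 5 + q ^ 4 + q ^ 3 + q ^ 2 + q) ≤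
      finrank ℂ W := by
  classical
  have hq2 : 2 ≤ q := hq ▸ Fintype.one_lt_card
  haveI : ∀ n, Fintype ((Fin n → F) →ₗ[F] F) := fun n => Fintype.ofFinite _
  haveI : ∀ n, Fintype (F × F × (Fin n → F) →ₗ[F] F) := fun n => Fintype.ofFinite _
  have hd3 := Cfg.good_of_chk cfg3 E hS hJ chkY3
  have hQ3 := qcfg3.good_of_chk (E := E) hS hJ chkQ3
  have hR3 : (Cfg.sys hd3).RZ f = f.compAddChar (E.x cfg3.th) :=
    DFunLike.ext _ _ fun x => congrArg f (Cfg.Y_th hd3.toGood0 x)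
  obtain ⟨hu3, hm3⟩ := (Cfg.sys hd3).uniform_of_mult f hψ (M := 1) fun d hd => by
    rw [hR3, card_forms, ← hq, show cfg3.n = 9 from rfl, mul_one]
    exact hmult d hd
  have hW : finrank ℂ W = (q - 1) * (q * q ^ 9 * 1) + ReeRep.mult ((Cfg.sys hd3).RZ f) 0 := by
    rw [(Cfg.sys hd3).finrank_eq f hψ hu3, hm3, card_forms, ← hq]
    rfl
  have h3 := Ctx.ofCentre (fx := fx3) (f := f) hd3 hQ3 hψ ⟨steps3, hS ▸ chkRun3⟩ hu3 hm3
  rw [hR3, show ReeRep.mult (f.compAddChar (E.x cfg3.th)) 0 = finrank ℂ (range (e0 E cfg3 f)) from rfl,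
    Ctx.finrank_fixed h3, ← hq, sums3 fun l _ => q ^ l] at hW
  obtain ⟨s, x, hx, hmove⟩ := Ctx.exists_moved h3 hd3 hu3 hm3 hS hJ chkA3 chkB3 (by
    rw [← hq, sums3 fun l b => if b = true then q ^ l else 0,
      sums3 fun l _ => q ^ l, still3, show cfg3.n = 9 from rfl]
    intro e
    have e' := congrArg (fun n : ℕ => (n : ℤ)) e
    have e5 := diff3 (q : ℤ)
    have hq1 : 1 ≤ q := by omega
    simp only [lens3, cases3, List.zipWith_cons_cons, List.zipWith_nil_right, List.sum_cons, List.sum_nil, if_true,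
      Bool.false_eq_true, if_false] at e' e5
    push_cast [Nat.cast_sub hq1] at e'
    have : (q : ℤ) ^ 5 = 0 := by linear_combination e' - e5
    have : 0 < (q : ℤ) ^ 5 := by positivity
    omega)
  have hb := Ctx.levi_bound h3 hS chkL (le_refl 5 |>.trans (by decide)) (i := ⟨0, by decide⟩) (j := ⟨5, by decide⟩)
    (by decide) hx (by rw [show lcfg.rt ((⟨0, by decide⟩ : Fin lcfg.n) : ℕ) ((⟨5, by decide⟩ : Fin lcfg.n) : ℕ) =
      tcfg3.a2 from rt_eq]; exact hmove)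
  rw [← hq, show lcfg.n = 6 from rfl] at hb
  have hS6 : (q ^ 6 - q) / (q - 1) = q ^ 5 + q ^ 4 + q ^ 3 + q ^ 2 + q := by
    refine Nat.div_eq_of_eq_mul_left (by omega) ?_
    obtain ⟨t, rfl⟩ : ∃ t, q = t + 1 := ⟨q - 1, by omega⟩
    rw [show t + 1 - 1 = t from rfl]
    refine Nat.sub_eq_of_eq_add ?_
    ring
  rw [hS6] at hb
  rw [hW, Nat.mul_add, mul_one]
  omega

theorem level2 [Fintype F] {G W : Type*} [Group G] [AddCommGroup W] [Module ℂ W] [FiniteDimensional ℂ W]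
    (E : Grp E8Data.tab F G) (f : G →* Module.End ℂ W) {ψ₁ : AddChar F ℂ} (hψ : ψ₁.IsPrimitive) {q : ℕ}
    (hq : q = Fintype.card F) (hS : E.S = S7) (hJ : E.J = J7) (hmono : Grp.Mono E)
    (hfix : ∀ t, f (E.x cfg2.th t) = 1)
    (tr2 : ∀ s : F, s ≠ 0 → trace ℂ W (f (E.x tcfg1.a2 s)) = (finrank ℂ W : ℂ) - (q : ℂ) ^ 17) :
    (q - 1) * (lens2.zipWith (fun l _ => q ^ l) cases2).sum +
      ((q - 1) * (q * q ^ 9 + (lens3.zipWith (fun l _ => q ^ l) cases3).sum) + (q ^ 5 + q ^ 4 + q ^ 3 + q ^ 2 + q)) ≤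
      finrank ℂ W := by
  classical
  have hq2 : 2 ≤ q := hq ▸ Fintype.one_lt_card
  have hd2 := Cfg.good0_of_chk cfg2 E hS chkY2
  have hQ2 := qcfg2.good_of_chk (E := E) hS hJ chkQ2
  have h2 := Ctx.ofFix (fx := fx2) (f := f) hd2 hQ2 hψ ⟨steps2, hS ▸ chkRun2⟩ hfix fun a ha => by
    rw [← r0_eq]
    refine mult_of_trace hψ _ (fun s hs => ?_) ha
    show trace ℂ W (f (E.x tcfg1.a2 s)) = _
    rw [tr2 s hs, ← hq, show cfg2.n = 16 from rfl]
    push_cast
    ring
  have hW2 : finrank ℂ (W) =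
      mu ψ₁ (RQ f h2.hQ) 0 + (q - 1) * (lens2.zipWith (fun l _ => q ^ l) cases2).sum := by
    rw [← finrank_C_of_fix hfix, Ctx.finrank_fixed h2, ← hq, sums2 fun l _ => q ^ l]
  have hc2 : com E8Data.tab E.S cfg2.th tcfg2.a2 = true := by
    rw [hS]; decide +kernel
  have tr3 : ∀ s : F, s ≠ 0 → trace ℂ (range (e0 E cfg2 f)) (onRange f (e0 E cfg2 f) ⟨_, mem_H f hc2 s⟩ * Ctx.P h2) =
      (mu ψ₁ (RQ f h2.hQ) 0 : ℂ) - (q : ℂ) ^ 11 := by
    intro s hs
    obtain ⟨p, hp⟩ : ∃ p, p = (Grp.wSign E8Data.tab w76 tcfg1.a2 : F) * s := ⟨_, rfl⟩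
    have hp0 : p ≠ 0 := by
      rw [hp]; rcases Grp.wSign_sq (T := E8Data.tab) w76 tcfg1.a2 with e | e <;> simp [e, hs]
    have hps : (Grp.wSign E8Data.tab w76 tcfg1.a2 : F) * p = s := by
      rw [hp]; rcases Grp.wSign_sq (T := E8Data.tab) w76 tcfg1.a2 with e | e <;> simp [e]
    have e1 := trace_conj_word E f (w := w76) (a := tcfg1.a2) (by rw [hS, hJ]; exact wt_ok) p
    rw [wt_eq, hps, tr2 p hp0, hW2] at e1
    have e2 := Ctx.trace_fixed h2 hS hJ chkB2 hs hc2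
    rw [trace_onRange f (P := e0 E cfg2 f) (ReeRep.isIdempotentElem_proj _) ⟨_, mem_H f hc2 s⟩,
      show f ((⟨_, mem_H f hc2 s⟩ : HP f (e0 E cfg2 f)) : G) * e0 E cfg2 f = f (E.x tcfg2.a2 s) from
        (congrArg (fun P => f (E.x tcfg2.a2 s) * P) (e0_eq_one hfix)).trans (mul_one _), e1, ← hq,
      sums2 fun l b => if b = true then (q : ℂ) ^ l else 0] at e2
    have e3 := diff2 (q : ℂ)
    show trace ℂ (range (e0 E cfg2 f)) (onRange f (e0 E cfg2 f) ⟨_, mem_H f hc2 s⟩ * ReeRep.proj (RQ f h2.hQ) (ch ψ₁ 0)) = _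
    have hcast : (((lens2.zipWith (fun l _ => q ^ l) cases2).sum : ℕ) : ℂ) =
        (lens2.zipWith (fun l _ => (q : ℂ) ^ l) cases2).sum := cast_cells q _ _
    rw [Nat.cast_add, Nat.cast_mul, Nat.cast_sub (show 1 ≤ q by omega), Nat.cast_one, hcast] at e2
    linear_combination -e2 - e3
  have o2 : LeviOK E cfg2 qcfg2 S6 J6 := ⟨fun r hr => lt_of_testBit mask6_lt hr, hS ▸ levi6, fun i hi _ => by
      rw [hJ]; simp only [nat_blt] at hi ⊢; omega, hmono⟩
  rw [hW2]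
  refine le_of_le_of_eq (Nat.add_le_add_left ?_ _) (add_comm _ _)
  rw [← Ctx.finrank_P h2]
  refine level3 (W := range (Ctx.P h2)) (Ctx.levi h2 o2) (Ctx.act h2) hψ hq rfl rfl fun d hd => ?_
  rw [← a2_eq]
  refine mult_of_trace (W := range (Ctx.P h2)) hψ _ (M := q * q ^ 9) (fun s hs => ?_) hd
  refine (Ctx.trace_act h2 o2 a2_mem6 s hc2).trans ?_
  rw [tr3 s hs, Ctx.finrank_P, ← hq]
  push_cast
  ring

theorem min_degree [Fintype F] (k : ℕ) (ρ : Representation ℂ (E8Data.tab.D.group F) (Fin k → ℂ))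
    (hirr : ρ.IsIrreducible) (hk : 2 ≤ k) :
    Fintype.card F * (Fintype.card F ^ 12 + 1) * (Fintype.card F ^ 10 + 1) * (Fintype.card F ^ 6 + 1) ≤ k := by
  classical
  obtain ⟨q, hq⟩ : ∃ q, q = Fintype.card F := ⟨_, rfl⟩
  have hq2 : 2 ≤ q := hq ▸ Fintype.one_lt_card
  rw [← hq]
  let f : E8Data.tab.D.group F →* Module.End ℂ (Fin k → ℂ) := ρ
  have hd := Cfg.good_of_chk cfg1 (grp F) rfl rfl chkY1
  have hQ := qcfg1.good_of_chk (E := grp F) rfl rfl chkQ1
  have hinj : ∀ g, f g = 1 → g = 1 := by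
    haveI : IsSimpleGroup ↥(E8Data.tab.D.group F) := by
      obtain ⟨hs, -⟩ := S1054.result (F := F) E8Data.tab.D (by simp [E8Data.tab])
      exact hs
    rcases f.toHomUnits.normal_ker.eq_bot_or_eq_top with h | h
    · intro g hg
      have : g ∈ f.toHomUnits.ker := MonoidHom.mem_ker.2 (Units.ext hg)
      rwa [h, Subgroup.mem_bot] at this
    · exfalso
      obtain ⟨g, x, hgx⟩ := OrthDeg.exists_ne_of_irreducible ρ hirr hk
      refine hgx ?_
      have : g ∈ f.toHomUnits.ker := h ▸ Subgroup.mem_top g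
      have e : f g = 1 := congrArg Units.val (MonoidHom.mem_ker.1 this)
      show f g x = x
      rw [e]; rfl
  obtain ⟨ψ₁, hψn⟩ : ∃ ψ : AddChar F ℂ, ψ ≠ 1 := by
    obtain ⟨ψ, hψ⟩ := AddChar.exists_apply_ne_zero.2 (one_ne_zero (α := F))
    exact ⟨ψ, fun h => hψ (by rw [h, AddChar.one_apply])⟩
  have hψ : ψ₁.IsPrimitive := AddChar.IsPrimitive.of_ne_one hψn
  haveI : ∀ n, Fintype ((Fin n → F) →ₗ[F] F) := fun n => Fintype.ofFinite _
  haveI : ∀ n, Fintype (F × F × (Fin n → F) →ₗ[F] F) := fun n => Fintype.ofFinite _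
  obtain ⟨S, hS⟩ : ∃ S, S = Cfg.sys hd := ⟨_, rfl⟩
  have hu : S.Uniform f ψ₁ := hS ▸ (Cfg.sys hd).uniform_of_scales f (Cfg.scales hd scal)
  have hm0 : S.m f ψ₁ ≠ 0 := S.m_ne_zero f hψ hu ⟨1, fun h => by
    rw [hS] at h
    have h1 := congrArg Subtype.val (hinj _ h)
    rw [show (Cfg.sys hd).Y = Cfg.Y hd.toGood0 from rfl, Cfg.Y_th] at h1
    exact one_ne_zero (xg_injective g0 (show cfg1.th < E8Data.tab.n by decide +kernel)
      (h1.trans (xg_zero g0 cfg1.th).symm))⟩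
  have hfr : k = (q - 1) * (q * q ^ 27 * S.m f ψ₁) + ReeRep.mult (S.RZ f) 0 := by
    refine (Module.finrank_fin_fun ℂ (n := k)).symm.trans ?_
    rw [S.finrank_eq f hψ hu, card_forms, ← hq]
    rfl
  have hb29 : q * (q ^ 12 + 1) * (q ^ 10 + 1) * (q ^ 6 + 1) =
      q ^ 29 + q ^ 23 + q ^ 19 + q ^ 17 + q ^ 13 + q ^ 11 + q ^ 7 + q := by ring
  rcases (show S.m f ψ₁ = 1 ∨ 2 ≤ S.m f ψ₁ by omega) with hm | hm
  swap
  · have hC : (q - 1) * (q ^ 27 * S.m f ψ₁) ≤ ReeRep.mult (S.RZ f) 0 := by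
      have e : (0 : AddChar F ℂ) = ψ₁.mulShift 0 := by rw [AddChar.mulShift_zero]; rfl
      rw [e, S.mu_RZ f hψ, ← Finset.add_sum_erase _ _ (Finset.mem_univ (0 : F))]
      refine le_add_left (le_of_eq ?_)
      rw [Finset.sum_congr rfl fun d hd => Finset.sum_congr rfl fun φ _ => S.mu_fixed f hψ hu (Finset.ne_of_mem_erase hd) φ]
      simp only [Finset.sum_const, Finset.card_univ, Finset.card_erase_of_mem (Finset.mem_univ (0 : F)), card_forms, ← hq,
        smul_eq_mul]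
      rfl
    have h1 : (q - 1) * (q * q ^ 27 * 2) ≤ (q - 1) * (q * q ^ 27 * S.m f ψ₁) := Nat.mul_le_mul_left _ (Nat.mul_le_mul_left _ hm)
    have h2 : (q - 1) * (q ^ 27 * 2) ≤ (q - 1) * (q ^ 27 * S.m f ψ₁) := Nat.mul_le_mul_left _ (Nat.mul_le_mul_left _ hm)
    rw [hb29]
    obtain ⟨t, ht⟩ : ∃ t, q = t + 1 := ⟨q - 1, by omega⟩
    have ht1 : 1 ≤ t := by omega
    rw [show q - 1 = t by omega] at h1 h2 hfr hC
    have p24 : 2 * (2 * q ^ 23) ≤ q ^ 27 := by
      rw [pow_add q 23 4, mul_comm (q ^ 23) (q ^ 4), ← mul_assoc]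
      exact Nat.mul_le_mul_right _ ((show 2 * 2 ≤ 2 ^ 4 by norm_num).trans (Nat.pow_le_pow_left hq2 4))
    have hpw : ∀ e, e ≤ 21 → 4 * q ^ e ≤ q ^ 23 := fun e he => by
      rw [show 23 = (23 - e) + e by omega, pow_add]
      exact Nat.mul_le_mul_right _ (((show 4 ≤ 2 ^ 2 by norm_num).trans (Nat.pow_le_pow_left hq2 2)).trans
        (Nat.pow_le_pow_right (by omega) (by omega)))
    have := hpw 19 (by omega); have := hpw 17 (by omega); have := hpw 13 (by omega); have := hpw 11 (by omega)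
    have := hpw 7 (by omega); have := hpw 1 (by omega)
    have e28 : t * (q * q ^ 27 * 2) + t * (q ^ 27 * 2) = 2 * t * (t + 2) * q ^ 27 := by rw [ht]; ring
    have e29 : q ^ 29 + q ^ 27 ≤ 2 * t * (t + 2) * q ^ 27 := by
      rw [show q ^ 29 + q ^ 27 = (q * q + 1) * q ^ 27 by ring]
      refine Nat.mul_le_mul_right _ ?_
      subst ht
      nlinarith
    have : q = q ^ 1 := (pow_one q).symm
    omega
  subst hS
  have h1 : Ctx cfg1 (grp F) qcfg1 fx1 f ψ₁ := Ctx.ofCentre hd hQ hψ ⟨steps1, chkRun1⟩ hu hm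
  have hC : ReeRep.mult ((Cfg.sys hd).RZ f) 0 = finrank ℂ (range (e0 (grp F) cfg1 f)) := by
    have e : (Cfg.sys hd).RZ f = f.compAddChar ((grp F).x cfg1.th) :=
      DFunLike.ext _ _ fun x => congrArg f (Cfg.Y_th hd.toGood0 x)
    rw [e]; rfl
  rw [hC, Ctx.finrank_fixed h1, hm, ← hq, sums1 fun l _ => q ^ l] at hfr
  have o1 : LeviOK (grp F) cfg1 qcfg1 S7 J7 :=
    ⟨fun r hr => lt_of_testBit mask7_lt hr, levi7, fun _ _ _ => rfl, mono⟩
  have hb := level2 (W := range (Ctx.P h1)) (Ctx.levi h1 o1) (Ctx.act h1) hψ hq rfl rfl (Ctx.levi_mono h1 o1)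
    (fun t => by rw [th_eq]; exact Ctx.act_th h1 o1 th_mem7 t) (fun s hs => by
    have hc : com E8Data.tab (grp F).S cfg1.th tcfg1.a2 = true := (o1.com_th a2_mem7.1).1
    refine (Ctx.trace_act h1 o1 a2_mem7.1 s hc).trans ?_
    refine (Ctx.trace_diff h1 hd hu hm rfl rfl chkA1 chkB1 hs hc).trans ?_
    rw [← hq, show (grp F).S = S0 from rfl, sums1 fun l b => if b = true then (q : ℂ) ^ l else 0,
      sums1 fun l _ => (q : ℂ) ^ l, still1, show cfg1.n = 27 from rfl, diff1]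
    rfl)
  rw [Ctx.finrank_P] at hb
  have hmain : q * (q ^ 12 + 1) * (q ^ 10 + 1) * (q ^ 6 + 1) ≤ k + 3 := by
    have e := total (q : ℤ)
    simp only [lens1, cases1, lens2, cases2, lens3, cases3, List.zipWith_cons_cons, List.zipWith_nil_right,
      List.sum_cons, List.sum_nil] at hfr hb e
    zify [show 1 ≤ q by omega] at hfr hb ⊢
    linarith
  by_contra hlt
  obtain ⟨j, hj⟩ : ∃ j, k + j = q * (q ^ 12 + 1) * (q ^ 10 + 1) * (q ^ 6 + 1) := ⟨_, Nat.add_sub_cancel' (by omega)⟩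
  have hdv : k ∣ Nat.card (E8Data.tab.D.group F) := by
    have hχ : Cfsg.IsIrrCharacter (E8Data.tab.D.group F) ρ.character := ⟨k, ρ, hirr, rfl⟩
    exact Char.degree_dvd_card hχ (by rw [Representation.char_one, Module.finrank_fin_fun])
  refine Arith.not_dvd (hq ▸ FiniteField.isPrimePow_card F) (j := j) ?_ hj ?_
  · simp only [List.mem_cons, List.not_mem_nil, or_false]
    omega
  · refine hdv.trans (dvd_of_eq ?_)
    refine (S1065.result (F := F) hq.symm).trans ?_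
    rw [Arith.ord]
    ring

end Cfsg.Agent.MinDegreeE8
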