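/-
Complex representations of Sp_{2n}(q), q odd: nontrivial ones have degree at least (q^n - 1)/2.
-/
import Cfsg.Agent.Lib.MinDegree.SympEven

set_option autoImplicit false

namespace Cfsg.Agent.SympOddDeg

open scoped commutatorElement
open Matrix Finset Cfsg.Agent.SpDegree Cfsg.Agent.EigenChar Cfsg.Agent.SympEvenDeg

section orbit

variable {F V : Type*} [Field F] [Fintype F] [DecidableEq F] [AddCommGroup V] [Module F V] [Fintype V]
  [DecidableEq V] [FiniteDimensional F V] {Q : V → F} (B : V →ₗ[F] V →ₗ[F] F)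

/-- The orbit of Q. -/
noncomputable def orbit (F : Type*) {V : Type*} [Field F] [Fintype F] [DecidableEq F] [AddCommGroup V]
    [Module F V] [Fintype V] [DecidableEq V] (Q : V → F) : Finset (V → F) :=
  haveI : Finite (V ≃ₗ[F] V) := Finite.of_injective _ DFunLike.coe_injective
  letI : Fintype (V ≃ₗ[F] V) := Fintype.ofFinite _
  (univ : Finset (V ≃ₗ[F] V)).image fun g : V ≃ₗ[F] V => Q ∘ ⇑g

omit [FiniteDimensional F V] in
theorem mem_orbit {T : V → F} : T ∈ orbit F Q ↔ ∃ g : V ≃ₗ[F] V, Q ∘ g = T := by
  simp [orbit]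

omit [Fintype F] [DecidableEq F] [Fintype V] [DecidableEq V] [FiniteDimensional F V] in
/-- The map y ↦ y + p(y) e. -/
theorem exists_push {e : V} (p : Module.Dual F V) (hp : p e = 0) :
    ∃ g : V ≃ₗ[F] V, ∀ y, g y = y + p y • e :=
  ⟨LinearEquiv.ofLinear (LinearMap.id + p.smulRight e) (LinearMap.id - p.smulRight e)
    (by ext x; simp [hp]) (by ext x; simp [hp]), fun _ => rfl⟩

/-- The orbit of a non-zero quadratic function, odd characteristic. -/
theorem le_card_orbit (h2 : (2 : F) ≠ 0) (hsmul : ∀ (a : F) v, Q (a • v) = a * a * Q v)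
    (hadd : ∀ v w, Q (v + w) = Q v + Q w + B v w) (hself : ∀ v, B v v = 2 * Q v) {e : V} (he : Q e ≠ 0) :
    Fintype.card F ^ Module.finrank F V - 1 ≤ 2 * (orbit F Q).card := by
  classical
  set q := Fintype.card F with hq
  set n := Module.finrank F V with hn
  have : Finite (Module.Dual F V) := Finite.of_injective _ DFunLike.coe_injective
  have : Fintype (Module.Dual F V) := Fintype.ofFinite _
  have he0 : e ≠ 0 := fun h => he (by rw [h, ← zero_smul F (0 : V), hsmul]; ring)
  have hn1 : 1 ≤ n := Module.finrank_pos_iff_exists_ne_zero.2 ⟨e, he0⟩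
  obtain ⟨φ0, hφ0⟩ : ∃ φ : Module.Dual F V, φ e = 1 := by
    obtain ⟨φ, hφ⟩ := Module.Projective.exists_dual_ne_zero F he0
    exact ⟨(φ e)⁻¹ • φ, by rw [LinearMap.smul_apply, smul_eq_mul, inv_mul_cancel₀ hφ]⟩
  have hBsymm : ∀ v w, B v w = B w v := fun v w => by
    have h1 := hadd v w
    rw [add_comm v w, hadd w v] at h1
    linear_combination -h1
  -- many forms take the value Q e at e
  set r := ((orbit F Q).filter fun T => T e = Q e).card with hr
  have hrle : q ^ (n - 1) ≤ r := by
    let φ : Module.Dual F V →ₗ[F] F := LinearMap.applyₗ e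
    have hker : Fintype.card (LinearMap.ker φ) = q ^ (n - 1) := by
      rw [Module.card_eq_pow_finrank (K := F) (V := LinearMap.ker φ)]
      congr 1
      have h := LinearMap.finrank_range_add_finrank_ker φ
      rw [LinearMap.range_eq_top.2 (fun c => ⟨c • φ0, by simp [φ, hφ0]⟩), finrank_top, Module.finrank_self,
        Subspace.dual_finrank_eq] at h
      omega
    choose g hg using fun p : LinearMap.ker φ => exists_push (e := e) p.1 (LinearMap.mem_ker.1 p.2)
    rw [← hker, ← card_univ]
    refine card_le_card_of_injOn (fun p => Q ∘ g p) (fun p _ => ?_) fun p _ p' _ h => ?_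
    · rw [mem_coe, mem_filter]
      refine ⟨mem_orbit.2 ⟨g p, rfl⟩, ?_⟩
      show Q (g p e) = Q e
      rw [hg, show (p : Module.Dual F V) e = 0 from LinearMap.mem_ker.1 p.2, zero_smul, add_zero]
    · refine Subtype.ext (LinearMap.ext fun y => ?_)
      have h1 : Q (g p y) = Q (g p' y) := congrFun h y
      have h3 : Q (g p (e + y)) = Q (g p' (e + y)) := congrFun h (e + y)
      rw [map_add, map_add, hadd, hadd, h1, hg p e, hg p' e, show (p : Module.Dual F V) e = 0 from
        LinearMap.mem_ker.1 p.2, show (p' : Module.Dual F V) e = 0 from LinearMap.mem_ker.1 p'.2, zero_smul,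
        add_zero] at h3
      have h4 : B e (g p y) = B e (g p' y) := add_left_cancel h3
      simp only [hg, map_add, map_smul, smul_eq_mul, hself] at h4
      exact mul_right_cancel₀ (mul_ne_zero h2 he) (add_left_cancel h4)
  -- each form takes that value at most 2 q^(n-1) times
  have hN : (univ.filter fun v => Q v = Q e).card ≤ 2 * q ^ (n - 1) := by
    have hk : (univ.filter fun v : V => φ0 v = 0).card = q ^ (n - 1) := by
      rw [← Fintype.card_subtype, show Fintype.card {v // φ0 v = 0} = Fintype.card (LinearMap.ker φ0) from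
        Fintype.card_congr (Equiv.subtypeEquivRight fun v => LinearMap.mem_ker.symm),
        Module.card_eq_pow_finrank (K := F) (V := LinearMap.ker φ0)]
      congr 1
      have h := LinearMap.finrank_range_add_finrank_ker φ0
      rw [LinearMap.range_eq_top.2 (fun c => ⟨c • e, by simp [hφ0]⟩), finrank_top, Module.finrank_self] at h
      omega
    rw [← hk]
    refine (card_le_mul_card_image (f := fun v => v - φ0 v • e) _ 2 fun b hb => ?_).trans
      (Nat.mul_le_mul_left _ (card_le_card fun b hb => by
        obtain ⟨v, -, rfl⟩ := mem_image.1 hb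
        simp [hφ0]))
    obtain ⟨v, hv, rfl⟩ := mem_image.1 hb
    set t := φ0 v
    set y := v - t • e
    refine le_trans (card_le_card (t := {v, y + (-(B y e) / Q e - t) • e}) fun v' hv' => ?_) card_le_two
    simp only [mem_filter, mem_univ, true_and] at hv hv'
    have e1 : v' = y + φ0 v' • e := by rw [← hv'.2, sub_add_cancel]
    have e2 : v = y + t • e := (sub_add_cancel _ _).symm
    have q1 : Q y + φ0 v' * φ0 v' * Q e + φ0 v' * B y e = Q e := by
      conv_rhs => rw [← hv'.1, e1]
      rw [hadd, hsmul, map_smul, smul_eq_mul]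
    have q2 : Q y + t * t * Q e + t * B y e = Q e := by
      conv_rhs => rw [← hv, e2]
      rw [hadd, hsmul, map_smul, smul_eq_mul]
    have h3 : (φ0 v' - t) * ((φ0 v' + t) * Q e + B y e) = 0 := by linear_combination q1 - q2
    rw [mem_insert, mem_singleton]
    rcases mul_eq_zero.1 h3 with h | h
    · left
      rw [e1, e2, sub_eq_zero.1 h]
    · right
      conv_lhs => rw [e1]
      congr 2
      field_simp
      linear_combination h
  -- double counting
  have hdc : (q ^ n - 1) * r ≤ (orbit F Q).card * (2 * q ^ (n - 1)) := by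
    calc (q ^ n - 1) * r ≤ ∑ v ∈ (univ : Finset V).erase 0, ((orbit F Q).filter fun T => T v = Q e).card := by
          have h1 : ∀ v ∈ (univ : Finset V).erase 0, r ≤ ((orbit F Q).filter fun T => T v = Q e).card := by
            intro v hv
            obtain ⟨h, hh⟩ := Submodule.exists_linearEquiv_restrict_eq
              ((LinearEquiv.toSpanNonzeroSingleton F V v (ne_of_mem_erase hv)).symm ≪≫ₗ
                LinearEquiv.toSpanNonzeroSingleton F V e he0)
            have hve : h v = e := by
              have := hh (LinearEquiv.toSpanNonzeroSingleton F V v (ne_of_mem_erase hv) 1)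
              rw [LinearEquiv.trans_apply, LinearEquiv.symm_apply_apply] at this
              simpa [LinearEquiv.toSpanNonzeroSingleton_one] using this.symm
            refine card_le_card_of_injOn (fun T => T ∘ h) (fun T hT => ?_) fun T _ T' _ hTT => funext fun y => by
              simpa using congrFun hTT (h.symm y)
            obtain ⟨hT, hT'⟩ := mem_filter.1 (mem_coe.1 hT)
            obtain ⟨g, rfl⟩ := mem_orbit.1 hT
            rw [mem_coe, mem_filter]
            refine ⟨mem_orbit.2 ⟨h.trans g, rfl⟩, ?_⟩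
            simpa [hve] using hT'
          refine le_trans ?_ (card_nsmul_le_sum _ _ _ h1)
          rw [card_erase_of_mem (mem_univ _), card_univ, Module.card_eq_pow_finrank (K := F) (V := V), smul_eq_mul]
      _ = ∑ T ∈ orbit F Q, (((univ : Finset V).erase 0).filter fun v => T v = Q e).card := by
          simp only [card_eq_sum_ones, sum_filter]
          exact sum_comm
      _ ≤ ∑ T ∈ orbit F Q, 2 * q ^ (n - 1) := sum_le_sum fun T hT => by
          obtain ⟨g, rfl⟩ := mem_orbit.1 hT
          refine le_trans (card_le_card_of_injOn g (fun v hv => ?_) g.injective.injOn) hN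
          simp only [mem_coe, mem_filter, mem_univ, true_and] at hv ⊢
          exact hv.2
      _ = _ := by rw [sum_const, smul_eq_mul]
  refine Nat.le_of_mul_le_mul_right ?_ (pow_pos (Fintype.card_pos : 0 < q) (n - 1))
  calc (q ^ n - 1) * q ^ (n - 1) ≤ (q ^ n - 1) * r := Nat.mul_le_mul_left _ hrle
    _ ≤ (orbit F Q).card * (2 * q ^ (n - 1)) := hdc
    _ = _ := by ring

end orbit

variable {F : Type*} [Field F] [Fintype F] {n : ℕ}

theorem commutator_eq_top (h2 : (2 : F) ≠ 0) (hn : 2 ≤ n) :
    commutator (symplecticGroup (Fin n) F) = ⊤ := by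
  refine ClassicalSp.commutator_sp ?_
  have h3 : 3 ≤ Nat.card F := by
    have hne : ringChar F ≠ 2 := fun h => h2 (by
      haveI := ringChar.of_eq h
      exact CharTwo.two_eq_zero)
    have hodd := FiniteField.odd_card_of_char_ne_two hne
    have : 1 < Fintype.card F := Fintype.one_lt_card
    rw [Nat.card_eq_fintype_card]
    omega
  rcases hn.lt_or_eq with h | h
  · exact Or.inl h
  · exact Or.inr (Or.inl ⟨h.symm, h3⟩)

/-- Every nontrivial representation has degree at least (q^n - 1)/2. -/
theorem le_degree [DecidableEq F] (h2 : (2 : F) ≠ 0) (hn : 2 ≤ n) {V : Type*} [AddCommGroup V] [Module ℂ V]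
    [FiniteDimensional ℂ V] (ρ : symplecticGroup (Fin n) F →* Module.End ℂ V) (hne : ∃ g, ρ g ≠ 1) :
    Fintype.card F ^ n - 1 ≤ 2 * Module.finrank ℂ V := by
  classical
  obtain ⟨ψ, hψ⟩ := Cfsg.Agent.AbelianOrbit.exists_addChar F ℂ (Nat.cast_ne_zero.2 Fintype.card_ne_zero)
  have : Fintype (SpDegree.Sym F n) := Fintype.ofFinite _
  let R : AddChar (SpDegree.Sym F n) (Module.End ℂ V) :=
    { toFun := fun S => ρ (jHom (Multiplicative.ofAdd S))
      map_zero_eq_one' := by rw [ofAdd_zero, map_one, map_one]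
      map_add_eq_mul' := fun a b => by rw [ofAdd_add, map_mul, map_mul] }
  let i0 : Fin n := ⟨0, by omega⟩
  set a : Fin n → F := Pi.single i0 1
  have hp := commutator_eq_top h2 hn
  haveI := ClassicalSp.isSimpleGroup_psp (m := n) (F := F) hn fun h => by
    have hne : ringChar F ≠ 2 := fun h => h2 (by
      haveI := ringChar.of_eq h
      exact CharTwo.two_eq_zero)
    have hodd := FiniteField.odd_card_of_char_ne_two hne
    have : 1 < Fintype.card F := Fintype.one_lt_card
    rw [Nat.card_eq_fintype_card]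
    omega
  let R' : AddChar F (Module.End ℂ V) := R.compAddMonoidHom (symSq a)
  obtain ⟨x, hx⟩ : ∃ x, R' 1 x ≠ x := by
    by_contra hc
    push Not at hc
    have hmem : jHom (Multiplicative.ofAdd (symSq a 1)) ∈ ρ.ker := MonoidHom.mem_ker.2 (LinearMap.ext hc)
    have hmap : (ρ.ker.map (QuotientGroup.mk' (Subgroup.center (symplecticGroup (Fin n) F)))).Normal :=
      (inferInstance : ρ.ker.Normal).map _ (QuotientGroup.mk'_surjective _)
    rcases hmap.eq_bot_or_eq_top with h | h
    · rw [Subgroup.map_eq_bot_iff, QuotientGroup.ker_mk'] at h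
      have h3 := pow_card_eq_one' (x := (⟨_, h hmem⟩ : Subgroup.center (symplecticGroup (Fin n) F)))
      rw [ClassicalSp.card_center_sp (by omega)] at h3
      have h4 : (jHom (Multiplicative.ofAdd (symSq a 1)) : symplecticGroup (Fin n) F) ^ 2 = 1 := by
        obtain ⟨d, hd⟩ := Nat.gcd_dvd_left 2 (Nat.card F - 1)
        rw [hd, pow_mul, show (jHom (Multiplicative.ofAdd (symSq a 1)) : symplecticGroup (Fin n) F) ^
          Nat.gcd 2 (Nat.card F - 1) = 1 from congrArg Subtype.val h3, one_pow]
      rw [← map_pow, ← map_one (jHom (F := F) (n := n))] at h4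
      have h5 : ((Multiplicative.ofAdd (symSq a 1)) ^ 2).toAdd.1 i0 i0 = (0 : F) :=
        congrArg (fun s : Multiplicative (SpDegree.Sym F n) => s.toAdd.1 i0 i0) (jHom_injective h4)
      simp [symSq, a, two_mul, vecMulVec_apply] at h5
      exact h2 (by linear_combination h5)
    · refine absurd (top_le_iff.1 (hp.ge.trans ?_) : ρ.ker = ⊤) fun h' => ?_
      · rw [commutator_def, Subgroup.commutator_le]
        intro g _ g' _
        have hdec : ∀ g, ∃ k ∈ ρ.ker, ∃ z ∈ Subgroup.center (symplecticGroup (Fin n) F), g = k * z := fun g => by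
          obtain ⟨k, hk, hkg⟩ := (h ▸ Subgroup.mem_top (QuotientGroup.mk' _ g) :
            QuotientGroup.mk' _ g ∈ ρ.ker.map (QuotientGroup.mk' (Subgroup.center (symplecticGroup (Fin n) F))))
          exact ⟨k, hk, k⁻¹ * g, QuotientGroup.eq.1 hkg, (mul_inv_cancel_left k g).symm⟩
        obtain ⟨k, hk, z, hz, rfl⟩ := hdec g
        obtain ⟨k', hk', z', hz', rfl⟩ := hdec g'
        rw [← QuotientGroup.eq_one_iff]
        show QuotientGroup.mk' ρ.ker _ = 1
        rw [map_commutatorElement, map_mul, map_mul, show QuotientGroup.mk' ρ.ker k = 1 from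
          (QuotientGroup.eq_one_iff k).2 hk, show QuotientGroup.mk' ρ.ker k' = 1 from
          (QuotientGroup.eq_one_iff k').2 hk', one_mul, one_mul, commutatorElement_eq_one_iff_mul_comm,
          ← map_mul, ← map_mul, Subgroup.mem_center_iff.1 hz' z]
      · obtain ⟨g, hg⟩ := hne
        exact hg (MonoidHom.mem_ker.1 (h' ▸ Subgroup.mem_top g))
  obtain ⟨χ, ⟨c₀, hc₀⟩, hχ⟩ := exists_char (R := R') (W := ⊤) (fun _ _ _ => Submodule.mem_top) Submodule.mem_top hx
  obtain ⟨φ, hφ⟩ := exists_char' (R := R) (W := eig R' ⊤ χ) (fun S y hy => ⟨Submodule.mem_top, fun c => by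
    show R (symSq a c) (R S y) = _
    rw [← Module.End.mul_apply, ← AddChar.map_add_eq_mul, add_comm, AddChar.map_add_eq_mul,
      Module.End.mul_apply, show R (symSq a c) y = χ c • y from hy.2 c, map_smul]⟩) hχ
  obtain ⟨y, hy, hy0⟩ := (Submodule.ne_bot_iff _).1 hφ
  have hQa : qf hψ φ a ≠ 0 := by
    intro h0
    have h1 : φ (symSq a c₀) = 1 := by rw [qf_spec hψ, h0, zero_mul, AddChar.map_zero_eq_one]
    have h2 := hy.1.2 c₀
    rw [show R' c₀ y = R (symSq a c₀) y from rfl, hy.2, h1, one_smul] at h2
    exact hc₀ (smul_left_injective ℂ hy0 (h2.symm.trans (one_smul ℂ y).symm))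
  -- every form in the orbit occurs
  have hocc : ∀ T ∈ orbit F (qf hψ φ), ∃ φ' : AddChar (SpDegree.Sym F n) ℂ, qf hψ φ' = T ∧ eig R ⊤ φ' ≠ ⊥ := by
    intro T hT
    obtain ⟨g, rfl⟩ := mem_orbit.1 hT
    have hdet : (LinearMap.toMatrix' g.toLinearMap).det ≠ 0 := by
      rw [LinearMap.det_toMatrix']
      exact (LinearEquiv.isUnit_det' g).ne_zero
    let M : GL (Fin n) F := Matrix.GeneralLinearGroup.mkOfDetNeZero _ hdet
    refine ⟨φ.compAddMonoidHom (congrA M), funext fun v => qf_eq hψ fun c => ?_, (Submodule.ne_bot_iff _).2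
      ⟨ρ (levi M)⁻¹ y, ⟨Submodule.mem_top, fun S => ?_⟩, fun h => ?_⟩⟩
    · rw [AddChar.compAddMonoidHom_apply, congrA_symSq, qf_spec hψ]
      congr 3
      exact LinearMap.congr_fun (Matrix.toLin'_toMatrix' g.toLinearMap) v
    · show ρ (jHom (Multiplicative.ofAdd S)) (ρ (levi M)⁻¹ y) = φ (congrA M S) • ρ (levi M)⁻¹ y
      rw [← Module.End.mul_apply, ← map_mul, show jHom (Multiplicative.ofAdd S) * (levi M)⁻¹ =
          (levi M)⁻¹ * jHom (Multiplicative.ofAdd (congrA M S)) by
        rw [show Multiplicative.ofAdd (congrA M S) = sigma M (Multiplicative.ofAdd S) from rfl, ← conj_jHom]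
        group, map_mul, Module.End.mul_apply,
        show ρ (jHom (Multiplicative.ofAdd (congrA M S))) y = φ (congrA M S) • y from hy.2 _, map_smul]
    · have := congrArg (ρ (levi M)) h
      rw [map_zero, ← Module.End.mul_apply, ← map_mul, mul_inv_cancel, map_one, Module.End.one_apply] at this
      exact hy0 this
  have hle : (orbit F (qf hψ φ)).card ≤ Module.finrank ℂ V := by
    choose! Φ hΦ1 hΦ2 using hocc
    have h1 : ((orbit F (qf hψ φ)).image Φ).card = (orbit F (qf hψ φ)).card :=
      Finset.card_image_of_injOn fun T hT T' hT' h => by rw [← hΦ1 T hT, ← hΦ1 T' hT', h]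
    rw [← h1]
    refine le_trans ?_ ((sum_finrank_le (R := R) (W := ⊤) (fun _ _ _ => Submodule.mem_top)
      ((orbit F (qf hψ φ)).image Φ)).trans_eq (finrank_top ℂ V))
    refine le_trans (le_of_eq (mul_one _).symm) ((smul_eq_mul ..).symm.le.trans
      (Finset.card_nsmul_le_sum _ _ 1 fun φ' hφ' => ?_))
    obtain ⟨T, hT, rfl⟩ := Finset.mem_image.1 hφ'
    exact Nat.one_le_iff_ne_zero.2 fun h => hΦ2 T hT (Submodule.finrank_eq_zero.1 h)
  have hsmul : ∀ (c : F) v, qf hψ φ (c • v) = c * c * qf hψ φ v := fun c v => qf_eq hψ fun d => by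
    rw [show symSq (c • v) d = symSq v (c * c * d) from Subtype.ext (by
      show d • vecMulVec (c • v) (c • v) = (c * c * d) • vecMulVec v v
      rw [smul_vecMulVec, vecMulVec_smul, smul_smul, smul_smul]; congr 1; ring), qf_spec hψ]
    congr 1
    ring
  have hadd : ∀ v w, qf hψ φ (v + w) = qf hψ φ v + qf hψ φ w + bl hψ φ v w := fun v w => qf_eq hψ fun c => by
    rw [show symSq (v + w) c = symSq v c + symSq w c + symPair v w c from Subtype.ext (by
      show c • vecMulVec (v + w) (v + w) =
        c • vecMulVec v v + c • vecMulVec w w + c • (vecMulVec v w + vecMulVec w v)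
      rw [add_vecMulVec, vecMulVec_add, vecMulVec_add, ← smul_add, ← smul_add]; congr 1; abel),
      AddChar.map_add_eq_mul, AddChar.map_add_eq_mul, qf_spec hψ, qf_spec hψ, bf_spec hψ,
      ← AddChar.map_add_eq_mul, ← AddChar.map_add_eq_mul]
    congr 1
    show _ = (_ + _ + bf hψ φ v w) * c
    ring
  have hself : ∀ v, bl hψ φ v v = 2 * qf hψ φ v := fun v => bf_eq hψ fun c => by
    rw [show symPair v v c = symSq v c + symSq v c from Subtype.ext (smul_add _ _ _), AddChar.map_add_eq_mul,
      qf_spec hψ, ← AddChar.map_add_eq_mul]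
    congr 1
    ring
  have h := le_card_orbit (Q := qf hψ φ) (bl hψ φ) h2 hsmul hadd hself hQa
  rw [Module.finrank_pi, Fintype.card_fin] at h
  exact h.trans (Nat.mul_le_mul_left _ hle)

end Cfsg.Agent.SympOddDeg
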