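/-
Three numbers below the smallest degree of `²E₆(q)` which do not divide its order.
-/
import Cfsg.Agent.Lib.MinDegree.E8Arith
import Mathlib.Algebra.IsPrimePow

set_option autoImplicit false
set_option maxRecDepth 20000

namespace Cfsg.Agent.MinDegreeTwE6.Arith

open Cfsg.Agent.MinDegreeE8.Arith (ev padd pmul ev_padd ev_smul ev_pmul posFrom posFrom_le ev_zero)

/-- the product of the numbers `q^d ± 1` -/
def ordList : List ℤ :=
  ([(2, -1), (5, 1), (6, -1), (8, -1), (9, 1), (12, -1)] : List (ℕ × ℤ)).foldr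
    (fun d L => pmul (d.2 :: (List.replicate (d.1 - 1) 0 ++ [1])) L) [1]

/-- the order without the power of `q` -/
def ord (q : ℕ) : ℕ := (q ^ 2 - 1) * (q ^ 5 + 1) * (q ^ 6 - 1) * (q ^ 8 - 1) * (q ^ 9 + 1) * (q ^ 12 - 1)

theorem ev_ordList {q : ℕ} (hq : 1 ≤ q) : ev ordList q = (ord q : ℤ) := by
  have h1 : ∀ e, 1 ≤ q ^ e := fun e => Nat.one_le_pow _ _ hq
  rw [ord]
  push_cast [Nat.cast_sub (h1 2), Nat.cast_sub (h1 6), Nat.cast_sub (h1 8), Nat.cast_sub (h1 12)]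
  simp only [ordList, List.foldr_cons, List.foldr_nil, ev_pmul, Nat.reduceSub, List.replicate, List.cons_append,
    List.nil_append, ev]
  ring

/-- checks for a degree given by a coefficient list -/
def chk (D : List ℤ) (g : ℕ) (Q R : List ℤ) (s : ℤ) (b : ℕ) : Bool :=
  (padd (padd (pmul Q D) R) (ordList.map fun c => -(g : ℤ) * c)).all (fun c => c == 0) &&
    posFrom b (R.map fun c => s * c) && posFrom b (padd D (R.map fun c => -s * c)) && (s == 1 || s == -1) &&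
    (List.range b).all fun q => Nat.blt q 2 || ev R q % ev D q != 0

theorem not_dvd_of_chk {D : List ℤ} {g : ℕ} {Q R : List ℤ} {s : ℤ} {b : ℕ} (h : chk D g Q R s b = true) {q k : ℕ}
    (hq : 2 ≤ q) (hk : (k : ℤ) = ev D q) : ¬ k ∣ g * ord q := by
  intro hd
  simp only [chk, Bool.and_eq_true, Bool.or_eq_true, beq_iff_eq, List.all_eq_true, List.mem_range, bne_iff_ne,
    Nat.blt_eq] at h
  obtain ⟨⟨⟨⟨hid, hP⟩, hdif⟩, hs⟩, hsmall⟩ := h
  have hid' : ev Q q * ev D q + ev R q - (g : ℤ) * ev ordList q = 0 := by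
    have := ev_zero (List.all_eq_true.2 fun c hc => by simpa using hid c hc) q
    rw [ev_padd, ev_padd, ev_pmul, ev_smul] at this
    linarith
  have hdz : (k : ℤ) ∣ ev R q := by
    have h1 : (k : ℤ) ∣ (g : ℤ) * ev ordList q := by
      rw [ev_ordList (by omega)]
      exact_mod_cast Int.natCast_dvd_natCast.2 hd
    have e : ev R q = (g : ℤ) * ev ordList q - (k : ℤ) * ev Q q := by
      rw [hk]
      linear_combination hid'
    rw [e]
    exact dvd_sub h1 (dvd_mul_right _ _)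
  by_cases hqb : q < b
  · refine (hsmall q hqb).resolve_left (by omega) ?_
    rw [← hk]
    exact Int.emod_eq_zero_of_dvd hdz
  · have hb : (b : ℤ) ≤ (q : ℤ) := by exact_mod_cast not_lt.1 hqb
    obtain ⟨p1, p2⟩ := posFrom_le (Int.natCast_nonneg b) hP hb
    obtain ⟨d1, d2⟩ := posFrom_le (Int.natCast_nonneg b) hdif hb
    rw [ev_smul] at p1
    rw [ev_smul, ev_smul] at p2
    rw [ev_padd, ev_smul] at d1
    rw [ev_padd, ev_smul, ev_padd D, ev_smul, ← hk] at d2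
    have hpos : 0 < s * ev R q := lt_of_lt_of_le p1 p2
    have hlt : s * ev R q < (k : ℤ) := by linarith
    have hle := Int.le_of_dvd hpos (hdz.mul_left s)
    linarith

theorem chkK : chk [(-1), 0, 1, (-1), 0, 0, 0, 1, (-1), 0, 0, 1] 1
    [27, 481, (-518), 242, 70, (-223), 188, (-57), (-56), 94, (-63), 7, 32, (-37), 19, 2,
    (-15), 15, (-5), (-4), 6, (-4), 1, 2, (-3), 1, 0, (-1), 1, (-1), 0, 1]
    [28, 481, (-546), (-212), 1069, (-982), 359, 208, (-921), 1339, (-823)]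
    (-1) 824 = true := by decide +kernel

theorem chk1 : chk [(-1), 1, 0, 0, (-1), 1, 0, 1, (-1), 0, 0, 1] 1
    [(-23), 25, (-14), (-2), 15, (-17), 8, 5, (-11), 10, (-3), (-4), 6, (-4), 1, 1,
    (-3), 3, 1, (-3), 2, 0, (-1), 2, (-2), 0, 0, (-1), 1, (-1), 0, 1]
    [(-22), 48, (-40), 12, (-6), 17, (-15), 31, (-47), 29, 1]
    (1) 6 = true := by decide +kernel

theorem chk2 : chk [(-2), 1, 0, 0, (-1), 1, 0, 1, (-1), 0, 0, 1] 2
    [(-84), 126, (-98), 14, 52, (-80), 48, 12, (-42), 44, (-14), (-10), 20, (-18), 6, 0,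
    (-10), 10, 0, (-6), 6, 0, (-2), 4, (-4), 0, 0, (-2), 2, (-2), 0, 2]
    [(-166), 336, (-324), 126, 6, 0, (-50), 170, (-268), 224, (-54)]
    (-1) 55 = true := by decide +kernel

theorem small : ∀ q ∈ [2, 3], (q ^ 36 * ord q) % (q * (q ^ 6 - q ^ 3 + 1) * (q ^ 4 + 1) - 2) ≠ 0 := by
  decide +kernel

/-- a number congruent to `-1` modulo `q` -/
theorem dvd_ord {q k : ℕ} (hc : q ∣ k + 1) (hd : k ∣ q ^ 36 * ord q) : k ∣ ord q := by
  refine Nat.Coprime.dvd_of_dvd_mul_left (Nat.Coprime.pow_right _ ?_) hd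
  exact Nat.Coprime.coprime_dvd_right hc (Nat.coprime_self_add_right.2 (Nat.coprime_one_right k))

theorem not_dvd_K {q k : ℕ} (hq : 2 ≤ q)
    (hk : (k : ℤ) = (q : ℤ) ^ 11 - (q : ℤ) ^ 8 + (q : ℤ) ^ 7 - (q : ℤ) ^ 3 + (q : ℤ) ^ 2 - 1) :
    ¬ k ∣ q ^ 36 * ord q := by
  intro hd
  refine not_dvd_of_chk chkK hq (hk.trans ?_) ((one_mul (ord q)).symm ▸ dvd_ord ?_ hd)
  · simp only [ev]; ring
  · have : (q : ℤ) ∣ ((k + 1 : ℕ) : ℤ) := ⟨(q : ℤ) ^ 10 - (q : ℤ) ^ 7 + (q : ℤ) ^ 6 - (q : ℤ) ^ 2 + (q : ℤ), by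
      push_cast; rw [hk]; ring⟩
    exact_mod_cast this

theorem not_dvd_T {q k j : ℕ} (hpp : IsPrimePow q) (hj : j = 1 ∨ j = 2)
    (hk : k + j = q * (q ^ 6 - q ^ 3 + 1) * (q ^ 4 + 1)) : ¬ k ∣ q ^ 36 * ord q := by
  have hq : 2 ≤ q := hpp.two_le
  have hkz : (k : ℤ) + (j : ℤ) =
      (q : ℤ) ^ 11 - (q : ℤ) ^ 8 + (q : ℤ) ^ 7 + (q : ℤ) ^ 5 - (q : ℤ) ^ 4 + (q : ℤ) := by
    have h36 : q ^ 3 ≤ q ^ 6 := Nat.pow_le_pow_right (by omega) (by omega)
    have e : ((k + j : ℕ) : ℤ) = ((q * (q ^ 6 - q ^ 3 + 1) * (q ^ 4 + 1) : ℕ) : ℤ) := by rw [hk]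
    push_cast [Nat.cast_sub h36] at e
    rw [e]; ring
  intro hd
  rcases hj with rfl | rfl
  · refine not_dvd_of_chk chk1 hq ?_ ((one_mul (ord q)).symm ▸ dvd_ord ?_ hd)
    · simp only [ev]; push_cast at hkz; linear_combination hkz
    · exact ⟨(q ^ 6 - q ^ 3 + 1) * (q ^ 4 + 1), by rw [hk]; ring⟩
  rcases (show q = 2 ∨ q = 3 ∨ 4 ≤ q by omega) with rfl | rfl | h4
  · exact small 2 (by simp) (by rw [← hk, Nat.add_sub_cancel]; exact Nat.mod_eq_zero_of_dvd hd)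
  · exact small 3 (by simp) (by rw [← hk, Nat.add_sub_cancel]; exact Nat.mod_eq_zero_of_dvd hd)
  refine not_dvd_of_chk chk2 hq (k := k) ?_ ?_
  · simp only [ev]; push_cast at hkz; linear_combination hkz
  obtain ⟨U, hU⟩ : ∃ U, k + 2 = q * U := ⟨(q ^ 6 - q ^ 3 + 1) * (q ^ 4 + 1), by rw [hk]; ring⟩
  obtain ⟨p, n, hp, hn, rfl⟩ := (isPrimePow_nat_iff q).1 hpp
  by_cases hp2 : p = 2
  · subst hp2
    have h4' : 4 ∣ 2 ^ n := by
      have : 2 ≤ n := by
        by_contra h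
        rw [show n = 1 by omega] at h4
        norm_num at h4
      exact ⟨2 ^ (n - 2), by rw [show (4 : ℕ) = 2 ^ 2 from rfl, ← pow_add]; congr 1; omega⟩
    obtain ⟨c, hc⟩ : ∃ c, k + 2 = 4 * c := by
      obtain ⟨a, ha⟩ := h4'
      exact ⟨a * U, by rw [hU, ha]; ring⟩
    obtain ⟨k', rfl⟩ : ∃ k', k = 2 * k' := ⟨k / 2, by omega⟩
    have hodd : Nat.Coprime k' (2 ^ n) := by
      refine Nat.Coprime.pow_right _ (Nat.coprime_two_right.2 ?_)
      rw [Nat.odd_iff]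
      omega
    exact Nat.mul_dvd_mul_left 2 ((hodd.pow_right 36).dvd_of_dvd_mul_left ((dvd_mul_left k' 2).trans hd))
  · have hcop : Nat.Coprime k (p ^ n) := by
      refine Nat.Coprime.pow_right _ ((Nat.Prime.coprime_iff_not_dvd hp).2 fun hdk => hp2 ?_).symm
      have : p ∣ 2 := (Nat.dvd_add_right hdk).1 (hU ▸ (dvd_pow_self p (by omega)).mul_right U)
      exact (Nat.prime_dvd_prime_iff_eq hp Nat.prime_two).1 this
    exact ((hcop.pow_right 36).dvd_of_dvd_mul_left hd).mul_left 2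

end Cfsg.Agent.MinDegreeTwE6.Arith
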