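/-
Certificates for the smallest degree of `²E₆(q)`.
-/
import Cfsg.Agent.Lib.Lie.TwE6
import Cfsg.Agent.Lib.MinDegree.Tw.Plan

set_option autoImplicit false
set_option maxRecDepth 20000

namespace Cfsg.Agent.MinDegreeTwE6

open Cfsg.Agent.Chev Cfsg.Agent.TwSpec

/-- the graph automorphism on roots -/
def pf (r : ℕ) : ℕ := E6Data.sym.π.getD r 0

/-- its signs -/
def zf (r : ℕ) : ℤ := E6Data.sym.ζ.getD r 1

/-- positions from a list -/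
def layOf {m : ℕ} (l : List ℕ) (dead : List ℕ) : Lay m := ⟨fun k => l.getD k 0, pf, zf, dead⟩

/-- the maximal abelian subgroup -/
def layY : Lay 11 := layOf [71, 70, 53, 54, 55, 64, 65, 66, 67, 68, 69] []

/-- its part outside the centre -/
def layK : Lay 10 := layOf [70, 53, 54, 55, 64, 65, 66, 67, 68, 69] [71]

/-- the radical modulo its centre -/
def layQ : Lay 20 := layOf [70, 69, 66, 68, 55, 67, 65, 54, 64, 63, 52, 62, 53, 49, 61, 51, 48, 50, 47, 46] [71]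

/-- the key positions of the second radical -/
def layK2 : Lay 5 := layOf [60, 41, 45, 58, 59] []

/-- the second radical -/
def layQ2 : Lay 9 := layOf [60, 45, 59, 41, 58, 44, 40, 43, 39] []

/-- the shifts towards the centre -/
def repsZ : List (Fin 11 × ℕ) := [(1, 46), (2, 63), (3, 62), (4, 61), (6, 51), (7, 50), (10, 47)]

/-- the shifts towards the distinguished root -/
def repsU : List (Fin 11 × ℕ) := [(2, 60), (3, 59), (4, 58), (6, 44), (7, 43), (10, 39)]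

/-- the same on the key of the second radical -/
def repsU2 : List (Fin 5 × ℕ) := [(1, 57), (2, 56)]

/-- the word exchanging the distinguished root and the centre -/
def sw : List ℕ := [1]

/-- the certificate of the first radical -/
def planQ : Plan 20 where
  k0 := 0
  key := [1, 2, 3, 4, 5, 6, 7, 8, 12]
  kills := [(14, 9), (14, 11), (14, 14), (15, 9), (15, 11), (11, 9), (36, 11)]
  cells := [
    ⟨0, [], [], [(12, 60), (7, 59), (4, 58), (6, 44), (2, 43), (1, 39)]⟩,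
    ⟨1, [3], [1], [(12, 60), (7, 59), (4, 58), (6, 44), (2, 43)]⟩,
    ⟨6, [2, 4, 3], [1, 2, 3, 9, 10, 11], [(12, 60), (7, 59), (4, 58), (6, 44)]⟩,
    ⟨9, [3, 2, 4, 3], [1, 2, 3, 6, 9, 10, 11, 13, 14], [(12, 60), (7, 59), (4, 58)]⟩,
    ⟨12, [0, 5, 2, 4, 3], [1, 2, 3, 4, 5, 9, 10, 11, 13, 14, 15, 19], [(12, 60), (7, 59), (6, 44)]⟩,
    ⟨15, [0, 5, 3, 2, 4, 3], [1, 2, 3, 4, 5, 6, 9, 10, 11, 13, 14, 15, 16, 17, 19], [(12, 60), (7, 59)]⟩,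
    ⟨18, [2, 4, 0, 5, 3, 2, 4, 3], [1, 2, 3, 4, 5, 6, 7, 8, 9, 10, 11, 13, 14, 15, 16, 17, 18, 19], [(12, 60)]⟩,
    ⟨19, [3, 2, 4, 0, 5, 3, 2, 4, 3], [1, 2, 3, 4, 5, 6, 7, 8, 9, 10, 11, 12, 13, 14, 15, 16, 17, 18, 19], []⟩]
  pcells := [
    ⟨2, [2, 4, 3, 2, 4, 0, 5, 2, 4], 7, 18, [12], [7, 8, 12, 18], [(4, 58), (6, 44), (2, 43), (1, 39)], 59, 12⟩,
    ⟨4, [0, 5, 2, 4, 3, 2, 4, 0, 5, 2, 4], 7, 18, [12], [7, 8, 12, 18], [(4, 58), (6, 44), (2, 43), (1, 39)], 59, 12⟩,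
    ⟨7, [0, 5, 2, 4, 3, 2, 4, 0, 5], 7, 18, [12], [7, 8, 12, 18], [(4, 58), (6, 44), (2, 43), (1, 39)], 59, 12⟩,
    ⟨10, [0, 5, 2, 4, 3, 2, 4, 0, 5, 3], 7, 18, [12], [7, 8, 12, 18], [(4, 58), (6, 44), (2, 43), (1, 39)], 59, 12⟩,
    ⟨13, [0, 5, 2, 4, 3, 2, 4, 0, 5, 2, 4, 3], 7, 18, [12], [7, 8, 12, 18], [(4, 58), (6, 44), (2, 43), (1, 39)], 59, 12⟩,
    ⟨16, [2, 4, 3, 2, 4, 0, 5, 2, 4, 3], 7, 18, [12], [7, 8, 12, 18], [(4, 58), (6, 44), (2, 43), (1, 39)], 59, 12⟩]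

/-- the certificate of the second radical -/
def planQ2 : Plan 9 where
  k0 := 0
  key := [1, 2, 3, 4]
  kills := [(29, 5), (29, 7), (37, 7)]
  cells := [
    ⟨0, [], [], [(3, 57), (1, 56)]⟩,
    ⟨5, [0, 5], [1, 2, 5, 6, 7], [(3, 57)]⟩,
    ⟨8, [2, 4, 0, 5], [1, 2, 3, 4, 5, 6, 7, 8], []⟩]
  pcells := []

/-- words carrying each orbit to positive roots -/
def posWord : List (ℕ × List ℕ) := [
  (0, [3, 2, 4, 0, 5, 1, 3, 2, 4, 3, 1]),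
  (1, [3, 2, 4, 0, 5, 1, 3, 2, 4, 3]),
  (2, [3, 2, 4, 0, 5, 1, 3, 2, 4]),
  (3, [0, 5, 2, 4, 3, 2, 4, 1, 3, 2, 4, 0, 5]),
  (4, [0, 5, 2, 4, 3, 2, 4, 1, 3, 2, 4]),
  (5, [0, 5, 2, 4, 3, 2, 4, 1, 3, 2, 4, 0, 5]),
  (6, [3, 2, 4, 0, 5, 1, 3]),
  (7, [0, 5, 2, 4, 3, 2, 4, 1, 3]),
  (8, [3, 2, 4, 0, 5, 1]),
  (9, [0, 5, 2, 4, 3, 2, 4, 1]),
  (10, [0, 5, 2, 4, 3, 1]),
  (11, [3, 2, 4, 0, 5]),
  (12, [0, 5, 2, 4, 3, 2, 4]),
  (13, [0, 5, 2, 4, 3]),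
  (14, [0, 5, 2, 4]),
  (15, [0, 5]),
  (16, [0, 5, 2, 4, 3, 2, 4, 1, 3, 2, 4]),
  (17, [0, 5, 2, 4, 3, 2, 4, 1, 3]),
  (18, [3, 2, 4, 1, 3]),
  (19, [0, 5, 2, 4, 3, 2, 4, 1]),
  (20, [3, 2, 4, 1]),
  (21, [2, 4, 3, 1]),
  (22, [0, 5, 2, 4, 3, 1]),
  (23, [2, 4, 3, 1]),
  (24, [3, 1]),
  (25, [1]),
  (26, [0, 5, 2, 4, 3, 2, 4]),
  (27, [3, 2, 4]),
  (28, [2, 4, 3]),
  (29, [2, 4]),
  (30, [0, 5, 2, 4, 3]),
  (31, [2, 4, 3]),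
  (32, [3]),
  (33, [0, 5, 2, 4]),
  (34, [2, 4]),
  (35, [0, 5]),
  (36, []),
  (37, []),
  (38, []),
  (39, []),
  (40, []),
  (41, []),
  (42, []),
  (43, []),
  (44, []),
  (45, []),
  (46, []),
  (47, []),
  (48, []),
  (49, []),
  (50, []),
  (51, []),
  (52, []),
  (53, []),
  (54, []),
  (55, []),
  (56, []),
  (57, []),
  (58, []),
  (59, []),
  (60, []),
  (61, []),
  (62, []),
  (63, []),
  (64, []),
  (65, []),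
  (66, []),
  (67, []),
  (68, []),
  (69, []),
  (70, []),
  (71, [])]

/-- roots of the Levi complement with words from the two seeds -/
def leviWord : List (ℕ × Bool × List ℕ) := [
  (11, false, [0, 5, 2, 4, 3, 2, 4, 0, 5]),
  (12, true, [2, 4, 0, 5, 2, 4, 3, 2, 4, 3]),
  (13, true, [0, 5, 2, 4, 3, 2, 4, 3]),
  (14, true, [0, 5, 2, 4, 3, 2, 4]),
  (15, true, [2, 4, 0, 5, 2, 4, 3, 2, 4]),
  (26, true, [2, 4, 0, 5, 3, 2, 4, 3]),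
  (27, false, [2, 4, 3, 2, 4, 0, 5]),
  (28, true, [2, 4, 3, 2, 4, 3]),
  (29, true, [2, 4, 3, 2, 4]),
  (30, true, [0, 5, 3, 2, 4, 3]),
  (31, true, [3, 2, 4, 3]),
  (32, false, [3, 2, 4, 0, 5]),
  (33, true, [0, 5, 2, 4, 3]),
  (34, true, [2, 4, 3]),
  (35, true, [2, 4, 0, 5, 2, 4, 3]),
  (36, true, [2, 4, 0, 5, 3]),
  (37, true, [3]),
  (38, true, [0, 5, 3]),
  (39, false, [2, 4, 0, 5]),
  (40, true, []),
  (41, true, [0, 5]),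
  (42, true, [3, 2, 4]),
  (43, true, [2, 4]),
  (44, false, [0, 5]),
  (45, true, [2, 4, 0, 5]),
  (56, true, [2, 4, 0, 5, 3, 2, 4]),
  (57, true, [0, 5, 3, 2, 4]),
  (58, true, [0, 5, 2, 4]),
  (59, true, [2, 4, 0, 5, 2, 4]),
  (60, false, [])]

end Cfsg.Agent.MinDegreeTwE6
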