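/-
Root elements of orbits and monomial elements in `²E₆(q)`, and the normaliser of the long root group modulo it.
-/
import Cfsg.Agent.Lib.MinDegree.TwE6Data
import Cfsg.Agent.Lib.MinDegree.Tw.Orbit

set_option autoImplicit false
set_option maxRecDepth 20000

namespace Cfsg.Agent.Heis

open Cfsg.Agent.Chev Cfsg.Agent.Chev.Tab

/-- the image of the root elements under a homomorphism -/
noncomputable def Grp.map {T : Tab} {F G G' : Type*} [Field F] [Group G] [Group G'] (E : Grp T F G) (φ : G →* G') :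
    Grp T F G' where
  S := E.S
  x r := φ.compAddChar (E.x r)
  J := E.J
  w i := φ (E.w i)
  comm r s hr hs hrn hsn h1 h2 t u := by
    simp only [MonoidHom.compAddChar_apply, Function.comp_apply]
    rw [← map_mul, E.comm r s hr hs hrn hsn h1 h2 t u, map_mul, map_mul, map_list_prod, List.map_map]
    rfl
  conj i s hi hs hil hsn t := by
    simp only [MonoidHom.compAddChar_apply, Function.comp_apply]
    rw [← map_inv, ← map_mul, ← map_mul, E.conj i s hi hs hil hsn t]

theorem Grp.map_nw {T : Tab} {F G G' : Type*} [Field F] [Group G] [Group G'] (E : Grp T F G) (φ : G →* G') :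
    ∀ L, (E.map φ).nw L = φ (E.nw L)
  | [] => (map_one φ).symm
  | i :: L => by
    show φ (E.w i) * (E.map φ).nw L = _
    rw [Grp.map_nw E φ L, ← map_mul]
    rfl

end Cfsg.Agent.Heis

namespace Cfsg.Agent.MinDegreeTwE6

open Cfsg.Lie Cfsg.Agent.Chev Cfsg.Agent.Chev.Tab Cfsg.Agent.Heis Cfsg.Agent.TwSpec

/-- the table -/
abbrev tb : Tab := E6Data.tab

/-- all roots -/
def all1 : ℕ → Bool := fun _ => true

/-- the roots commuting with the long root -/
def S1 (r : ℕ) : Bool := com tb all1 71 r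

/-- the reflections fixing the long root -/
def J1 (i : ℕ) : Bool := i != 1

variable {K : Type*} [Field K]

/-- the ambient general linear group -/
abbrev GLK (K : Type*) [Field K] := GL tb.D.Idx K

variable (K) in
/-- root elements and monomial elements -/
noncomputable def gGL : Grp tb K (GLK K) where
  S := all1
  x r :=
    { toFun := xg TwE6.g0 r
      map_zero_eq_one' := xg_zero TwE6.g0 r
      map_add_eq_mul' := fun s t => (xg_add TwE6.g0 r s t).symm }
  J _ := true
  w i := nG TwE6.g0 K i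
  comm r s _ _ hr hs h1 h2 t u := xg_comm TwE6.gA hr hs h1 h2 t u
  conj i s _ _ hi hs t := nG_conj TwE6.g0 hi hs t

theorem gGL_x (r : ℕ) (t : K) : (gGL K).x r t = xg TwE6.g0 r t := rfl

theorem gGL_nw : ∀ L, (gGL K).nw L = nWd TwE6.g0 K L
  | [] => rfl
  | i :: L => by rw [nWd_cons]; exact congrArg _ (gGL_nw L)

variable [Fintype K] {q : ℕ} (hq : IsPrimePow q) (hK : Fintype.card K = q ^ 2)

/-- the field involution -/
noncomputable abbrev frK : K →+* K := TwE6.psi hq hK

include hq hK in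
theorem frK_frK (t : K) : frK hq hK (frK hq hK t) = t := by
  rw [TwE6.psi_apply, TwE6.psi_apply, TwE6.pow_two_q hK]

include hq hK in
theorem card_fix : Nat.card {t : K // frK hq hK t = t} = q := by
  exact (Nat.card_congr (Equiv.subtypeEquivRight fun t => by rw [TwE6.psi_apply])).trans
    (TwField.card_fixed hq.one_lt hK)

include hq hK in
theorem frK_ex : ∃ t, frK hq hK t ≠ t := by
  by_contra h
  push Not at h
  have e := card_fix hq hK
  rw [Nat.card_congr (Equiv.subtypeUnivEquiv (p := fun t => frK hq hK t = t) h), Nat.card_eq_fintype_card, hK] at e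
  have := hq.two_le
  nlinarith

/-- the twisted group -/
noncomputable abbrev tw (K : Type*) [Field K] (q : ℕ) : Subgroup (GLK K) := TwE6.tw K q

/-- the element of an orbit -/
noncomputable def el (b : ℕ) (t : K) : GLK K := orbEl (gGL K) (frK hq hK) b (pf b) (zf b) t

/-- checks of an orbit -/
def elOK (b : ℕ) : Bool :=
  Nat.blt b tb.n && pf (pf b) == b && zf b * zf (pf b) == 1 && com tb all1 b (pf b) && (!(pf b == b) || zf b == 1)

theorem pf_lt {b : ℕ} (hb : b < tb.n) : pf b < tb.n := ((sym_facts tb E6Data.sym E6Data.sym_ok).2.2 b hb).1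

theorem el_fix {b : ℕ} (hb : elOK b = true) {t : K} (ht : (b == pf b) = true → frK hq hK t = t) :
    TwE6.sigma hq hK (el hq hK b t) = el hq hK b t := by
  simp only [elOK, Bool.and_eq_true, beq_iff_eq, nat_blt, Bool.or_eq_true, Bool.not_eq_true', beq_eq_false_iff_ne] at hb
  obtain ⟨⟨⟨⟨hn, hpp⟩, hzz⟩, hcom⟩, hfix⟩ := hb
  have hs : ∀ r, r < tb.n → ∀ u : K, TwE6.sigma hq hK (xg TwE6.g0 r u) =
      xg TwE6.g0 (pf r) ((zf r : K) * frK hq hK u) := fun r hr u => graphσ_xg TwE6.g0 _ _ hr u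
  by_cases h : b = pf b
  · simp only [el, orbEl, ← h, beq_self_eq_true, cond_true, mul_one, gGL_x]
    rw [hs b hn, ← h, hfix.resolve_left (not_not.2 h.symm), Int.cast_one, one_mul, ht (beq_iff_eq.2 h)]
  · simp only [el, orbEl, beq_eq_false_iff_ne.2 h, cond_false, gGL_x]
    rw [map_mul, hs b hn, hs _ (pf_lt hn), map_mul, map_intCast, frK_frK, hpp, ← mul_assoc, ← Int.cast_mul,
      mul_comm (zf (pf b)), hzz, Int.cast_one, one_mul]
    exact ((gGL K).commute hcom _ _).eq.symm

/-- the word is a product of blocks -/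
def isBlk : List ℕ → Bool
  | [] => true
  | 1 :: L => isBlk L
  | 3 :: L => isBlk L
  | 2 :: 4 :: L => isBlk L
  | 0 :: 5 :: L => isBlk L
  | _ => false

include hq hK in
theorem nw_mem : ∀ {L : List ℕ}, isBlk L = true → (gGL K).nw L ∈ tw K q
  | [], _ => one_mem _
  | 1 :: L, h => by
    have := mul_mem (TwE6.n_mem hq hK 0 (by decide)) (nw_mem (L := L) h)
    rw [gGL_nw] at this ⊢
    rwa [← nWd_append] at this
  | 3 :: L, h => by
    have := mul_mem (TwE6.n_mem hq hK 1 (by decide)) (nw_mem (L := L) h)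
    rw [gGL_nw] at this ⊢
    rwa [← nWd_append] at this
  | 2 :: 4 :: L, h => by
    have := mul_mem (TwE6.n_mem hq hK 2 (by decide)) (nw_mem (L := L) h)
    rw [gGL_nw] at this ⊢
    rwa [← nWd_append] at this
  | 0 :: 5 :: L, h => by
    have := mul_mem (TwE6.n_mem hq hK 3 (by decide)) (nw_mem (L := L) h)
    rw [gGL_nw] at this ⊢
    rwa [← nWd_append] at this

/-- the word sends the orbit of `b` to the orbit of `b'` -/
def wOK (w : List ℕ) (b b' : ℕ) : Bool :=
  Grp.wordOK tb all1 all1 w b && Grp.wordOK tb all1 all1 w (pf b) && tb.rw' w b == b' && tb.rw' w (pf b) == pf b' &&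
    (b' == pf b') == (b == pf b) && Grp.wSign tb w (pf b) * zf b == zf b' * Grp.wSign tb w b

theorem nw_el {w : List ℕ} {b b' : ℕ} (h : wOK w b b' = true) (t : K) :
    (gGL K).nw w * el hq hK b t * ((gGL K).nw w)⁻¹ = el hq hK b' ((Grp.wSign tb w b : K) * t) := by
  simp only [wOK, Bool.and_eq_true, beq_iff_eq] at h
  obtain ⟨⟨⟨⟨⟨h1, h2⟩, e1⟩, e2⟩, eb⟩, hsg⟩ := h
  simp only [el, orbEl, eb]
  rcases hb : (b == pf b) with _ | _
  · simp only [cond_false]
    have hh : (Grp.wSign tb w (pf b) : K) * ((zf b : K) * frK hq hK t) =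
        (zf b' : K) * frK hq hK ((Grp.wSign tb w b : K) * t) := by
      rw [map_mul, map_intCast, ← mul_assoc (Grp.wSign tb w (pf b) : K), ← Int.cast_mul, hsg, Int.cast_mul, mul_assoc]
    rw [← conj_mul, (gGL K).nw_conj (L := w) h1, (gGL K).nw_conj (L := w) h2, e1, e2, hh]
  · simp only [cond_true, mul_one]
    rw [(gGL K).nw_conj (L := w) h1, e1]

/-- the roots with their words to positive ones -/
def posOK : Bool :=
  (List.range tb.n).all fun b => !com tb all1 b (pf b) ||
    posWord.any fun e => e.1 == b && elOK b && isBlk e.2 && Grp.wordOK tb all1 all1 e.2 b &&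
      Grp.wordOK tb all1 all1 e.2 (pf b) && Nat.ble tb.N (tb.rw' e.2 b) && Nat.ble tb.N (tb.rw' e.2 (pf b))

theorem posOK_true : posOK = true := by decide +kernel

include hq hK in
/-- the elements of orbits lie in the twisted group -/
theorem el_mem {b : ℕ} (hb : elOK b = true) {t : K} (ht : (b == pf b) = true → frK hq hK t = t) :
    el hq hK b t ∈ tw K q := by
  have hp := posOK_true
  simp only [posOK, List.all_eq_true, List.mem_range, Bool.or_eq_true, Bool.not_eq_true', List.any_eq_true,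
    Bool.and_eq_true, beq_iff_eq, Nat.ble_eq] at hp
  have hb' := hb
  simp only [elOK, Bool.and_eq_true, nat_blt] at hb'
  obtain ⟨e, -, ⟨⟨⟨⟨⟨rfl, -⟩, hblk⟩, hw1⟩, hw2⟩, hp1⟩, hp2⟩ :=
    (hp b hb'.1.1.1.1).resolve_left (by simp [hb'.1.2])
  have hn := nw_mem hq hK hblk
  have hlt : ∀ r, Grp.wordOK tb all1 all1 e.2 r = true → tb.rw' e.2 r < tb.n := by
    intro r hr
    cases he : e.2 with
    | nil =>
      rw [he] at hr
      simp only [Grp.wordOK, Bool.and_eq_true, nat_blt] at hr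
      exact hr.2
    | cons i L =>
      rw [he] at hr
      simp only [Grp.wordOK, Bool.and_eq_true, nat_blt] at hr
      rw [Tab.rw'_cons]
      exact TwE6.g0.ref_lt hr.1.1.2 hr.2
  obtain ⟨x, hx⟩ : ∃ x, x = (gGL K).nw e.2 * el hq hK e.1 t * ((gGL K).nw e.2)⁻¹ := ⟨_, rfl⟩
  have hσ : TwE6.sigma hq hK x = x := by
    rw [hx, map_mul, map_mul, map_inv, (TwE6.twisted_fixed hq hK _ hn).2, el_fix hq hK hb ht]
  have hpos : x ∈ genS TwE6.g0 K (Set.Ico tb.N tb.n) := by
    rw [hx, el, orbEl, ← conj_mul]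
    refine mul_mem ?_ ?_
    · rw [(gGL K).nw_conj (L := e.2) hw1, gGL_x]
      exact xg_mem_genS TwE6.g0 (S := Set.Ico tb.N tb.n) ⟨hp1, hlt _ hw1⟩ _
    · rcases (e.1 == pf e.1) with _ | _
      · simp only [cond_false]
        rw [(gGL K).nw_conj (L := e.2) hw2, gGL_x]
        exact xg_mem_genS TwE6.g0 (S := Set.Ico tb.N tb.n) ⟨hp2, hlt _ hw2⟩ _
      · simp
  have hmem : x ∈ tw K q := (TwE6.X hq hK).pos_fixed_mem hpos hσ
  have e2 : el hq hK e.1 t = ((gGL K).nw e.2)⁻¹ * x * (gGL K).nw e.2 := by rw [hx]; group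
  rw [e2]
  exact mul_mem (mul_mem (inv_mem hn) hmem) hn

/-! ### modulo the long root group -/

variable (K) in
/-- the normaliser of the long root group -/
noncomputable def Cth : Subgroup (GLK K) := Subgroup.normalizer ((((gGL K).x 71).toMonoidHom.range : Subgroup (GLK K)) : Set (GLK K))

omit [Fintype K] in
theorem mem_Cth_of_commute {g : GLK K} (h : ∀ s : K, Commute (xg TwE6.g0 71 s) g) : g ∈ Cth K := by
  rw [Cth, Subgroup.mem_normalizer_iff]
  intro x
  constructor
  · rintro ⟨s, rfl⟩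
    refine ⟨s, ?_⟩
    show xg TwE6.g0 71 (Multiplicative.toAdd s) = g * xg TwE6.g0 71 (Multiplicative.toAdd s) * g⁻¹
    rw [← (h _).eq, mul_inv_cancel_right]
  · rintro ⟨s, hs⟩
    refine ⟨s, ?_⟩
    show xg TwE6.g0 71 (Multiplicative.toAdd s) = x
    have hs' : xg TwE6.g0 71 (Multiplicative.toAdd s) = g * x * g⁻¹ := hs
    have e : g⁻¹ * xg TwE6.g0 71 (Multiplicative.toAdd s) * g = x := by rw [hs']; group
    rw [← e, mul_assoc, (h _).eq, inv_mul_cancel_left]

omit [Fintype K] in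
theorem Cth_conj {g : GLK K} (h : g ∈ Cth K) (s : K) : ∃ s', g * xg TwE6.g0 71 s * g⁻¹ = xg TwE6.g0 71 s' := by
  obtain ⟨s', hs'⟩ := (Subgroup.mem_normalizer_iff.1 h (xg TwE6.g0 71 s)).1 ⟨Multiplicative.ofAdd s, rfl⟩
  exact ⟨Multiplicative.toAdd s', hs'.symm⟩

variable (K) in
/-- the long root group inside its normaliser -/
noncomputable def Nth : Subgroup (Cth K) :=
  ((gGL K).x 71).toMonoidHom.range.subgroupOf (Cth K)

instance : (Nth K).Normal := ⟨fun n hn g => by
  simp only [Nth, Subgroup.mem_subgroupOf, Subgroup.coe_mul, InvMemClass.coe_inv] at hn ⊢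
  exact (Subgroup.mem_normalizer_iff.1 g.2 _).1 hn⟩

theorem S1_clos : clos tb S1 = true := by decide +kernel

theorem J1_ok : ∀ i : Fin tb.l, J1 i = true → tb.ref i 71 = 71 ∧ tb.eta i 71 = 1 ∧
    ∀ s : Fin tb.n, S1 s = true → S1 (tb.ref i s) = true := by decide +kernel

omit [Fintype K] in
theorem x_mem_Cth {r : ℕ} (hr : S1 r = true) (t : K) : (gGL K).x r t ∈ Cth K :=
  mem_Cth_of_commute fun s => (gGL K).commute hr s t

omit [Fintype K] in
theorem w_mem_Cth {i : ℕ} (hi : J1 i = true) (hl : i < tb.l) : (gGL K).w i ∈ Cth K := by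
  refine mem_Cth_of_commute fun s => ?_
  obtain ⟨h1, h2, -⟩ := J1_ok ⟨i, hl⟩ hi
  have e := (gGL K).conj i 71 rfl rfl hl (by decide +kernel) s
  simp only [h1, h2, Int.cast_one, one_mul, mul_inv_eq_iff_eq_mul] at e
  exact e.symm

variable (K) in
/-- root elements of the normaliser -/
noncomputable def gC : Grp tb K (Cth K) :=
  (gGL K).restrict (Cth K) S1 J1 (fun _ _ _ => rfl) S1_clos (fun _ hr t => x_mem_Cth hr t) fun i hi hl =>
    ⟨rfl, w_mem_Cth hi hl, fun s hs hn => (J1_ok ⟨i, hl⟩ hi).2.2 ⟨s, hn⟩ hs⟩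

variable (K) in
/-- root elements modulo the long root group -/
noncomputable def gQ : Grp tb K (Cth K ⧸ Nth K) := (gC K).map (QuotientGroup.mk' (Nth K))

omit [Fintype K] in
theorem gQ_S : (gQ K).S = S1 := rfl

omit [Fintype K] in
theorem gQ_J : (gQ K).J = J1 := rfl

omit [Fintype K] in
theorem gQ_x {r : ℕ} (hr : S1 r = true) (t : K) :
    (gQ K).x r t = QuotientGroup.mk' (Nth K) ⟨_, x_mem_Cth hr t⟩ := by
  show QuotientGroup.mk' (Nth K) ((gC K).x r t) = _
  congr 1
  exact Subtype.ext (Grp.restrict_x _ _ _ _ _ _ _ _ hr t)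

omit [Fintype K] in
theorem gQ_dead (r : ℕ) (hr : r ∈ [71]) (u : K) : (gQ K).x r u = 1 := by
  obtain rfl := List.mem_singleton.1 hr
  rw [gQ_x (show S1 71 = true by decide +kernel), QuotientGroup.mk'_apply, QuotientGroup.eq_one_iff]
  exact ⟨Multiplicative.ofAdd u, rfl⟩

omit [Fintype K] in
theorem gC_nw : ∀ {L : List ℕ}, (∀ i ∈ L, J1 i = true ∧ i < tb.l) →
    (((gC K).nw L : Cth K) : GLK K) = (gGL K).nw L
  | [], _ => rfl
  | i :: L, h => by
    classical
    obtain ⟨hi, hl⟩ := h i List.mem_cons_self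
    show ((((if h' : (gGL K).w i ∈ Cth K then ⟨_, h'⟩ else 1) : Cth K) * (gC K).nw L : Cth K) : GLK K) = _
    rw [dif_pos (w_mem_Cth hi hl), Subgroup.coe_mul, gC_nw fun j hj => h j (List.mem_cons_of_mem _ hj)]
    rfl

variable (K q) in
/-- the elements of the twisted group normalising the long root group -/
noncomputable abbrev Hc : Subgroup (tw K q) := (Cth K).subgroupOf (tw K q)

variable (K q) in
/-- reduction modulo the long root group -/
noncomputable def iQ : Hc K q →* Cth K ⧸ Nth K :=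
  (QuotientGroup.mk' (Nth K)).comp
    { toFun := fun h => ⟨((h : tw K q) : GLK K), h.2⟩, map_one' := rfl, map_mul' := fun _ _ => rfl }

omit [Fintype K] in
theorem iQ_apply (h : Hc K q) : iQ K q h = QuotientGroup.mk' (Nth K) ⟨((h : tw K q) : GLK K), h.2⟩ := rfl

include hq hK in
theorem el_Q {b : ℕ} (hb : elOK b = true) (h1 : S1 b = true) (h2 : S1 (pf b) = true) {t : K}
    (ht : (b == pf b) = true → frK hq hK t = t) :
    ∃ h : Hc K q, ((h : tw K q) : GLK K) = el hq hK b t ∧ iQ K q h = orbEl (gQ K) (frK hq hK) b (pf b) (zf b) t := by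
  have hC : el hq hK b t ∈ Cth K := by
    refine mul_mem (x_mem_Cth h1 _) ?_
    rcases (b == pf b) with _ | _
    · exact x_mem_Cth h2 _
    · exact one_mem _
  refine ⟨⟨⟨_, el_mem hq hK hb ht⟩, hC⟩, rfl, ?_⟩
  rw [iQ_apply, orbEl, gQ_x h1]
  rcases hbb : (b == pf b) with _ | _
  · rw [cond_false, gQ_x h2, ← map_mul]
    refine congrArg _ (Subtype.ext ?_)
    simp [el, orbEl, hbb]
  · rw [cond_true, mul_one]
    refine congrArg _ (Subtype.ext ?_)
    simp [el, orbEl, hbb]

include hq hK in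
theorem nw_Q {L : List ℕ} (hL : isBlk L = true) (hJ : ∀ i ∈ L, J1 i = true ∧ i < tb.l) :
    ∃ h : Hc K q, ((h : tw K q) : GLK K) = (gGL K).nw L ∧ iQ K q h = (gQ K).nw L := by
  have hC : (gGL K).nw L ∈ Cth K := by
    rw [← gC_nw hJ]
    exact ((gC K).nw L).2
  refine ⟨⟨⟨_, nw_mem hq hK hL⟩, hC⟩, rfl, ?_⟩
  rw [iQ_apply, gQ, Grp.map_nw]
  exact congrArg _ (Subtype.ext (gC_nw hJ).symm)

omit [Fintype K] in
theorem iQ_eq_one {h : Hc K q} (he : iQ K q h = 1) : ∃ s : K, ((h : tw K q) : GLK K) = xg TwE6.g0 71 s := by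
  rw [iQ_apply, QuotientGroup.mk'_apply, QuotientGroup.eq_one_iff] at he
  obtain ⟨s, hs⟩ := he
  exact ⟨Multiplicative.toAdd s, hs.symm⟩

include hq hK in
theorem th_fix {s : K} (hs : xg TwE6.g0 71 s ∈ tw K q) : frK hq hK s = s := by
  have h := (TwE6.twisted_fixed hq hK _ hs).2
  have h71 : pf 71 = 71 ∧ zf 71 = 1 ∧ 71 < tb.n := by decide +kernel
  have e : TwE6.sigma hq hK (xg TwE6.g0 71 s) = xg TwE6.g0 (pf 71) ((zf 71 : K) * frK hq hK s) :=
    graphσ_xg TwE6.g0 _ _ h71.2.2 s
  rw [h, h71.1, h71.2.1, Int.cast_one, one_mul] at e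
  exact (xg_injective TwE6.g0 h71.2.2 e).symm

end Cfsg.Agent.MinDegreeTwE6
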