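/-
Checks of the certificates for `²E₆(q)`.
-/
import Cfsg.Agent.Lib.MinDegree.TwE6Group

set_option autoImplicit false
set_option maxRecDepth 20000

namespace Cfsg.Agent.MinDegreeTwE6

open Cfsg.Agent.Chev Cfsg.Agent.Chev.Tab Cfsg.Agent.Heis Cfsg.Agent.TwSpec

/-! ### the certificates -/

/-- the long root -/
def layT : Lay 1 := layOf [71] []

/-- the distinguished root -/
def layR : Lay 1 := layOf [70] []

theorem chkT : layT.chk tb all1 = true := by decide +kernel
theorem chkR : layR.chk tb all1 = true := by decide +kernel
theorem chkY : layY.chk tb all1 = true := by decide +kernel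
theorem chkK : layK.chk tb S1 = true := by decide +kernel
theorem chkQ : layQ.chk tb S1 = true := by decide +kernel
theorem chkK2 : layK2.chk tb S1 = true := by decide +kernel
theorem chkQ2 : layQ2.chk tb S1 = true := by decide +kernel
theorem injY : Function.Injective layY.q := by decide +kernel
theorem injK : Function.Injective layK.q := by decide +kernel
theorem injQ : Function.Injective layQ.q := by decide +kernel
theorem injK2 : Function.Injective layK2.q := by decide +kernel
theorem injQ2 : Function.Injective layQ2.q := by decide +kernel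
theorem chkPlanQ : planQ.chk layQ tb S1 J1 = true := by decide +kernel
theorem chkExQ : planQ.exhaust layQ = true := by decide +kernel
theorem chkPlanQ2 : planQ2.chk layQ2 tb S1 J1 = true := by decide +kernel

theorem elOK_lists : ((List.finRange 1).all fun k => elOK (layT.q k) && elOK (layR.q k)) &&
    ((List.finRange 11).all fun k => elOK (layY.q k)) &&
    (((List.finRange 20).map layQ.q) ++ ((List.finRange 9).map layQ2.q) ++ ((List.finRange 10).map layK.q) ++
      ((List.finRange 5).map layK2.q) ++ planQ.roots ++ planQ2.roots ++ repsU2.map Prod.snd ++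
      leviWord.map Prod.fst).all (fun b => elOK b && S1 b && S1 (pf b)) &&
    (repsZ.map Prod.snd ++ repsU.map Prod.snd).all elOK = true := by decide +kernel

/-- the roots used modulo the long root group -/
def qRoot (b : ℕ) : Bool := elOK b && S1 b && S1 (pf b)

theorem qRoot_of_mem {b : ℕ} (h : b ∈ ((List.finRange 20).map layQ.q) ++ ((List.finRange 9).map layQ2.q) ++
    ((List.finRange 10).map layK.q) ++ ((List.finRange 5).map layK2.q) ++ planQ.roots ++ planQ2.roots ++
      repsU2.map Prod.snd ++ leviWord.map Prod.fst) :
    qRoot b = true := by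
  have h' := elOK_lists
  simp only [Bool.and_eq_true, List.all_eq_true] at h'
  simp only [qRoot, Bool.and_eq_true]
  exact h'.1.2 b h

theorem words_ok : ((planQ.words ++ planQ2.words ++ [[3]] ++ leviWord.map fun e : ℕ × Bool × List ℕ => e.2.2).all fun w =>
    isBlk w && w.all (fun i => J1 i && Nat.blt i tb.l) && layQ.wdOK tb S1 J1 w) = true := by decide +kernel

theorem roots_ok : ((planQ.roots ++ planQ2.roots ++ repsU2.map Prod.snd ++ leviWord.map Prod.fst ++
    (List.finRange 9).map layQ2.q ++ (List.finRange 5).map layK2.q).all fun b => layQ.rootOK tb S1 b) = true := by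
  decide +kernel

theorem chkReachZ : reachOK layY.tau 0 [1, 2, 3, 4, 5, 6, 7, 8, 9, 10] [] (layY.mvs tb all1 repsZ) = true := by
  decide +kernel

theorem chkReachU : reachOK layY.tau 1 [2, 3, 4, 5, 6, 7, 8, 9, 10] [0] (layY.mvs tb all1 repsU) = true := by
  decide +kernel

theorem chkReach2 : reachOK layK2.tau 0 [1, 2, 3, 4] [] (layK2.mvs tb S1 repsU2) = true := by decide +kernel

theorem chkRootY : ((repsZ ++ repsU).all fun r => layY.rootOK tb all1 r.2) = true := by decide +kernel

theorem chkRootK2 : (repsU2.all fun r => layK2.rootOK tb S1 r.2) = true := by decide +kernel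

theorem freeQ : planQ.cells.map (fun c => (freeSet planQ.key c.A).card) = [9, 8, 6, 5, 4, 3, 1, 0] := by
  decide +kernel

theorem freeQ2 : planQ2.cells.map (fun c => (freeSet planQ2.key c.A).card) = [4, 2, 0] := by decide +kernel

end Cfsg.Agent.MinDegreeTwE6
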