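/-
The three levels of the computation of the smallest degree of `²E₆(q)`.
-/
import Cfsg.Agent.Lib.MinDegree.TwE6Checks

set_option autoImplicit false
set_option maxRecDepth 20000

namespace Cfsg.Agent.MinDegreeTwE6

open LinearMap Module Cfsg.Lie Cfsg.Agent.Chev Cfsg.Agent.Chev.Tab Cfsg.Agent.Heis Cfsg.Agent.TwSpec

/-! ### the first system -/

variable {K : Type*} [Field K] [Fintype K] [DecidableEq K] {q : ℕ} (hq : IsPrimePow q)
  (hK : Fintype.card K = q ^ 2)

/-- the structure of a layout -/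
noncomputable abbrev frOf {m : ℕ} {D : Lay m} {S : ℕ → Bool} (h : D.chk tb S = true) : Fr K m :=
  D.toFr tb S h (frK hq hK) (frK_frK hq hK) (frK_ex hq hK)

theorem ok_of_fixed {m : ℕ} {D : Lay m} {S : ℕ → Bool} (h : D.chk tb S = true) (hπ : D.π = pf)
    (hinj : Function.Injective D.q) {k : Fin m} {t : K} (hok : (frOf hq hK h).Ok k t)
    (hb : (D.q k == pf (D.q k)) = true) : frK hq hK t = t :=
  hok (hinj ((Lay.q_tau h k).trans (by rw [hπ]; exact (beq_iff_eq.1 hb).symm)))

variable {W : Type*} [AddCommGroup W] [Module ℂ W] (f : tw K q →* Module.End ℂ W)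

/-- positions outside the quotient -/
noncomputable def sysGL {m : ℕ} (l : List ℕ) (h : (layOf (m := m) l []).chk tb all1 = true)
    (hinj : Function.Injective (layOf (m := m) l []).q)
    (hel : ∀ k, elOK ((layOf (m := m) l []).q k) = true) :
    Sys (frOf hq hK h) (GLK K) (tw K q) W :=
  Sys.ofLay (gGL K) _ rfl rfl (Lay.q_tau h) hinj (Lay.comm h (gGL K) rfl (fun r hr => by simp [layOf] at hr))
    (tw K q).subtype f (fun g hg => by rw [show g = 1 from Subtype.ext hg, map_one])
    fun k t hok => ⟨⟨_, el_mem hq hK (hel k) (ok_of_fixed hq hK h rfl hinj hok)⟩, rfl⟩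

/-- the maximal abelian subgroup -/
noncomputable def sY : Sys (frOf hq hK chkY) (GLK K) (tw K q) W :=
  sysGL hq hK f _ chkY injY fun k => by
    have h := elOK_lists
    simp only [Bool.and_eq_true, List.all_eq_true, List.mem_finRange, forall_const] at h
    exact h.1.1.2 k

/-- the long root group -/
noncomputable def sT : Sys (frOf hq hK chkT) (GLK K) (tw K q) W :=
  sysGL hq hK f _ chkT (Function.injective_of_subsingleton _) fun k => by
    have h := elOK_lists
    simp only [Bool.and_eq_true, List.all_eq_true, List.mem_finRange, forall_const] at h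
    exact (h.1.1.1 k).1

/-- the root group of the distinguished root -/
noncomputable def sR : Sys (frOf hq hK chkR) (GLK K) (tw K q) W :=
  sysGL hq hK f _ chkR (Function.injective_of_subsingleton _) fun k => by
    have h := elOK_lists
    simp only [Bool.and_eq_true, List.all_eq_true, List.mem_finRange, forall_const] at h
    exact (h.1.1.1 k).2

theorem sY_hy (k : Fin 11) : (sY hq hK f).y k = (gGL K).x (layY.q k) := rfl

variable (ψ : AddChar K ℂ)

/-- the projection on the fixed space of the long root group -/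
noncomputable def e1 : Module.End ℂ W := ReeRep.proj (sT hq hK f).R ((frOf hq hK chkT).chi ψ 0)

/-- the fixed space of the long root group -/
noncomputable abbrev W1 : Submodule ℂ W := range (e1 hq hK f ψ)

variable {f ψ}

theorem chi_zero {m : ℕ} (P : Fr K m) (v : P.Vs) : P.chi ψ 0 v = 1 := by
  simp [Fr.chi_apply, Fr.pair]

theorem T_single {s : K} (hs : frK hq hK s = s) : (fun _ : Fin 1 => s) ∈ (frOf hq hK chkT).Vs := by
  intro i
  show s = ((layT.sgn i : ℤ) : K) * frK hq hK s
  rw [hs, show layT.sgn i = 1 from by revert i; decide +kernel, Int.cast_one, one_mul]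

theorem T_Y (v : Fin 1 → K) : (sT hq hK f).Y v = xg TwE6.g0 71 (v 0) := by
  conv_lhs => rw [show v = Pi.single 0 (v 0) from funext fun i => by rw [Subsingleton.elim i 0, Pi.single_eq_same]]
  rw [Sys.Y_single]
  rfl

theorem mem_W1_iff (x : W) :
    x ∈ W1 hq hK f ψ ↔ ∀ g : tw K q, (∃ s, ((g : GLK K)) = xg TwE6.g0 71 s) → f g x = x := by
  rw [W1, e1, Heis.mem_range_proj]
  constructor
  · rintro h g ⟨s, hs⟩
    have hfix := th_fix hq hK (hs ▸ g.2)
    have e := h ⟨_, T_single hq hK hfix⟩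
    rw [chi_zero, one_smul, (sT hq hK f).R_eq (h := g) (by rw [T_Y]; exact hs)] at e
    exact e
  · intro h v
    obtain ⟨g, hg⟩ := (sT hq hK f).mem v v.2
    rw [chi_zero, one_smul, (sT hq hK f).R_eq hg]
    exact h g ⟨_, hg.trans (T_Y hq hK (f := f) _)⟩

theorem Hc_commute (h : Hc K q) : Commute (f (h : tw K q)) (e1 hq hK f ψ) := by
  have hex : ∀ s, ∃ s', ((h : tw K q) : GLK K) * xg TwE6.g0 71 s * ((h : tw K q) : GLK K)⁻¹ = xg TwE6.g0 71 s' :=
    Cth_conj h.2
  choose α hα using hex
  have hinj : Function.Injective (xg (F := K) TwE6.g0 71) :=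
    xg_injective TwE6.g0 (show 71 < tb.n by decide +kernel)
  have hadd : ∀ s t, α (s + t) = α s + α t := fun s t => hinj (by
    rw [← hα, ← xg_add TwE6.g0 71 s t, ← xg_add TwE6.g0 71 (α s) (α t), ← hα, ← hα]
    group)
  let A : (Fin 1 → K) →+ (Fin 1 → K) := AddMonoidHom.mk' (fun v _ => α (v 0)) fun v w => funext fun _ => hadd _ _
  refine (sT hq hK f).commute_proj (h := (h : tw K q)) (A := A) (fun v => ?_) (fun v hv => ?_) fun v w e => ?_
  · rw [T_Y, T_Y]
    exact hα _
  · refine T_single hq hK (th_fix hq hK ?_)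
    rw [← hα]
    obtain ⟨g, hg⟩ := (sT hq hK f).mem v hv
    have hg' : xg TwE6.g0 71 (v 0) = (g : GLK K) := (T_Y hq hK (f := f) v).symm.trans hg.symm
    rw [hg']
    exact mul_mem (mul_mem (h : tw K q).2 g.2) (inv_mem (h : tw K q).2)
  · funext i
    rw [Subsingleton.elim i 0]
    have e' : α (v 0) = α (w 0) := congrFun e 0
    refine hinj ?_
    have := congrArg (xg TwE6.g0 71) e'
    rw [← hα, ← hα] at this
    exact mul_left_cancel (mul_right_cancel this)

variable (f ψ) in
/-- the action of the normaliser on the fixed space -/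
noncomputable def f1 : Hc K q →* Module.End ℂ (W1 hq hK f ψ) :=
  (onRange f (e1 hq hK f ψ)).comp
    { toFun := fun h => ⟨(h : tw K q), Hc_commute hq hK h⟩, map_one' := rfl, map_mul' := fun _ _ => rfl }

theorem f1_val (h : Hc K q) (x : W1 hq hK f ψ) :
    ((f1 hq hK f ψ h x : W1 hq hK f ψ) : W) = f (h : tw K q) (x : W) := rfl

theorem f1_ker (h : Hc K q) (he : iQ K q h = 1) : f1 hq hK f ψ h = 1 := by
  obtain ⟨s, hs⟩ := iQ_eq_one he
  exact LinearMap.ext fun x => Subtype.ext ((mem_W1_iff hq hK (x : W)).1 x.2 _ ⟨s, hs⟩)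

variable (f ψ) in
/-- positions in the quotient -/
noncomputable def sysQ {m : ℕ} (l dead : List ℕ) (h : (layOf (m := m) l dead).chk tb S1 = true)
    (hdead : ∀ r ∈ dead, r ∈ [71]) (hinj : Function.Injective (layOf (m := m) l dead).q)
    (hel : ∀ k, qRoot ((layOf (m := m) l dead).q k) = true) :
    Sys (frOf hq hK h) (Cth K ⧸ Nth K) (Hc K q) (W1 hq hK f ψ) :=
  Sys.ofLay (gQ K) _ rfl rfl (Lay.q_tau h) hinj (Lay.comm h (gQ K) rfl (fun r hr => gQ_dead r (hdead r hr)))
    (iQ K q) (f1 hq hK f ψ) (f1_ker hq hK) fun k t hok => by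
      have hk := hel k
      simp only [qRoot, Bool.and_eq_true] at hk
      obtain ⟨g, -, hg⟩ := el_Q hq hK hk.1.1 hk.1.2 hk.2 (ok_of_fixed hq hK h rfl hinj hok)
      exact ⟨g, hg⟩

variable (f ψ) in
/-- the radical on the fixed space of the long root group -/
noncomputable def sQ : Sys (frOf hq hK chkQ) (Cth K ⧸ Nth K) (Hc K q) (W1 hq hK f ψ) :=
  sysQ hq hK f ψ _ _ chkQ (fun _ h => h) injQ fun k => qRoot_of_mem (by
    simp only [List.mem_append, List.mem_map, List.mem_finRange, true_and]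
    exact Or.inl (Or.inl (Or.inl (Or.inl (Or.inl (Or.inl (Or.inl ⟨k, rfl⟩)))))))

variable (f ψ) in
/-- its key positions -/
noncomputable def sK : Sys (frOf hq hK chkK) (Cth K ⧸ Nth K) (Hc K q) (W1 hq hK f ψ) :=
  sysQ hq hK f ψ _ _ chkK (fun _ h => h) injK fun k => qRoot_of_mem (by
    simp only [List.mem_append, List.mem_map, List.mem_finRange, true_and]
    exact Or.inl (Or.inl (Or.inl (Or.inl (Or.inl (Or.inr ⟨k, rfl⟩))))))

theorem sQ_conj {b : ℕ} (hok : layQ.rootOK tb S1 b = true) {t : K} {g : Hc K q}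
    (hg : iQ K q g = orbEl (gQ K) (frK hq hK) b (pf b) (zf b) t) :
    (sQ hq hK f ψ).Conj g ((layQ.mvOf tb S1 b).mv (frOf hq hK chkQ) t) :=
  TwSpec.conj_orb (T := tb) (P := frOf hq hK chkQ) (sQ hq hK f ψ) (gQ K) (q := layQ.q) (dead := layQ.dead)
    (fun _ => rfl) (fun r hr => gQ_dead r hr) hok hg

end Cfsg.Agent.MinDegreeTwE6
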