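/-
Multiplicities on the maximal abelian subgroup and on the key positions modulo the long root group.
-/
import Cfsg.Agent.Lib.MinDegree.TwE6Levels

set_option autoImplicit false
set_option maxRecDepth 20000

namespace Cfsg.Agent.MinDegreeTwE6

open LinearMap Module Cfsg.Lie Cfsg.Agent.Chev Cfsg.Agent.Chev.Tab Cfsg.Agent.Heis Cfsg.Agent.TwSpec

variable {K : Type*} [Field K] [Fintype K] [DecidableEq K] {q : ℕ} (hq : IsPrimePow q)
  (hK : Fintype.card K = q ^ 2)

/-! ### tori -/

/-- the parameters of a scaling of the long root -/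
noncomputable def cOf (u : Kˣ) : ℕ → Kˣ := Pi.mulSingle 1 u

omit [Fintype K] [DecidableEq K] in
theorem wt_cOf (u : Kˣ) (r : ℕ) : wt tb K (cOf u) r = u ^ tb.A 1 r := by
  rw [cOf, wt_single TwE6.g0 (show 1 < tb.l by decide +kernel)]

include hq hK in
omit [DecidableEq K] in
theorem tor_tw {u : Kˣ} (hu : frK hq hK (u : K) = u) : tor tb K (cOf u) ∈ tw K q :=
  TwE6.fix_mem hq hK (TwE6.single_mid_fix (Or.inl rfl)
    (Units.ext (by rw [Units.val_pow_eq_pow_val, ← TwE6.psi_apply hq hK]; exact hu)))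

omit [Fintype K] [DecidableEq K] in
theorem tor_conj (u : Kˣ) {r : ℕ} (hr : r < tb.n) (t : K) :
    tor tb K (cOf u) * xg TwE6.g0 r t * (tor tb K (cOf u))⁻¹ = xg TwE6.g0 r (((u ^ tb.A 1 r : Kˣ) : K) * t) := by
  rw [tor_xg TwE6.g0 _ hr, wt_cOf]

omit [Fintype K] [DecidableEq K] in
theorem tor_Cth (u : Kˣ) : tor tb K (cOf u) ∈ Cth K := by
  have h71 : 71 < tb.n := by decide +kernel
  rw [Cth, Subgroup.mem_normalizer_iff]
  intro x
  obtain ⟨c, hc⟩ : ∃ c : Kˣ, c = u ^ tb.A 1 71 := ⟨_, rfl⟩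
  constructor
  · rintro ⟨s, rfl⟩
    refine ⟨Multiplicative.ofAdd ((c : K) * Multiplicative.toAdd s), ?_⟩
    show xg TwE6.g0 71 ((c : K) * Multiplicative.toAdd s) = tor tb K (cOf u) * xg TwE6.g0 71 (Multiplicative.toAdd s) * _
    rw [tor_conj u h71, hc]
  · rintro ⟨s, hs⟩
    refine ⟨Multiplicative.ofAdd (((c⁻¹ : Kˣ) : K) * Multiplicative.toAdd s), ?_⟩
    show xg TwE6.g0 71 (((c⁻¹ : Kˣ) : K) * Multiplicative.toAdd s) = x
    have hs' : xg TwE6.g0 71 (Multiplicative.toAdd s) = tor tb K (cOf u) * x * (tor tb K (cOf u))⁻¹ := hs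
    have e := tor_conj (K := K) u h71 (((c⁻¹ : Kˣ) : K) * Multiplicative.toAdd s)
    rw [← hc, Units.mul_inv_cancel_left, hs'] at e
    exact mul_left_cancel (mul_right_cancel e)

/-- the scaling of positions by a torus element -/
noncomputable def tMo {m : ℕ} (D : Lay m) (u : Kˣ) : Mo K m := ⟨_root_.id, fun k => ((u ^ tb.A 1 (D.q k) : Kˣ) : K)⟩

/-- the exponents are symmetrical -/
def expOK {m : ℕ} (D : Lay m) : Bool := (List.finRange m).all fun k => tb.A 1 (D.q (D.tau k)) == tb.A 1 (D.q k)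

theorem chkExpY : expOK layY = true := by decide +kernel
theorem chkExpQ : expOK layQ = true := by decide +kernel
theorem chkExpK2 : expOK layK2 = true := by decide +kernel

theorem tMo_compat {m : ℕ} {D : Lay m} {S : ℕ → Bool} (h : D.chk tb S = true) (he : expOK D = true) {u : Kˣ}
    (hu : frK hq hK (u : K) = u) : (tMo D u).Compat (frOf hq hK h) := by
  refine ⟨Function.bijective_id, fun k => Units.ne_zero _, fun k => rfl, fun k => ?_⟩
  simp only [expOK, List.all_eq_true, List.mem_finRange, forall_const, beq_iff_eq] at he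
  show ((u ^ tb.A 1 (D.q (D.tau k)) : Kˣ) : K) * (D.sgn k : K) =
    (D.sgn k : K) * frK hq hK ((u ^ tb.A 1 (D.q k) : Kˣ) : K)
  rw [he k, Units.val_zpow_eq_zpow_val, map_zpow₀, hu, mul_comm]

omit [Fintype K] [DecidableEq K] in
theorem tMo_single {m : ℕ} (D : Lay m) (u : Kˣ) (k : Fin m) (v : K) :
    (tMo D u).mv (Pi.single k v) = Pi.single k (((u ^ tb.A 1 (D.q k) : Kˣ) : K) * v) := by
  simp only [Mo.mv, AddMonoidHom.coe_mk, ZeroHom.coe_mk]
  rw [Finset.sum_eq_single k (fun k' _ hk' => by simp [Pi.single_eq_of_ne hk']) (by simp), Pi.single_eq_same]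
  rfl

/-! ### maps of positions -/

theorem frOf_fr {m : ℕ} {D : Lay m} {S : ℕ → Bool} (h : D.chk tb S = true) :
    (frOf hq hK h).fr = frK hq hK := rfl

omit [Fintype K] [DecidableEq K] in
theorem emb_of {m m' : ℕ} {D : Lay m} {D' : Lay m'} (e : Fin m' → Fin m)
    (h : ((List.finRange m').all fun j => D.tau (e j) == e (D'.tau j) && D.sgn (e j) == D'.sgn j &&
      (List.finRange m').all fun i => i == j || e i != e j) = true)
    {P : Fr K m} {P' : Fr K m'} (hfr : P'.fr = P.fr) (hτ : P.τ = D.tau) (hτ' : P'.τ = D'.tau) (hz : P.z = D.sgn)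
    (hz' : P'.z = D'.sgn) : P.Emb P' e := by
  simp only [Bool.and_eq_true, List.all_eq_true, List.mem_finRange, forall_const, beq_iff_eq, Bool.or_eq_true,
    bne_iff_ne] at h
  refine ⟨fun i j hij => ((h j).2 i).resolve_right fun hne => hne hij, hfr, fun j => ?_, fun j => ?_⟩
  · rw [hτ, hτ']; exact (h j).1.1.symm
  · rw [hz, hz']; exact (h j).1.2

theorem emb0 : (frOf (K := K) hq hK chkY).Emb (frOf hq hK chkT) (fun _ => (0 : Fin 11)) :=
  emb_of (D := layY) (D' := layT) (fun _ => (0 : Fin 11)) (by decide +kernel)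
    ((frOf_fr hq hK _).trans (frOf_fr hq hK _).symm) rfl rfl rfl rfl

theorem emb1 : (frOf (K := K) hq hK chkY).Emb (frOf hq hK chkR) (fun _ => (1 : Fin 11)) :=
  emb_of (D := layY) (D' := layR) (fun _ => (1 : Fin 11)) (by decide +kernel)
    ((frOf_fr hq hK _).trans (frOf_fr hq hK _).symm) rfl rfl rfl rfl

theorem embK : (frOf (K := K) hq hK chkY).Emb (frOf hq hK chkK) Fin.succ :=
  emb_of (D := layY) (D' := layK) Fin.succ (by decide +kernel)
    ((frOf_fr hq hK _).trans (frOf_fr hq hK _).symm) rfl rfl rfl rfl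

/-! ### counting -/

theorem card_slice {m : ℕ} (P : Fr K m) (hF : Nat.card {t : K // P.fr t = t} = q) (hK : Fintype.card K = q ^ 2)
    {D : Fin m → K} (hD : D ∈ P.Vs) (S : Finset (Fin m)) (hS : ∀ i ∈ S, P.τ i ∈ S) :
    ((Finset.univ : Finset P.Vs).filter fun L : P.Vs => ∀ i ∈ S, (L : Fin m → K) i = D i).card =
      q ^ (m - S.card) := by
  classical
  rw [show m - S.card = Sᶜ.card by rw [Finset.card_compl, Fintype.card_fin], ← P.card_sup hK hF Sᶜ ?_, ← Nat.card_eq_finsetCard]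
  · exact Nat.card_congr
      { toFun := fun L => ⟨(L.1 : Fin m → K) - D, sub_mem L.1.2 hD, fun i hi => by
          rw [Finset.mem_compl, not_not] at hi
          simp [(Finset.mem_filter.1 L.2).2 i hi]⟩
        invFun := fun L => ⟨⟨L.1 + D, add_mem L.2.1 hD⟩, Finset.mem_filter.2 ⟨Finset.mem_univ _, fun i hi => by
          simp [L.2.2 i (by rw [Finset.mem_compl, not_not]; exact hi)]⟩⟩
        left_inv := fun L => Subtype.ext (Subtype.ext (sub_add_cancel _ _))
        right_inv := fun L => Subtype.ext (add_sub_cancel_right _ _) }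
  · intro i hi
    rw [Finset.mem_compl] at hi ⊢
    exact fun h => hi (by rw [← P.τ_τ i]; exact hS _ h)

/-! ### the maximal abelian subgroup -/

variable {W : Type*} [AddCommGroup W] [Module ℂ W] [FiniteDimensional ℂ W] {f : tw K q →* Module.End ℂ W}
  {ψ : AddChar K ℂ}

variable (f ψ) in
/-- the common multiplicity -/
noncomputable def mY : ℕ := (frOf hq hK chkY).mu ψ (sY hq hK f).R ((frOf hq hK chkY).orbV 0 1)

theorem usableY {b : ℕ} (hb : b ∈ repsZ.map Prod.snd ++ repsU.map Prod.snd) :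
    Usable (frOf hq hK chkY) ((frOf hq hK chkY).mu ψ (sY hq hK f).R) (layY.mvOf tb all1 b) := by
  have hel : elOK b = true := by
    exact List.all_eq_true.1 (of_decide_eq_true (Bool.and_eq_true_iff.1 elOK_lists).2) b hb
  have hok : layY.rootOK tb all1 b = true := by
    have h := chkRootY
    simp only [List.all_eq_true] at h
    simp only [List.mem_append, List.mem_map] at hb
    rcases hb with ⟨r, hr, rfl⟩ | ⟨r, hr, rfl⟩
    · exact h r (List.mem_append_left _ hr)
    · exact h r (List.mem_append_right _ hr)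
  exact (Plan.usable (T := tb) (D := layY) (P := frOf hq hK chkY) (Sy := sY hq hK f) (E := gGL K) rfl rfl
    (sY_hy hq hK f) (fun r hr => by simp [layY, layOf] at hr) hok
    fun t ht => ⟨⟨_, el_mem hq hK hel ht⟩, rfl⟩).1

theorem mu_theta {D : Fin 11 → K} (hD : D ∈ (frOf hq hK chkY).Vs) (h0 : D 0 ≠ 0) :
    (frOf hq hK chkY).mu ψ (sY hq hK f).R D = mY hq hK f ψ := by
  have hfix : frK hq hK (D 0) = D 0 := (frOf hq hK chkY).fix_of_mem hD (by decide +kernel : layY.tau 0 = 0)
  rw [const_on_key (μ := (frOf hq hK chkY).mu ψ (sY hq hK f).R) (k0 := (0 : Fin 11))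
    (reps := layY.mvs tb all1 repsZ) chkReachZ (fun r hr => ?_)
    (show ∀ x ∈ ([1, 2, 3, 4, 5, 6, 7, 8, 9, 10] : List (Fin 11)),
      cover layY.tau (layY.mvs tb all1 repsZ) x = true by decide +kernel)
    (show ∀ x : Fin 11, x = 0 ∨ x ∈ ([1, 2, 3, 4, 5, 6, 7, 8, 9, 10] : List (Fin 11)) ∨ x ∈ ([] : List (Fin 11)) by
      decide +kernel) hD h0 (by simp)]
  · obtain ⟨u, hu⟩ : ∃ u : Kˣ, (u : K) = D 0 := ⟨Units.mk0 _ h0, rfl⟩
    rw [← hu] at hfix ⊢
    have hN := tMo_compat hq hK chkY chkExpY hfix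
    have hc : (sY hq hK f).Conj ⟨_, tor_tw hq hK hfix⟩ (tMo layY u).mv := fun v => by
      refine (sY hq hK f).conj_of_single (fun k s => ?_) v
      rw [tMo_single, Sys.Y_single, sY_hy]
      exact tor_conj u (by revert k; decide +kernel) s
    rw [mY, ← (sY hq hK f).mu_mo hN hc ((frOf hq hK chkY).orbV 0 1)]
    congr 1
    funext k
    simp only [Mo.tr, tMo, id_eq, Fr.orbV, show (frOf hq hK chkY).τ 0 = 0 from (by decide +kernel : layY.tau 0 = 0)]
    split_ifs with h
    · subst h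
      rw [show tb.A 1 (layY.q 0) = 1 by decide +kernel, zpow_one, mul_one]
    · rw [mul_zero]
  · obtain ⟨r', hr', rfl⟩ := List.mem_map.1 hr
    exact usableY hq hK (List.mem_append_left _ (List.mem_map_of_mem hr'))

theorem mu_r0 {D : Fin 11 → K} (hD : D ∈ (frOf hq hK chkY).Vs) (h0 : D 0 = 0) (h1 : D 1 ≠ 0) :
    (frOf hq hK chkY).mu ψ (sY hq hK f).R D =
      (frOf hq hK chkY).mu ψ (sY hq hK f).R ((frOf hq hK chkY).orbV 1 (D 1)) := by
  refine const_on_key (k0 := (1 : Fin 11)) (reps := layY.mvs tb all1 repsU) chkReachU (fun r hr => ?_)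
    (show ∀ x ∈ ([2, 3, 4, 5, 6, 7, 8, 9, 10] : List (Fin 11)),
      cover layY.tau (layY.mvs tb all1 repsU) x = true by decide +kernel)
    (show ∀ x : Fin 11, x = 1 ∨ x ∈ ([2, 3, 4, 5, 6, 7, 8, 9, 10] : List (Fin 11)) ∨ x ∈ ([0] : List (Fin 11)) by
      decide +kernel) hD h1 (fun a ha => by rw [List.mem_singleton.1 ha]; exact h0)
  obtain ⟨r', hr', rfl⟩ := List.mem_map.1 hr
  exact usableY hq hK (List.mem_append_right _ (List.mem_map_of_mem hr'))

variable (hψ : ψ 1 ≠ 1)

theorem sum_const_filter {P : Fr K 11} (μ : (Fin 11 → K) → ℕ) (pr : P.Vs → Prop) [DecidablePred pr] (c : ℕ)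
    (h : ∀ L : P.Vs, pr L → μ L = c) :
    ∑ L ∈ (Finset.univ : Finset P.Vs).filter pr, μ L = (((Finset.univ : Finset P.Vs).filter pr).card) * c := by
  rw [Finset.sum_congr rfl fun L hL => h L (Finset.mem_filter.1 hL).2, Finset.sum_const, smul_eq_mul]

/-- the sum over the vectors with a given value at a position -/
noncomputable def sumAt (μ : (Fin 11 → K) → ℕ) (P : Fr K 11) (i : Fin 11) (a : K) : ℕ :=
  ∑ L ∈ (Finset.univ : Finset P.Vs).filter (fun L : P.Vs => (L : Fin 11 → K) i = a), μ L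

include hψ in
theorem sum_theta {a : K} (ha : a ≠ 0) (hfa : frK hq hK a = a) :
    sumAt ((frOf hq hK chkY).mu ψ (sY hq hK f).R) (frOf hq hK chkY) 0 a = q ^ 10 * mY hq hK f ψ := by
  refine (sum_const_filter _ _ (mY hq hK f ψ) fun L hL => mu_theta hq hK L.2 (by rw [hL]; exact ha)).trans ?_
  congr 1
  have h := card_slice (q := q) (frOf hq hK chkY) (card_fix hq hK) hK
    ((frOf hq hK chkY).orbV_mem (i := 0) (t := a) fun _ => hfa) {0}
    (fun i hi => by rw [Finset.mem_singleton.1 hi]; exact Finset.mem_singleton.2 (by decide +kernel : layY.tau 0 = 0))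
  simp only [Finset.mem_singleton, forall_eq, Fr.orbV_self, Finset.card_singleton] at h
  exact h

include hψ in
theorem swap_sum {d : K} (hfd : frK hq hK d = d) : ∃ ε : K, ε ≠ 0 ∧ frK hq hK (ε * d) = ε * d ∧
    sumAt ((frOf hq hK chkY).mu ψ (sY hq hK f).R) (frOf hq hK chkY) 1 d =
      sumAt ((frOf hq hK chkY).mu ψ (sY hq hK f).R) (frOf hq hK chkY) 0 (ε * d) := by
  obtain ⟨z, hz⟩ : ∃ z : ℤ, z = Grp.wSign tb sw 70 := ⟨_, rfl⟩
  have hz2 : (z : K) * (z : K) = 1 := by
    rcases Grp.wSign_sq (T := tb) sw 70 with e | e <;> rw [hz, e] <;> simp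
  have hfz : frK hq hK ((z : K) * d) = (z : K) * d := by rw [map_mul, map_intCast, hfd]
  refine ⟨z, left_ne_zero_of_mul (ne_of_eq_of_ne hz2 one_ne_zero), hfz, ?_⟩
  have hsw : isBlk sw = true ∧ Grp.wordOK tb all1 all1 sw 70 = true ∧ tb.rw' sw 70 = 71 := by decide +kernel
  obtain ⟨g, hg⟩ : ∃ g : tw K q, g = ⟨_, nw_mem hq hK hsw.1⟩ := ⟨_, rfl⟩
  have key : ∀ s, (g : GLK K) * xg TwE6.g0 70 s * (g : GLK K)⁻¹ = xg TwE6.g0 71 ((z : K) * s) := fun s => by
    rw [hg]
    exact ((gGL K).nw_conj (L := sw) hsw.2.1 s).trans (by rw [hsw.2.2, hz]; rfl)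
  have hmem : ∀ v ∈ (frOf hq hK chkR).Vs, (fun _ => (z : K) * v 0) ∈ (frOf hq hK chkT).Vs := fun v hv => by
    refine T_single hq hK ?_
    have := (frOf hq hK chkR).fix_of_mem hv (show (frOf hq hK chkR).τ (0 : Fin 1) = 0 from Subsingleton.elim _ _)
    rw [map_mul, map_intCast]
    exact congrArg _ this
  let c : (frOf hq hK chkR).Vs →+ (frOf hq hK chkT).Vs :=
    AddMonoidHom.mk' (fun v => ⟨_, hmem _ v.2⟩) fun v w => Subtype.ext (funext fun _ => mul_add _ _ _)
  have hc : Function.Bijective c := by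
    refine ⟨fun v w e => Subtype.ext (funext fun i => ?_), fun v => ?_⟩
    · rw [Subsingleton.elim i 0]
      exact mul_left_cancel₀ (left_ne_zero_of_mul (ne_of_eq_of_ne hz2 one_ne_zero))
        (congrFun (congrArg Subtype.val e) 0)
    · have hv := (frOf hq hK chkT).fix_of_mem v.2 (show (frOf hq hK chkT).τ (0 : Fin 1) = 0 from Subsingleton.elim _ _)
      have hv' : frK hq hK ((v : Fin 1 → K) 0) = (v : Fin 1 → K) 0 := hv
      refine ⟨⟨fun _ => (z : K) * (v : Fin 1 → K) 0, fun i => ?_⟩, Subtype.ext (funext fun i => ?_)⟩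
      · show (z : K) * (v : Fin 1 → K) 0 = ((layR.sgn i : ℤ) : K) * frK hq hK ((z : K) * (v : Fin 1 → K) 0)
        rw [map_mul, map_intCast, hv', show layR.sgn i = 1 from by revert i; decide +kernel, Int.cast_one, one_mul]
      · rw [Subsingleton.elim i 0]
        show (z : K) * ((z : K) * (v : Fin 1 → K) 0) = _
        rw [← mul_assoc, hz2, one_mul]
  have hR : ∀ v, f g⁻¹ * (sT hq hK f).R (c v) * f g = (sR hq hK f).R v := fun v => by
    obtain ⟨h, hh⟩ := (sR hq hK f).mem v v.2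
    rw [(sT hq hK f).R_eq (h := g * h * g⁻¹) ?_, (sR hq hK f).R_eq hh]
    · show f g⁻¹ * f (g * h * g⁻¹) * f g = f h
      rw [← map_mul, ← map_mul]
      congr 1
      group
    · rw [T_Y]
      show (g : GLK K) * (h : GLK K) * (g : GLK K)⁻¹ = xg TwE6.g0 71 ((z : K) * (v : Fin 1 → K) 0)
      rw [← key]
      congr 2
      refine hh.trans ?_
      show (sR hq hK f).Y (v : Fin 1 → K) = _
      conv_lhs => rw [show (v : Fin 1 → K) = Pi.single 0 ((v : Fin 1 → K) 0) from
        funext fun i => by rw [Subsingleton.elim i 0, Pi.single_eq_same]]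
      rw [Sys.Y_single]
      rfl
  have e := mult_transport (R1 := (sR hq hK f).R) (R2 := (sT hq hK f).R)
    (show f g * f g⁻¹ = 1 by rw [← map_mul, mul_inv_cancel, map_one]) hc hR
    ((frOf hq hK chkT).chi ψ fun _ => (z : K) * d)
  rw [show ((frOf hq hK chkT).chi ψ fun _ => (z : K) * d).compAddMonoidHom c = (frOf hq hK chkR).chi ψ fun _ => d from
    DFunLike.ext _ _ fun v => by
      rw [AddChar.compAddMonoidHom_apply, Fr.chi_apply, Fr.chi_apply]
      refine congrArg ψ ?_
      simp only [Fr.pair, Fin.sum_univ_one]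
      show (z : K) * d * ((z : K) * (v : Fin 1 → K) 0) = _
      linear_combination (d * (v : Fin 1 → K) 0) * hz2] at e
  have hdR : (fun _ : Fin 1 => d) ∈ (frOf hq hK chkR).Vs := fun i => by
    show d = ((layR.sgn i : ℤ) : K) * frK hq hK d
    rw [hfd, show layR.sgn i = 1 from by revert i; decide +kernel, Int.cast_one, one_mul]
  have hT := (sY hq hK f).R_sub (sT hq hK f) (emb0 hq hK) rfl rfl fun j => by
    rw [Subsingleton.elim j 0]; rfl
  have hR' := (sY hq hK f).R_sub (sR hq hK f) (emb1 hq hK) rfl rfl fun j => by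
    rw [Subsingleton.elim j 0]; rfl
  change (frOf hq hK chkR).mu ψ (sR hq hK f).R _ = (frOf hq hK chkT).mu ψ (sT hq hK f).R _ at e
  rw [hR', Fr.mu_restrict hψ (emb1 hq hK) _ hdR, hT,
    Fr.mu_restrict hψ (emb0 hq hK) _ (T_single hq hK hfz)] at e
  simp only [funext_iff, Fin.forall_fin_one] at e
  exact e

include hψ in
/-- All nontrivial multiplicities of the distinguished root group on the fixed space agree. -/
theorem mu_r0_eq {D : Fin 11 → K} (hD : D ∈ (frOf hq hK chkY).Vs) (h0 : D 0 = 0) (h1 : D 1 ≠ 0) :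
    (frOf hq hK chkY).mu ψ (sY hq hK f).R D = mY hq hK f ψ := by
  classical
  have hfd : frK hq hK (D 1) = D 1 := (frOf hq hK chkY).fix_of_mem hD (by decide +kernel : layY.tau 1 = 1)
  obtain ⟨ε, hε, hfε, hs⟩ := swap_sum hq hK (f := f) hψ hfd
  rw [sum_theta hq hK hψ (mul_ne_zero hε h1) hfε, sumAt, ← Finset.sum_filter_add_sum_filter_not _
    (fun L : (frOf hq hK chkY).Vs => (L : Fin 11 → K) 0 = 0), Finset.filter_filter, Finset.filter_filter,
    sum_const_filter _ _ ((frOf hq hK chkY).mu ψ (sY hq hK f).R D) (fun L hL => by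
      rw [mu_r0 hq hK L.2 hL.2 (by rw [hL.1]; exact h1), mu_r0 hq hK hD h0 h1, hL.1]),
    sum_const_filter _ _ (mY hq hK f ψ) (fun L hL => mu_theta hq hK L.2 hL.2)] at hs
  have hcard := card_slice (q := q) (frOf hq hK chkY) (card_fix hq hK) hK
    ((frOf hq hK chkY).orbV_mem (i := 1) (t := D 1) fun _ => hfd)
  have c1 := hcard {1} (fun i hi => by
    rw [Finset.mem_singleton.1 hi]; exact Finset.mem_singleton.2 (by decide +kernel : layY.tau 1 = 1))
  have c2 := hcard {1, 0} (fun i hi => by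
    rcases Finset.mem_insert.1 hi with rfl | hi
    · exact Finset.mem_insert.2 (Or.inl (by decide +kernel : layY.tau 1 = 1))
    · rw [Finset.mem_singleton.1 hi]
      exact Finset.mem_insert.2 (Or.inr (Finset.mem_singleton.2 (by decide +kernel : layY.tau 0 = 0))))
  have e0 : (frOf hq hK chkY).orbV 1 (D 1) 0 = 0 := by
    simp [Fr.orbV, show (frOf hq hK chkY).τ 1 = 1 from (by decide +kernel : layY.tau 1 = 1)]
  simp only [Finset.mem_singleton, forall_eq, Fr.orbV_self, Finset.card_singleton] at c1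
  simp only [Finset.forall_mem_insert, Finset.mem_singleton, forall_eq, Fr.orbV_self, e0,
    Finset.card_pair (show (1 : Fin 11) ≠ 0 by decide)] at c2
  have c3 := Finset.card_filter_add_card_filter_not (s := (Finset.univ : Finset (frOf hq hK chkY).Vs).filter
    fun L : (frOf hq hK chkY).Vs => (L : Fin 11 → K) 1 = D 1) (fun L => (L : Fin 11 → K) 0 = 0)
  rw [Finset.filter_filter, Finset.filter_filter, c2, c1] at c3
  rw [c2] at hs
  simp only [show 11 - 1 = 10 from rfl, show 11 - 2 = 9 from rfl] at c3 hs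
  refine Nat.eq_of_mul_eq_mul_left (pow_pos (lt_of_lt_of_le Nat.two_pos hq.two_le) 9) ?_
  rw [← c3, add_mul] at hs
  exact Nat.add_right_cancel hs

include hψ in
theorem finrank_eq : finrank ℂ W = (q ^ 11 - q ^ 10) * mY hq hK f ψ + finrank ℂ (W1 hq hK f ψ) := by
  classical
  have hT := (sY hq hK f).R_sub (sT hq hK f) (emb0 hq hK) rfl rfl fun j => by
    rw [Subsingleton.elim j 0]; rfl
  have e : finrank ℂ (W1 hq hK f ψ) = sumAt ((frOf hq hK chkY).mu ψ (sY hq hK f).R) (frOf hq hK chkY) 0 0 := by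
    show (frOf hq hK chkT).mu ψ (sT hq hK f).R 0 = _
    rw [hT, Fr.mu_restrict hψ (emb0 hq hK) _ (zero_mem _)]
    simp only [funext_iff, Fin.forall_fin_one, Pi.zero_apply]
    rfl
  rw [e, sumAt, ← (frOf hq hK chkY).sum_mu hψ (sY hq hK f).R, ← Finset.sum_filter_add_sum_filter_not Finset.univ
    (fun L : (frOf hq hK chkY).Vs => (L : Fin 11 → K) 0 = 0), add_comm,
    sum_const_filter _ _ (mY hq hK f ψ) fun L hL => mu_theta hq hK L.2 hL]
  congr 2
  have c1 := card_slice (q := q) (frOf hq hK chkY) (card_fix hq hK) hK (zero_mem _) ({0} : Finset (Fin 11))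
    (fun i hi => by rw [Finset.mem_singleton.1 hi]; exact Finset.mem_singleton.2 (by decide +kernel : layY.tau 0 = 0))
  have c0 := card_slice (q := q) (frOf hq hK chkY) (card_fix hq hK) hK (zero_mem _) (∅ : Finset (Fin 11)) (by simp)
  simp only [Finset.mem_singleton, forall_eq, Pi.zero_apply, Finset.card_singleton] at c1
  simp only [Finset.notMem_empty, false_implies, implies_true, Finset.filter_true, Finset.card_empty] at c0
  have c3 := Finset.card_filter_add_card_filter_not (s := (Finset.univ : Finset (frOf hq hK chkY).Vs))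
    (fun L => (L : Fin 11 → K) 0 = 0)
  rw [c1, c0] at c3
  exact Nat.eq_sub_of_add_eq' c3

include hψ in
theorem finrank_W1_le : (q ^ 10 - q ^ 9) * mY hq hK f ψ ≤ finrank ℂ (W1 hq hK f ψ) := by
  classical
  have hT := (sY hq hK f).R_sub (sT hq hK f) (emb0 hq hK) rfl rfl fun j => by
    rw [Subsingleton.elim j 0]; rfl
  have e : finrank ℂ (W1 hq hK f ψ) = sumAt ((frOf hq hK chkY).mu ψ (sY hq hK f).R) (frOf hq hK chkY) 0 0 := by
    show (frOf hq hK chkT).mu ψ (sT hq hK f).R 0 = _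
    rw [hT, Fr.mu_restrict hψ (emb0 hq hK) _ (zero_mem _)]
    simp only [funext_iff, Fin.forall_fin_one, Pi.zero_apply]
    rfl
  rw [e, sumAt, ← Finset.sum_filter_add_sum_filter_not _ (fun L : (frOf hq hK chkY).Vs => (L : Fin 11 → K) 1 = 0),
    Finset.filter_filter, Finset.filter_filter]
  refine le_add_left (le_of_eq ?_)
  rw [sum_const_filter _ _ (mY hq hK f ψ) fun L hL => mu_r0_eq hq hK hψ L.2 hL.1 hL.2]
  congr 1
  have c1 := card_slice (q := q) (frOf hq hK chkY) (card_fix hq hK) hK (zero_mem _) ({0} : Finset (Fin 11))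
    (fun i hi => by rw [Finset.mem_singleton.1 hi]; exact Finset.mem_singleton.2 (by decide +kernel : layY.tau 0 = 0))
  have c2 := card_slice (q := q) (frOf hq hK chkY) (card_fix hq hK) hK (zero_mem _) ({0, 1} : Finset (Fin 11))
    (fun i hi => by
      rcases Finset.mem_insert.1 hi with rfl | hi
      · exact Finset.mem_insert.2 (Or.inl (by decide +kernel : layY.tau 0 = 0))
      · rw [Finset.mem_singleton.1 hi]
        exact Finset.mem_insert.2 (Or.inr (Finset.mem_singleton.2 (by decide +kernel : layY.tau 1 = 1))))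
  simp only [Finset.mem_singleton, forall_eq, Pi.zero_apply, Finset.card_singleton] at c1
  simp only [Finset.forall_mem_insert, Finset.mem_singleton, forall_eq, Pi.zero_apply,
    Finset.card_pair (show (0 : Fin 11) ≠ 1 by decide)] at c2
  have c3 := Finset.card_filter_add_card_filter_not (s := (Finset.univ : Finset (frOf hq hK chkY).Vs).filter
    fun L : (frOf hq hK chkY).Vs => (L : Fin 11 → K) 0 = 0) (fun L => (L : Fin 11 → K) 1 = 0)
  rw [Finset.filter_filter, Finset.filter_filter, c2, c1] at c3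
  exact (Nat.eq_sub_of_add_eq' c3).symm

end Cfsg.Agent.MinDegreeTwE6
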