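/-
The spectrum of the radical on the fixed space of the long root group.
-/
import Cfsg.Agent.Lib.MinDegree.TwE6Key

set_option autoImplicit false
set_option maxRecDepth 20000

namespace Cfsg.Agent.MinDegreeTwE6

open LinearMap Module Cfsg.Lie Cfsg.Agent.Chev Cfsg.Agent.Chev.Tab Cfsg.Agent.Heis Cfsg.Agent.TwSpec

/-- the key positions inside the radical -/
def eQ (j : Fin 10) : Fin 20 := ((List.finRange 20).find? fun k => layQ.q k == layK.q j).getD 0

theorem eQ_key : (∀ j, eQ j ∈ planQ.k0 :: planQ.key) ∧ (∀ x ∈ planQ.k0 :: planQ.key, ∃ j, eQ j = x) ∧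
    ∀ j, layQ.q (eQ j) = layK.q j := by decide +kernel

theorem eQ_zero : eQ 0 = planQ.k0 := by decide +kernel

theorem succ_facts : ∀ j : Fin 10, layY.q j.succ = layK.q j ∧ elOK (layK.q j) = true ∧
    S1 (layK.q j) = true ∧ S1 (pf (layK.q j)) = true := by decide +kernel

variable {K : Type*} [Field K] [Fintype K] [DecidableEq K] {q : ℕ} (hq : IsPrimePow q)
  (hK : Fintype.card K = q ^ 2)
variable {W : Type*} [AddCommGroup W] [Module ℂ W] {f : tw K q →* Module.End ℂ W}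
  {ψ : AddChar K ℂ}

theorem embQ : (frOf (K := K) hq hK chkQ).Emb (frOf hq hK chkK) eQ :=
  emb_of (D := layQ) (D' := layK) eQ (by decide +kernel)
    ((frOf_fr hq hK _).trans (frOf_fr hq hK _).symm) rfl rfl rfl rfl

theorem Y_sY {m : ℕ} (i : Fin 11) (j : Fin m) {D : Lay m} {S : ℕ → Bool} (h : D.chk tb S = true)
    (hπ : D.π = pf) (hζ : D.ζ = zf) (hinj : Function.Injective D.q) (hq' : layY.q i = D.q j) {t : K}
    (hok : (frOf hq hK h).Ok j t) :
    (sY hq hK f).Y ((frOf hq hK chkY).orbV i t) = el hq hK (D.q j) t := by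
  have e := pi_orbV (D := layY) (P := frOf hq hK chkY) (E := gGL K) rfl rfl (Lay.q_tau chkY) injY
    (y := (sY hq hK f).y) (sY hq hK f).comm (sY_hy hq hK f) i t
  refine e.trans ?_
  rw [hq', show layY.π = pf from rfl, show layY.ζ = zf from rfl, frOf_fr]
  rfl

theorem RK_val (w : (frOf hq hK chkK).Vs) (x : W1 hq hK f ψ) :
    (((sK hq hK f ψ).R w x : W1 hq hK f ψ) : W) = (sY hq hK f).R (Fr.ext (embK hq hK) w) (x : W) := by
  obtain ⟨w, hw⟩ := w
  suffices h : ∀ (hw : w ∈ (frOf hq hK chkK).Vs) (x : W1 hq hK f ψ),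
      (((sK hq hK f ψ).R ⟨w, hw⟩ x : W1 hq hK f ψ) : W) =
        (sY hq hK f).R (Fr.ext (embK hq hK) ⟨w, hw⟩) (x : W) from h hw x
  refine (frOf hq hK chkK).induction (p := fun w => ∀ (hw : w ∈ (frOf hq hK chkK).Vs) (x : W1 hq hK f ψ),
      (((sK hq hK f ψ).R ⟨w, hw⟩ x : W1 hq hK f ψ) : W) =
        (sY hq hK f).R (Fr.ext (embK hq hK) ⟨w, hw⟩) (x : W)) ?_ (fun j t hok hw x => ?_)
    (fun a b ha hb iha ihb hw x => ?_) hw
  · intro hw x
    show (((sK hq hK f ψ).R 0 x : W1 hq hK f ψ) : W) = (sY hq hK f).R (Fr.ext (embK hq hK) 0) (x : W)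
    rw [map_zero (Fr.ext (embK hq hK)), AddChar.map_zero_eq_one, AddChar.map_zero_eq_one]
    rfl
  · obtain ⟨-, hel, h1, h2⟩ := succ_facts j
    have hbb := ok_of_fixed hq hK chkK rfl injK hok
    obtain ⟨g, hg, hgi⟩ := el_Q hq hK hel h1 h2 hbb
    have e1 : (sK hq hK f ψ).R ⟨_, hw⟩ = f1 hq hK f ψ g := by
      refine (sK hq hK f ψ).R_eq ?_
      refine hgi.trans ?_
      refine (pi_orbV (D := layK) (P := frOf hq hK chkK) (E := gQ K) rfl rfl (Lay.q_tau chkK) injK
        (y := (sK hq hK f ψ).y) (sK hq hK f ψ).comm (fun _ => rfl) j t).symm.trans ?_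
      rfl
    have e2 : (sY hq hK f).R (Fr.ext (embK hq hK) ⟨_, hw⟩) = f (g : tw K q) := by
      refine (sY hq hK f).R_eq ?_
      show ((g : tw K q) : GLK K) = (sY hq hK f).Y _
      rw [hg]
      have hext : ((Fr.ext (embK hq hK) ⟨_, hw⟩ : (frOf hq hK chkY).Vs) : Fin 11 → K) =
          (frOf hq hK chkY).orbV j.succ t := by
        funext i
        by_cases hi : ∃ k : Fin 10, k.succ = i
        · obtain ⟨k, rfl⟩ := hi
          rw [Fr.ext_apply]
          have hτ : (frOf hq hK chkY).τ j.succ = ((frOf hq hK chkK).τ j).succ := ((embK hq hK).τ j).symm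
          show (frOf hq hK chkK).orbV j t k = _
          simp only [Fr.orbV, hτ, Fin.succ_inj, (embK hq hK).z, (embK hq hK).fr]
        · have hi0 : i = 0 := by
            rcases Fin.eq_zero_or_eq_succ i with h | ⟨k, rfl⟩
            · exact h
            · exact absurd ⟨k, rfl⟩ hi
          subst hi0
          show Function.extend Fin.succ _ 0 (0 : Fin 11) = _
          rw [Function.extend_apply' _ _ _ hi, Fr.orbV,
            show (frOf hq hK chkY).τ j.succ = ((frOf hq hK chkK).τ j).succ from ((embK hq hK).τ j).symm,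
            if_neg (Fin.succ_ne_zero _).symm, if_neg (Fin.succ_ne_zero _).symm]
          rfl
      rw [hext, Y_sY hq hK j.succ j chkK rfl rfl injK (succ_facts j).1 hok]
    rw [e1, e2]
    rfl
  · have ea : (⟨a + b, hw⟩ : (frOf hq hK chkK).Vs) = ⟨a, ha⟩ + ⟨b, hb⟩ := rfl
    rw [ea, AddChar.map_add_eq_mul, map_add (Fr.ext (embK hq hK)), AddChar.map_add_eq_mul, Module.End.mul_apply,
      Module.End.mul_apply, iha, ihb]

variable [FiniteDimensional ℂ W]

theorem mu_key (hψ : ψ 1 ≠ 1) {D : Fin 10 → K} (hD : D ∈ (frOf hq hK chkK).Vs) {D' : Fin 11 → K}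
    (hD' : D' ∈ (frOf hq hK chkY).Vs) (h0 : D' 0 = 0) (hs : ∀ j : Fin 10, D' j.succ = D j) :
    (frOf hq hK chkK).mu ψ (sK hq hK f ψ).R D = (frOf hq hK chkY).mu ψ (sY hq hK f).R D' := by
  have hpK : ∀ w : (frOf hq hK chkK).Vs,
      Fr.pair D' (Fr.ext (embK hq hK) w : Fin 11 → K) = Fr.pair D (w : Fin 10 → K) := fun w => by
    rw [Fr.pair_ext]
    exact congrArg (fun g => Fr.pair g _) (funext hs)
  have hpT : ∀ w : (frOf hq hK chkT).Vs, Fr.pair D' (Fr.ext (emb0 hq hK) w : Fin 11 → K) = 0 := fun w => by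
    rw [Fr.pair_ext]
    simp [Fr.pair, h0]
  have hT := (sY hq hK f).R_sub (sT hq hK f) (emb0 hq hK) rfl rfl fun j => by
    rw [Subsingleton.elim j 0]; rfl
  have dec : ∀ v : (frOf hq hK chkY).Vs, ∃ (a : (frOf hq hK chkT).Vs) (b : (frOf hq hK chkK).Vs),
      v = Fr.ext (emb0 hq hK) a + Fr.ext (embK hq hK) b := fun v => by
    refine ⟨⟨_, Fr.comp_mem (emb0 hq hK) v.2⟩, ⟨_, Fr.comp_mem (embK hq hK) v.2⟩, Subtype.ext (funext fun i => ?_)⟩
    rcases Fin.eq_zero_or_eq_succ i with rfl | ⟨k, rfl⟩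
    · rw [AddSubgroup.coe_add, Pi.add_apply,
        show (Fr.ext (embK hq hK) _ : Fin 11 → K) 0 = 0 from
          Function.extend_apply' _ _ _ fun ⟨j, hj⟩ => Fin.succ_ne_zero j hj, add_zero]
      exact (Fr.ext_apply (emb0 hq hK) ⟨_, Fr.comp_mem (emb0 hq hK) v.2⟩ (0 : Fin 1)).symm
    · rw [AddSubgroup.coe_add, Pi.add_apply,
        show (Fr.ext (emb0 hq hK) _ : Fin 11 → K) k.succ = 0 from
          Function.extend_apply' _ _ _ fun ⟨j, hj⟩ => Fin.succ_ne_zero k hj.symm, zero_add]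
      exact (Fr.ext_apply (embK hq hK) ⟨_, Fr.comp_mem (embK hq hK) v.2⟩ k).symm
  refine mult_sub (fun x hx => ?_) fun x hx v => ?_
  · have hx1 : x ∈ W1 hq hK f ψ := by
      refine (Heis.mem_range_proj _ _).2 fun a => ?_
      rw [chi_zero, hT, AddChar.compAddMonoidHom_apply, hx, Fr.chi_apply, hpT, AddChar.map_zero_eq_one]
    refine ⟨hx1, fun w => Subtype.ext ?_⟩
    rw [RK_val, SetLike.val_smul]
    show (sY hq hK f).R _ x = _
    rw [hx, Fr.chi_apply, Fr.chi_apply, hpK]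
  · obtain ⟨a, b, rfl⟩ := dec v
    rw [AddChar.map_add_eq_mul, Module.End.mul_apply, ← RK_val, hx, SetLike.val_smul, map_smul]
    have ha : (sY hq hK f).R (Fr.ext (emb0 hq hK) a) (x : W) = (x : W) := by
      have := (Heis.mem_range_proj _ _).1 x.2 a
      rw [chi_zero, one_smul, hT, AddChar.compAddMonoidHom_apply] at this
      exact this
    rw [ha, AddChar.map_add_eq_mul, Fr.chi_apply, Fr.chi_apply, Fr.chi_apply, hpT, AddChar.map_zero_eq_one,
      one_mul, hpK]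

theorem hkeyQ (hψ : ψ 1 ≠ 1) (hm : mY hq hK f ψ = 1) :
    HKey (frOf hq hK chkQ) ((frOf hq hK chkQ).mu ψ (sQ hq hK f ψ).R) planQ.k0 planQ.key := by
  classical
  intro D hD h0
  have hR := (sQ hq hK f ψ).R_sub (sK hq hK f ψ) (embQ hq hK) rfl rfl fun j => by
    show (gQ K).x (layK.q j) = (gQ K).x (layQ.q (eQ j))
    rw [eQ_key.2.2]
  have hmem := Fr.comp_mem (embQ hq hK) hD
  have e := Fr.mu_restrict (ψ := ψ) hψ (embQ hq hK) (sQ hq hK f ψ).R hmem
  rw [← hR] at e
  have hset : ∀ L : (frOf hq hK chkQ).Vs, Agree planQ.k0 planQ.key D (L : Fin 20 → K) ↔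
      (fun j => (L : Fin 20 → K) (eQ j)) = fun j => D (eQ j) := fun L => by
    refine ⟨fun h => funext fun j => h _ (eQ_key.1 j), fun h x hx => ?_⟩
    obtain ⟨j, rfl⟩ := eQ_key.2.1 x hx
    exact congrFun h j
  rw [Finset.filter_congr fun L _ => hset L, ← e]
  obtain ⟨D', hD'⟩ : ∃ D' : Fin 11 → K, D' = Fin.cons 0 fun j => D (eQ j) := ⟨_, rfl⟩
  have hD'mem : D' ∈ (frOf hq hK chkY).Vs := by
    intro i
    rcases Fin.eq_zero_or_eq_succ i with rfl | ⟨k, rfl⟩
    · rw [show (frOf hq hK chkY).τ 0 = 0 from (by decide +kernel : layY.tau 0 = 0), hD', Fin.cons_zero]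
      simp
    · rw [← (embK hq hK).τ k, (embK hq hK).z, hD', Fin.cons_succ, Fin.cons_succ, ← (embK hq hK).fr]
      exact hmem k
  rw [mu_key hq hK hψ hmem hD'mem (by rw [hD', Fin.cons_zero]) fun j => by rw [hD', Fin.cons_succ],
    mu_r0_eq hq hK hψ hD'mem (by rw [hD', Fin.cons_zero]) ?_, hm]
  rw [show (1 : Fin 11) = (0 : Fin 10).succ from rfl, hD', Fin.cons_succ, eQ_zero]
  exact h0

theorem realisedQ : Plan.Realised planQ layQ (gQ K) (sQ hq hK f ψ) where
  τ_eq := rfl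
  z_eq := rfl
  hy _ := rfl
  hdead r hr u := gQ_dead r hr u
  hroot b hb t ht := by
    have hb' := qRoot_of_mem (b := b) (by
      simp only [List.mem_append]
      exact Or.inl (Or.inl (Or.inl (Or.inr hb))))
    simp only [qRoot, Bool.and_eq_true] at hb'
    obtain ⟨g, -, hg⟩ := el_Q hq hK hb'.1.1 hb'.1.2 hb'.2 ht
    exact ⟨g, hg⟩
  hword w hw := by
    have h := List.all_eq_true.1 words_ok w (by
      simp only [List.mem_append]
      exact Or.inl (Or.inl (Or.inl hw)))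
    simp only [Bool.and_eq_true, List.all_eq_true, nat_blt] at h
    obtain ⟨g, -, hg⟩ := nw_Q hq hK h.1.1 fun i hi => h.1.2 i hi
    exact ⟨g, hg⟩

variable (f ψ) in
/-- the projection on the fixed space of the radical -/
noncomputable def e2 : Module.End ℂ (W1 hq hK f ψ) :=
  ReeRep.proj (sQ hq hK f ψ).R ((frOf hq hK chkQ).chi ψ 0)

variable (f ψ) in
/-- the fixed space of the radical -/
noncomputable abbrev W2 : Submodule ℂ (W1 hq hK f ψ) := range (e2 hq hK f ψ)

theorem finrank_W1 (hψ : ψ 1 ≠ 1) (hm : mY hq hK f ψ = 1) :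
    finrank ℂ (W1 hq hK f ψ) = finrank ℂ (W2 hq hK f ψ) + planQ.total q := by
  have := Plan.exact (T := tb) (E := gQ K) (realisedQ hq hK) (C := planQ) (D := layQ) chkPlanQ hK (card_fix hq hK)
    hψ chkExQ (hkeyQ hq hK hψ hm)
  exact this

theorem totalQ : planQ.total q = (q - 1) * q ^ 9 + ((q - 1) * q ^ 8 + ((q - 1) * q ^ 6 + ((q - 1) * q ^ 5 +
    ((q - 1) * q ^ 4 + ((q - 1) * q ^ 3 + ((q - 1) * q ^ 1 + ((q - 1) * q ^ 0 + 0))))))) := by
  rw [Plan.total, show planQ.cells.map (fun c => (q - 1) * q ^ (freeSet planQ.key c.A).card) =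
    (planQ.cells.map fun c => (freeSet planQ.key c.A).card).map (fun e => (q - 1) * q ^ e) by rw [List.map_map]; rfl,
    freeQ]
  rfl

end Cfsg.Agent.MinDegreeTwE6
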