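/-
The Levi complement on the fixed space of the radical.
-/
import Cfsg.Agent.Lib.MinDegree.TwE6Quot

set_option autoImplicit false
set_option maxRecDepth 20000

namespace Cfsg.Agent.MinDegreeTwE6

open LinearMap Module Cfsg.Lie Cfsg.Agent.Chev Cfsg.Agent.Chev.Tab Cfsg.Agent.Heis Cfsg.Agent.TwSpec

theorem levi_facts : (leviWord.all fun e => isBlk e.2.2 && e.2.2.all (fun i => J1 i && Nat.blt i tb.l) &&
    layQ.wdOK tb S1 J1 e.2.2 && wOK e.2.2 (bif e.2.1 then 40 else 60) e.1) = true := by decide +kernel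

theorem q2_facts : layQ2.q 0 = 60 ∧ layQ2.q 6 = 40 ∧ layQ2.q 5 = 44 ∧ layQ2.q 8 = 39 ∧
    (44, false) ∈ leviWord.map (fun e : ℕ × Bool × List ℕ => (e.1, e.2.1)) ∧
    (39, false) ∈ leviWord.map (fun e : ℕ × Bool × List ℕ => (e.1, e.2.1)) := by decide +kernel

theorem shift_facts : (layQ2.mvOf tb S1 29).tgts 5 = [6, 7, 8] ∧
    ((layQ2.mvOf tb S1 29).s1 5 = some (6, 1) ∨ (layQ2.mvOf tb S1 29).s1 5 = some (6, -1)) ∧
    (layQ2.mvOf tb S1 29).fx = false ∧ ((layQ2.mvOf tb S1 29).s2 5).map Prod.fst = some 7 ∧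
    ((layQ2.mvOf tb S1 29).s3 5).map Prod.fst = some 8 ∧ layQ2.rootOK tb S1 29 = true ∧
    layQ2.tau 5 = 5 ∧ layQ2.tau 6 = 7 ∧ layQ2.tau 8 = 8 ∧ 29 ∈ planQ2.roots := by decide +kernel

theorem e2K_facts : ∀ j : Fin 5, S1 (layK2.q j) = true := by decide +kernel

variable {K : Type*} [Field K] [Fintype K] [DecidableEq K] {q : ℕ} (hq : IsPrimePow q)
  (hK : Fintype.card K = q ^ 2)
variable {W : Type*} [AddCommGroup W] [Module ℂ W] (f : tw K q →* Module.End ℂ W) (ψ : AddChar K ℂ)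

/-- the elements preserving the fixed space of the radical -/
noncomputable abbrev H2 : Subgroup (Hc K q) := HP (f1 hq hK f ψ) (e2 hq hK f ψ)

/-- their action -/
noncomputable def f2 : H2 hq hK f ψ →* Module.End ℂ (W2 hq hK f ψ) := onRange (f1 hq hK f ψ) (e2 hq hK f ψ)

/-- their reduction modulo the long root group -/
noncomputable def i2 : H2 hq hK f ψ →* Cth K ⧸ Nth K := (iQ K q).comp (H2 hq hK f ψ).subtype

variable {f ψ}

theorem f2_val (g : H2 hq hK f ψ) (x : W2 hq hK f ψ) :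
    (((f2 hq hK f ψ g x : W2 hq hK f ψ) : W1 hq hK f ψ) : W) =
      f ((g : Hc K q) : tw K q) ((x : W1 hq hK f ψ) : W) := rfl

theorem f2_ker (g : H2 hq hK f ψ) (h : i2 hq hK f ψ g = 1) : f2 hq hK f ψ g = 1 := by
  have h1 := f1_ker hq hK (ψ := ψ) (f := f) (g : Hc K q) h
  refine LinearMap.ext fun x => Subtype.ext ?_
  show f1 hq hK f ψ (g : Hc K q) (x : W1 hq hK f ψ) = (x : W1 hq hK f ψ)
  rw [h1]
  rfl

theorem el2 {b : ℕ} (hb : qRoot b = true) (hok : layQ.rootOK tb S1 b = true) {t : K}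
    (ht : (b == pf b) = true → frK hq hK t = t) :
    ∃ g : H2 hq hK f ψ, (((g : Hc K q) : tw K q) : GLK K) = el hq hK b t ∧
      i2 hq hK f ψ g = orbEl (gQ K) (frK hq hK) b (pf b) (zf b) t := by
  simp only [qRoot, Bool.and_eq_true] at hb
  obtain ⟨g, hg, hi⟩ := el_Q hq hK hb.1.1 hb.1.2 hb.2 ht
  have hc := sQ_conj hq hK (f := f) (ψ := ψ) hok hi
  obtain ⟨hcp, hs, -, -⟩ := mvOK_spec (K := K) (P := frOf hq hK chkQ) (M := layQ.mvOf tb S1 b) (by
    simp only [Lay.rootOK, orbOK, Bool.and_eq_true] at hok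
    exact hok.1.2)
  have hm : g ∈ H2 hq hK f ψ :=
    (sQ hq hK f ψ).commute_proj hc (fun v hv => Mv.mv_mem hcp (fun e => ht e) hv) (Mv.mv_injective hs t)
  exact ⟨⟨g, hm⟩, hg, hi⟩

theorem el2_eq {b : ℕ} (hb : qRoot b = true) (hok : layQ.rootOK tb S1 b = true) {t : K}
    (ht : (b == pf b) = true → frK hq hK t = t) {g : H2 hq hK f ψ}
    (hg : (((g : Hc K q) : tw K q) : GLK K) = el hq hK b t) :
    i2 hq hK f ψ g = orbEl (gQ K) (frK hq hK) b (pf b) (zf b) t := by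
  obtain ⟨g', hg', hi⟩ := el2 hq hK (f := f) (ψ := ψ) hb hok ht
  rwa [show g = g' from Subtype.ext (Subtype.ext (Subtype.ext (hg.trans hg'.symm)))]

theorem nw2 {w : List ℕ} (h1 : isBlk w = true) (h2 : ∀ i ∈ w, J1 i = true ∧ i < tb.l)
    (h3 : layQ.wdOK tb S1 J1 w = true) :
    ∃ g : H2 hq hK f ψ, (((g : Hc K q) : tw K q) : GLK K) = (gGL K).nw w ∧ i2 hq hK f ψ g = (gQ K).nw w := by
  obtain ⟨g, hg, hi⟩ := nw_Q hq hK h1 h2
  have hN := Plan.wMo_compat (K := K) (P := frOf hq hK chkQ) (D := layQ) (T := tb) rfl rfl h3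
  have hc : (sQ hq hK f ψ).Conj g (layQ.wMo tb K w).mv := by
    intro v
    refine (sQ hq hK f ψ).conj_of_single (fun k u => ?_) v
    simp only [Lay.wdOK, Bool.and_eq_true, List.all_eq_true, List.mem_finRange, forall_const, beq_iff_eq] at h3
    have e : (layQ.wMo tb K w).mv (Pi.single k u) =
        Pi.single (layQ.wpos tb w k) ((Grp.wSign tb w (layQ.q k) : K) * u) := by
      simp only [Mo.mv, AddMonoidHom.coe_mk, ZeroHom.coe_mk]
      rw [Finset.sum_eq_single k (fun k' _ hk' => by simp [Pi.single_eq_of_ne hk']) (by simp), Pi.single_eq_same]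
      rfl
    rw [e, Sys.Y_single]
    show iQ K q g * (gQ K).x (layQ.q k) u * (iQ K q g)⁻¹ = (gQ K).x (layQ.q (layQ.wpos tb w k)) _
    rw [(h3 k).1.1.1.2, hi]
    exact (gQ K).nw_conj (h3 k).1.1.1.1 u
  have hm : g ∈ H2 hq hK f ψ :=
    (sQ hq hK f ψ).commute_proj hc (fun _ hv => Mo.mv_mem hN hv) (Mo.mv_injective hN)
  exact ⟨⟨g, hm⟩, hg, hi⟩

variable (f ψ) in
/-- positions in the Levi complement -/
noncomputable def sys2 {m : ℕ} (l : List ℕ) (h : (layOf (m := m) l []).chk tb S1 = true)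
    (hinj : Function.Injective (layOf (m := m) l []).q)
    (hel : ∀ k, qRoot ((layOf (m := m) l []).q k) = true ∧ layQ.rootOK tb S1 ((layOf (m := m) l []).q k) = true) :
    Sys (frOf hq hK h) (Cth K ⧸ Nth K) (H2 hq hK f ψ) (W2 hq hK f ψ) :=
  Sys.ofLay (gQ K) _ rfl rfl (Lay.q_tau h) hinj (Lay.comm h (gQ K) rfl (fun r hr => by simp [layOf] at hr))
    (i2 hq hK f ψ) (f2 hq hK f ψ) (f2_ker hq hK) fun k t hok => by
      obtain ⟨g, -, hg⟩ := el2 hq hK (f := f) (ψ := ψ) (hel k).1 (hel k).2 (ok_of_fixed hq hK h rfl hinj hok)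
      exact ⟨g, hg⟩

theorem hel2 (k : Fin 9) : qRoot (layQ2.q k) = true ∧ layQ.rootOK tb S1 (layQ2.q k) = true := by
  refine ⟨qRoot_of_mem (by
    simp only [List.mem_append, List.mem_map, List.mem_finRange, true_and]
    exact Or.inl (Or.inl (Or.inl (Or.inl (Or.inl (Or.inl (Or.inr ⟨k, rfl⟩))))))), List.all_eq_true.1 roots_ok _ ?_⟩
  simp only [List.mem_append, List.mem_map, List.mem_finRange, true_and]
  exact Or.inl (Or.inr ⟨k, rfl⟩)

theorem helK2 (k : Fin 5) : qRoot (layK2.q k) = true ∧ layQ.rootOK tb S1 (layK2.q k) = true := by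
  refine ⟨qRoot_of_mem (by
    simp only [List.mem_append, List.mem_map, List.mem_finRange, true_and]
    exact Or.inl (Or.inl (Or.inl (Or.inl (Or.inr ⟨k, rfl⟩))))), List.all_eq_true.1 roots_ok _ ?_⟩
  simp only [List.mem_append, List.mem_map, List.mem_finRange, true_and]
  exact Or.inr ⟨k, rfl⟩

variable (f ψ) in
/-- the second radical -/
noncomputable def sQ2 : Sys (frOf hq hK chkQ2) (Cth K ⧸ Nth K) (H2 hq hK f ψ) (W2 hq hK f ψ) :=
  sys2 hq hK f ψ _ chkQ2 injQ2 hel2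

variable (f ψ) in
/-- its key positions -/
noncomputable def sK2 : Sys (frOf hq hK chkK2) (Cth K ⧸ Nth K) (H2 hq hK f ψ) (W2 hq hK f ψ) :=
  sys2 hq hK f ψ _ chkK2 injK2 helK2

variable (f ψ) in
/-- the orbit of a root acts trivially -/
def Triv (b : ℕ) : Prop :=
  ∀ t : K, ((b == pf b) = true → frK hq hK t = t) → ∀ g : H2 hq hK f ψ,
    (((g : Hc K q) : tw K q) : GLK K) = el hq hK b t → f2 hq hK f ψ g = 1

theorem triv_levi {e : ℕ × Bool × List ℕ} (he : e ∈ leviWord)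
    (h : Triv hq hK f ψ (bif e.2.1 then 40 else 60)) : Triv hq hK f ψ e.1 := by
  obtain ⟨b, si, w⟩ := e
  have hw := List.all_eq_true.1 levi_facts _ he
  simp only [Bool.and_eq_true, List.all_eq_true, nat_blt] at hw
  obtain ⟨⟨⟨h1, h2⟩, h3⟩, h4⟩ := hw
  obtain ⟨n, hn, -⟩ := nw2 hq hK (f := f) (ψ := ψ) h1 h2 h3
  intro t ht g hg
  obtain ⟨c, hc⟩ : ∃ c, c = (bif si then 40 else 60 : ℕ) := ⟨_, rfl⟩
  rw [← hc] at h4 h
  have h4' := h4
  simp only [wOK, Bool.and_eq_true, beq_iff_eq] at h4'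
  obtain ⟨z, hz⟩ : ∃ z : ℤ, z = Grp.wSign tb w c := ⟨_, rfl⟩
  have hz2 : (z : K) * (z : K) = 1 := by
    rcases Grp.wSign_sq (T := tb) w c with e | e <;> rw [hz, e] <;> simp
  have ht' : (c == pf c) = true → frK hq hK ((z : K) * t) = (z : K) * t := fun e => by
    rw [map_mul, map_intCast, ht (by rw [h4'.1.2]; exact e)]
  have hconj := nw_el hq hK h4 ((z : K) * t)
  rw [← hz, ← mul_assoc, hz2, one_mul, ← hn, ← hg] at hconj
  have hg' : ((((n⁻¹ * g * n : H2 hq hK f ψ) : Hc K q) : tw K q) : GLK K) = el hq hK c ((z : K) * t) := by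
    simp only [Subgroup.coe_mul, InvMemClass.coe_inv]
    rw [← hconj]
    group
  have e := h _ ht' _ hg'
  rw [map_mul, map_mul] at e
  have e' := congrArg (fun x => f2 hq hK f ψ n * x * f2 hq hK f ψ n⁻¹) e
  simp only [mul_one] at e'
  rw [← mul_assoc, ← mul_assoc, ← map_mul, mul_inv_cancel, map_one, one_mul, mul_assoc, ← map_mul, mul_inv_cancel,
    map_one, mul_one] at e'
  exact e'

theorem Triv.R_eq_one {k : Fin 9} (h : Triv hq hK f ψ (layQ2.q k)) {t : K}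
    (hok : (frOf hq hK chkQ2).Ok k t) :
    (sQ2 hq hK f ψ).R ⟨_, (frOf hq hK chkQ2).orbV_mem hok⟩ = 1 := by
  obtain ⟨g, hg, hi⟩ := el2 hq hK (f := f) (ψ := ψ) (hel2 k).1 (hel2 k).2 (ok_of_fixed hq hK chkQ2 rfl injQ2 hok)
  rw [(sQ2 hq hK f ψ).R_eq (h := g) ?_]
  · exact h t (ok_of_fixed hq hK chkQ2 rfl injQ2 hok) g hg
  · refine hi.trans ?_
    exact (pi_orbV (D := layQ2) (P := frOf hq hK chkQ2) (E := gQ K) rfl rfl (Lay.q_tau chkQ2) injQ2
      (y := (sQ2 hq hK f ψ).y) (sQ2 hq hK f ψ).comm (fun _ => rfl) k t).symm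

/-- If the distinguished root group is trivial so is the whole Levi complement. -/
theorem triv_all (h60 : Triv hq hK f ψ 60) : ∀ b ∈ leviWord.map Prod.fst, Triv hq hK f ψ b := by
  obtain ⟨hq0, hq6, hq5, hq8, m44, m39⟩ := q2_facts
  have hlong : ∀ b, (b, false) ∈ leviWord.map (fun e : ℕ × Bool × List ℕ => (e.1, e.2.1)) → Triv hq hK f ψ b := by
    intro b hb
    obtain ⟨⟨b', si, w⟩, he, heq⟩ := List.mem_map.1 hb
    simp only [Prod.mk.injEq] at heq
    obtain ⟨rfl, rfl⟩ := heq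
    exact triv_levi hq hK he h60
  have h40 : Triv hq hK f ψ 40 := by
    obtain ⟨htg, hC, hfx, h2, h3, hok, τ5, τ6, τ8, hr29⟩ := shift_facts
    obtain ⟨P, hP⟩ : ∃ P, P = frOf (K := K) hq hK chkQ2 := ⟨_, rfl⟩
    intro t ht g hg
    have hcp := (mvOK_spec (K := K) (P := frOf hq hK chkQ2) (M := layQ2.mvOf tb S1 29) (by
      simp only [Lay.rootOK, orbOK, Bool.and_eq_true] at hok
      exact hok.1.2)).1
    obtain ⟨C, hC1, hCs⟩ : ∃ C : ℤ, (layQ2.mvOf tb S1 29).s1 5 = some (6, C) ∧ (C : K) * (C : K) = 1 := by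
      rcases hC with e | e
      · exact ⟨1, e, by simp⟩
      · exact ⟨-1, e, by simp⟩
    obtain ⟨s, hs⟩ : ∃ s, s = (C : K) * t := ⟨_, rfl⟩
    have hv5 : (frOf hq hK chkQ2).Ok 5 (1 : K) := fun _ => map_one _
    have hb29 := qRoot_of_mem (b := 29) (by
      simp only [List.mem_append]; exact Or.inl (Or.inl (Or.inr hr29)))
    have hok29 : layQ.rootOK tb S1 29 = true := List.all_eq_true.1 roots_ok _ (by
      simp only [List.mem_append]; exact Or.inl (Or.inl (Or.inl (Or.inl (Or.inr hr29)))))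
    have hval : ((29 : ℕ) == pf 29) = true → frK hq hK s = s := fun e => by
      rw [show ((29 : ℕ) == pf 29) = false from hfx] at e
      exact absurd e Bool.false_ne_true
    obtain ⟨a, -, hai⟩ := el2 hq hK (f := f) (ψ := ψ) hb29 hok29 hval
    have hc := TwSpec.conj_orb (T := tb) (P := frOf hq hK chkQ2) (sQ2 hq hK f ψ) (gQ K) (q := layQ2.q)
      (dead := layQ2.dead) (fun _ => rfl) (fun r hr => by simp [layQ2, layOf] at hr) hok hai
    obtain ⟨v, hv⟩ : ∃ v : (frOf hq hK chkQ2).Vs, v = ⟨_, (frOf hq hK chkQ2).orbV_mem hv5⟩ := ⟨_, rfl⟩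
    have hAv : (layQ2.mvOf tb S1 29).mv (frOf hq hK chkQ2) s (v : Fin 9 → K) ∈ (frOf hq hK chkQ2).Vs :=
      Mv.mv_mem hcp (fun e => by rw [hfx] at e; exact absurd e Bool.false_ne_true) v.2
    obtain ⟨Av, hAve⟩ : ∃ Av : (frOf hq hK chkQ2).Vs, Av = ⟨_, hAv⟩ := ⟨_, rfl⟩
    have e5 : (sQ2 hq hK f ψ).R v = 1 := by
      rw [hv]
      exact Triv.R_eq_one hq hK (k := 5) (by rw [hq5]; exact hlong 44 m44) hv5
    have eA : (sQ2 hq hK f ψ).R Av = 1 := by
      have this : (sQ2 hq hK f ψ).f a⁻¹ * (sQ2 hq hK f ψ).R Av * (sQ2 hq hK f ψ).f a = (sQ2 hq hK f ψ).R v := by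
        rw [hAve]; exact (sQ2 hq hK f ψ).R_conj hc v hAv
      rw [e5] at this
      have e' := congrArg (fun x => (sQ2 hq hK f ψ).f a * x * (sQ2 hq hK f ψ).f a⁻¹) this
      simp only [mul_one] at e'
      rw [← mul_assoc, ← mul_assoc, TwSpec.Sys.hom_inv, one_mul, mul_assoc, TwSpec.Sys.hom_inv, mul_one] at e'
      exact e'
    have h6 : (Av : Fin 9 → K) 6 = t := by
      rw [hAve]
      show ((layQ2.mvOf tb S1 29).mv (frOf hq hK chkQ2) s (v : Fin 9 → K)) 6 = t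
      have hne : ∀ (S : Slot 9) (c : K), (∀ k i D, S k = some (i, D) → i ∈ (layQ2.mvOf tb S1 29).tgts k) →
          Mv.sv S c (v : Fin 9 → K) 6 = (S 5).elim 0 fun e => Pi.single (M := fun _ => K) e.1 ((e.2 : K) * c) 6 := by
        intro S c _
        simp only [Mv.sv, AddMonoidHom.coe_mk, ZeroHom.coe_mk, Finset.sum_apply, hv]
        rw [Finset.sum_eq_single (5 : Fin 9) (fun k _ hk => by
          have hk' : (frOf hq hK chkQ2).orbV 5 (1 : K) k = 0 := by
            simp [Fr.orbV, hk, show (frOf hq hK chkQ2).τ 5 = 5 from τ5]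
          rw [hk']
          cases S k <;> simp) (by simp), Fr.orbV_self]
        cases S 5 <;> simp
      simp only [Mv.mv, AddMonoidHom.add_apply, AddMonoidHom.id_apply, Pi.add_apply,
        hne _ _ fun k i D e => Mv.mem_tgts.2 (Or.inl ⟨D, e⟩),
        hne _ _ fun k i D e => Mv.mem_tgts.2 (Or.inr (Or.inl ⟨D, e⟩)),
        hne _ _ fun k i D e => Mv.mem_tgts.2 (Or.inr (Or.inr ⟨D, e⟩)), hC1, Option.elim_some]
      have z2 : ((layQ2.mvOf tb S1 29).s2 5).elim (0 : K) (fun e => Pi.single (M := fun _ => K) e.1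
          ((e.2 : K) * frK hq hK s) 6) = 0 := by
        cases e : (layQ2.mvOf tb S1 29).s2 5 with
        | none => rfl
        | some p =>
          simp only [e, Option.map_some, Option.some.injEq] at h2
          simp [h2]
      have z3 : ((layQ2.mvOf tb S1 29).s3 5).elim (0 : K) (fun e => Pi.single (M := fun _ => K) e.1
          ((e.2 : K) * (s * frK hq hK s)) 6) = 0 := by
        cases e : (layQ2.mvOf tb S1 29).s3 5 with
        | none => rfl
        | some p =>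
          simp only [e, Option.map_some, Option.some.injEq] at h3
          simp [h3]
      rw [show (frOf hq hK chkQ2).fr = frK hq hK from frOf_fr hq hK _, z2, z3, hv]
      simp [Fr.orbV, show (frOf hq hK chkQ2).τ 5 = 5 from τ5, hs, ← mul_assoc, hCs]
    have hother : ∀ i : Fin 9, i ≠ 5 → i ≠ 6 → i ≠ 7 → i ≠ 8 → (Av : Fin 9 → K) i = 0 := by
      intro i i5 i6 i7 i8
      rw [hAve]
      have hz : ∀ (S : Slot 9) (c : K), (∀ k i D, S k = some (i, D) → i ∈ (layQ2.mvOf tb S1 29).tgts k) →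
          Mv.sv S c (v : Fin 9 → K) i = 0 := fun S c hS => Mv.sv_apply_zero fun k D e => by
        rw [hv]
        by_cases hk : k = 5
        · subst hk
          have := hS _ _ _ e
          rw [htg] at this
          simp [i6, i7, i8] at this
        · simp [Fr.orbV, hk, show (frOf hq hK chkQ2).τ 5 = 5 from τ5]
      show ((layQ2.mvOf tb S1 29).mv (frOf hq hK chkQ2) s (v : Fin 9 → K)) i = 0
      simp only [Mv.mv, AddMonoidHom.add_apply, AddMonoidHom.id_apply, Pi.add_apply,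
        hz _ _ fun k i D e => Mv.mem_tgts.2 (Or.inl ⟨D, e⟩),
        hz _ _ fun k i D e => Mv.mem_tgts.2 (Or.inr (Or.inl ⟨D, e⟩)),
        hz _ _ fun k i D e => Mv.mem_tgts.2 (Or.inr (Or.inr ⟨D, e⟩))]
      simp [hv, Fr.orbV, i5, show (frOf hq hK chkQ2).τ 5 = 5 from τ5]
    have ok6 : (frOf hq hK chkQ2).Ok 6 t := fun e => absurd (τ6.symm.trans e) (by decide)
    have hA5 : (frOf hq hK chkQ2).Ok 5 ((Av : Fin 9 → K) 5) := fun e => (frOf hq hK chkQ2).fix_of_mem Av.2 e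
    have hA8 : (frOf hq hK chkQ2).Ok 8 ((Av : Fin 9 → K) 8) := fun e => (frOf hq hK chkQ2).fix_of_mem Av.2 e
    have hsum : Av = ⟨_, (frOf hq hK chkQ2).orbV_mem hA5⟩ + ⟨_, (frOf hq hK chkQ2).orbV_mem hA8⟩ +
        ⟨_, (frOf hq hK chkQ2).orbV_mem ok6⟩ := by
      refine Subtype.ext (funext fun i => ?_)
      simp only [AddSubgroup.coe_add, Pi.add_apply, Fr.orbV, show (frOf hq hK chkQ2).τ 5 = 5 from τ5,
        show (frOf hq hK chkQ2).τ 8 = 8 from τ8, show (frOf hq hK chkQ2).τ 6 = 7 from τ6]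
      by_cases i5 : i = 5
      · subst i5; simp
      by_cases i6 : i = 6
      · subst i6; simp [h6]
      by_cases i7 : i = 7
      · subst i7
        simp only [show (7 : Fin 9) ≠ 5 by decide, show (7 : Fin 9) ≠ 8 by decide, show (7 : Fin 9) ≠ 6 by decide,
          if_false, if_true, zero_add]
        rw [show (7 : Fin 9) = (frOf hq hK chkQ2).τ 6 from τ6.symm, (frOf hq hK chkQ2).mem_Vs.1 Av.2 6, h6]
      by_cases i8 : i = 8
      · subst i8; simp
      simp [i5, i6, i7, i8, hother i i5 i6 i7 i8]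
    rw [hsum, AddChar.map_add_eq_mul, AddChar.map_add_eq_mul,
      Triv.R_eq_one hq hK (k := 5) (by rw [hq5]; exact hlong 44 m44) hA5,
      Triv.R_eq_one hq hK (k := 8) (by rw [hq8]; exact hlong 39 m39) hA8, one_mul, one_mul] at eA
    rw [← hq6] at hg ht
    rw [← eA]
    refine ((sQ2 hq hK f ψ).R_eq ?_).symm
    refine (el2_eq hq hK (hel2 6).1 (hel2 6).2 ht hg).trans ?_
    exact (pi_orbV (D := layQ2) (P := frOf hq hK chkQ2) (E := gQ K) rfl rfl (Lay.q_tau chkQ2) injQ2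
      (y := (sQ2 hq hK f ψ).y) (sQ2 hq hK f ψ).comm (fun _ => rfl) 6 t).symm
  intro b hb
  obtain ⟨e, he, rfl⟩ := List.mem_map.1 hb
  refine triv_levi hq hK he ?_
  rcases e.2.1 with _ | _
  · exact h60
  · exact h40

/-! ### the lower bound -/

/-- the key positions inside the second radical -/
def eQ2 (j : Fin 5) : Fin 9 := ((List.finRange 9).find? fun k => layQ2.q k == layK2.q j).getD 0

theorem eQ2_key : (∀ j, eQ2 j ∈ planQ2.k0 :: planQ2.key) ∧ (∀ x ∈ planQ2.k0 :: planQ2.key, ∃ j, eQ2 j = x) ∧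
    (∀ j, layQ2.q (eQ2 j) = layK2.q j) ∧ eQ2 0 = planQ2.k0 ∧ layK2.q 0 = 60 ∧ layK2.tau 0 = 0 ∧
      tb.A 1 (layK2.q 0) = -1 := by decide +kernel

theorem embQ2 : (frOf (K := K) hq hK chkQ2).Emb (frOf hq hK chkK2) eQ2 :=
  emb_of (D := layQ2) (D' := layK2) eQ2 (by decide +kernel)
    ((frOf_fr hq hK _).trans (frOf_fr hq hK _).symm) rfl rfl rfl rfl

theorem realisedQ2 : Plan.Realised planQ2 layQ2 (gQ K) (sQ2 hq hK f ψ) where
  τ_eq := rfl
  z_eq := rfl
  hy _ := rfl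
  hdead r hr u := by simp [layQ2, layOf] at hr
  hroot b hb t ht := by
    have hb' := qRoot_of_mem (b := b) (by
      simp only [List.mem_append]
      exact Or.inl (Or.inl (Or.inr hb)))
    have hok : layQ.rootOK tb S1 b = true := List.all_eq_true.1 roots_ok _ (by
      simp only [List.mem_append]; exact Or.inl (Or.inl (Or.inl (Or.inl (Or.inr hb)))))
    obtain ⟨g, -, hg⟩ := el2 hq hK (f := f) (ψ := ψ) hb' hok ht
    exact ⟨g, hg⟩
  hword w hw := by
    have h := List.all_eq_true.1 words_ok w (by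
      simp only [List.mem_append]
      exact Or.inl (Or.inl (Or.inr hw)))
    simp only [Bool.and_eq_true, List.all_eq_true, nat_blt] at h
    obtain ⟨g, -, hg⟩ := nw2 hq hK (f := f) (ψ := ψ) h.1.1 h.1.2 h.2
    exact ⟨g, hg⟩

theorem gQ_tor (u : Kˣ) {r : ℕ} (hr : S1 r = true) (t : K) :
    QuotientGroup.mk' (Nth K) ⟨_, tor_Cth u⟩ * (gQ K).x r t * (QuotientGroup.mk' (Nth K) ⟨_, tor_Cth u⟩)⁻¹ =
      (gQ K).x r (((u ^ tb.A 1 r : Kˣ) : K) * t) := by
  rw [gQ_x hr, gQ_x hr, ← map_inv, ← map_mul, ← map_mul]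
  refine congrArg _ (Subtype.ext ?_)
  simp only [Subgroup.coe_mul, InvMemClass.coe_inv, gGL_x]
  refine tor_conj u ?_ t
  simp only [S1, com, Bool.and_eq_true, nat_blt] at hr
  exact hr.1.2

theorem q_S1 : (∀ k : Fin 20, S1 (layQ.q k) = true) ∧ ∀ k : Fin 5, S1 (layK2.q k) = true := by decide +kernel

theorem tor2 {u : Kˣ} (hu : frK hq hK (u : K) = u) :
    ∃ g : H2 hq hK f ψ, (sK2 hq hK f ψ).Conj g (tMo layK2 u).mv := by
  have hconj : (sQ hq hK f ψ).Conj ⟨⟨_, tor_tw hq hK hu⟩, tor_Cth u⟩ (tMo layQ u).mv := by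
    intro v
    refine (sQ hq hK f ψ).conj_of_single (fun k s => ?_) v
    rw [tMo_single, Sys.Y_single]
    exact gQ_tor u (q_S1.1 k) s
  have hN := tMo_compat hq hK chkQ chkExpQ hu
  have hm : (⟨⟨_, tor_tw hq hK hu⟩, tor_Cth u⟩ : Hc K q) ∈ H2 hq hK f ψ :=
    (sQ hq hK f ψ).commute_proj hconj (fun _ hv => Mo.mv_mem hN hv) (Mo.mv_injective hN)
  refine ⟨⟨_, hm⟩, fun v => ?_⟩
  refine (sK2 hq hK f ψ).conj_of_single (fun k s => ?_) v
  rw [tMo_single, Sys.Y_single]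
  exact gQ_tor u (q_S1.2 k) s

variable [FiniteDimensional ℂ W]

variable (f ψ) in
/-- the multiplicity on the second radical -/
noncomputable def m2 : ℕ := (frOf hq hK chkK2).mu ψ (sK2 hq hK f ψ).R ((frOf hq hK chkK2).orbV 0 1)

theorem mu_K2 {D : Fin 5 → K} (hD : D ∈ (frOf hq hK chkK2).Vs) (h0 : D 0 ≠ 0) :
    (frOf hq hK chkK2).mu ψ (sK2 hq hK f ψ).R D = m2 hq hK f ψ := by
  obtain ⟨-, -, -, -, -, hτ0, hA⟩ := eQ2_key
  have hfix : frK hq hK (D 0) = D 0 := (frOf hq hK chkK2).fix_of_mem hD hτ0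
  rw [const_on_key (μ := (frOf hq hK chkK2).mu ψ (sK2 hq hK f ψ).R) (k0 := (0 : Fin 5))
    (reps := layK2.mvs tb S1 repsU2) chkReach2 (fun r hr => ?_)
    (show ∀ x ∈ ([1, 2, 3, 4] : List (Fin 5)), cover layK2.tau (layK2.mvs tb S1 repsU2) x = true by decide +kernel)
    (show ∀ x : Fin 5, x = 0 ∨ x ∈ ([1, 2, 3, 4] : List (Fin 5)) ∨ x ∈ ([] : List (Fin 5)) by decide +kernel)
    hD h0 (by simp)]
  · obtain ⟨u, hu⟩ : ∃ u : Kˣ, (u : K) = D 0 := ⟨Units.mk0 _ h0, rfl⟩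
    rw [← hu] at hfix ⊢
    have hfi : frK hq hK ((u⁻¹ : Kˣ) : K) = ((u⁻¹ : Kˣ) : K) := by
      rw [Units.val_inv_eq_inv_val, map_inv₀, hfix]
    obtain ⟨g, hg⟩ := tor2 hq hK (f := f) (ψ := ψ) hfi
    rw [m2, ← (sK2 hq hK f ψ).mu_mo (tMo_compat hq hK chkK2 chkExpK2 hfi) hg ((frOf hq hK chkK2).orbV 0 1)]
    congr 1
    funext k
    simp only [Mo.tr, tMo, id_eq, Fr.orbV, show (frOf hq hK chkK2).τ 0 = 0 from hτ0]
    split_ifs with h
    · subst h
      rw [hA, zpow_neg, zpow_one, inv_inv, mul_one]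
    · rw [mul_zero]
  · obtain ⟨r', hr', rfl⟩ := List.mem_map.1 hr
    have hok := List.all_eq_true.1 chkRootK2 r' hr'
    have hb := qRoot_of_mem (b := r'.2) (by
      simp only [List.mem_append]; exact Or.inl (Or.inr (List.mem_map_of_mem hr')))
    have hq1 : layQ.rootOK tb S1 r'.2 = true := List.all_eq_true.1 roots_ok _ (by
      simp only [List.mem_append]; exact Or.inl (Or.inl (Or.inl (Or.inr (List.mem_map_of_mem hr')))))
    exact (Plan.usable (T := tb) (D := layK2) (P := frOf hq hK chkK2) (Sy := sK2 hq hK f ψ) (E := gQ K) rfl rfl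
      (fun _ => rfl) (fun r hr => by simp [layK2, layOf] at hr) hok fun t ht => by
        obtain ⟨g, -, hg⟩ := el2 hq hK (f := f) (ψ := ψ) hb hq1 ht
        exact ⟨g, hg⟩).1

theorem hkeyQ2 (hψ : ψ 1 ≠ 1) (hm : m2 hq hK f ψ = 1) :
    HKey (frOf hq hK chkQ2) ((frOf hq hK chkQ2).mu ψ (sQ2 hq hK f ψ).R) planQ2.k0 planQ2.key := by
  classical
  intro D hD h0
  have hR := (sQ2 hq hK f ψ).R_sub (sK2 hq hK f ψ) (embQ2 hq hK) rfl rfl fun j => by
    show (gQ K).x (layK2.q j) = (gQ K).x (layQ2.q (eQ2 j))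
    rw [eQ2_key.2.2.1]
  have hmem := Fr.comp_mem (embQ2 hq hK) hD
  have e := Fr.mu_restrict (ψ := ψ) hψ (embQ2 hq hK) (sQ2 hq hK f ψ).R hmem
  rw [← hR] at e
  have hset : ∀ L : (frOf hq hK chkQ2).Vs, Agree planQ2.k0 planQ2.key D (L : Fin 9 → K) ↔
      (fun j => (L : Fin 9 → K) (eQ2 j)) = fun j => D (eQ2 j) := fun L => by
    refine ⟨fun h => funext fun j => h _ (eQ2_key.1 j), fun h x hx => ?_⟩
    obtain ⟨j, rfl⟩ := eQ2_key.2.1 x hx
    exact congrFun h j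
  rw [Finset.filter_congr fun L _ => hset L, ← e, mu_K2 hq hK hmem ?_, hm]
  show D (eQ2 0) ≠ 0
  rw [eQ2_key.2.2.2.1]
  exact h0

theorem m2_ne_zero (hψ : ψ 1 ≠ 1) (h : ¬ Triv hq hK f ψ 60) : m2 hq hK f ψ ≠ 0 := by
  intro hm
  refine h fun t ht g hg => ?_
  obtain ⟨-, -, -, -, h60, hτ0, -⟩ := eQ2_key
  rw [← h60] at ht hg
  have hok : (frOf hq hK chkK2).Ok 0 t := fun e => ht (by
    rw [beq_iff_eq]
    exact ((Lay.q_tau chkK2 0).symm.trans (congrArg layK2.q e)).symm)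
  by_contra hne
  obtain ⟨v, hv⟩ : ∃ v : (frOf hq hK chkK2).Vs, v = ⟨_, (frOf hq hK chkK2).orbV_mem hok⟩ := ⟨_, rfl⟩
  have hR : (sK2 hq hK f ψ).R v = f2 hq hK f ψ g := by
    refine (sK2 hq hK f ψ).R_eq ?_
    refine (el2_eq hq hK (helK2 0).1 (helK2 0).2 ht hg).trans ?_
    rw [hv]
    exact (pi_orbV (D := layK2) (P := frOf hq hK chkK2) (E := gQ K) rfl rfl (Lay.q_tau chkK2) injK2
      (y := (sK2 hq hK f ψ).y) (sK2 hq hK f ψ).comm (fun _ => rfl) 0 t).symm
  refine hne ?_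
  rw [← hR]
  calc (sK2 hq hK f ψ).R v = (sK2 hq hK f ψ).R v * ∑ χ, ReeRep.proj (sK2 hq hK f ψ).R χ := by
        rw [ReeRep.sum_proj, mul_one]
    _ = ∑ χ, ReeRep.proj (sK2 hq hK f ψ).R χ := by
      rw [Finset.mul_sum]
      refine Finset.sum_congr rfl fun χ _ => ?_
      rw [ReeRep.mul_proj]
      obtain ⟨L, rfl⟩ := ((frOf hq hK chkK2).chi_bijective hψ).2 χ
      by_cases h0 : (L : Fin 5 → K) 0 = 0
      · rw [Fr.chi_apply, hv, Fr.pair_orbV _ L.2, h0]
        simp [show (frOf hq hK chkK2).τ 0 = 0 from hτ0]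
      · have hz : ReeRep.proj (sK2 hq hK f ψ).R ((frOf hq hK chkK2).chi ψ L) = 0 := by
          by_contra h
          refine ReeRep.mult_ne_zero.2 h ?_
          exact (mu_K2 hq hK L.2 h0).trans hm
        rw [hz, smul_zero]
    _ = 1 := ReeRep.sum_proj _

theorem finrank_W2 (hψ : ψ 1 ≠ 1) (h : ¬ Triv hq hK f ψ 60) :
    (q - 1) * (q ^ 4 + q ^ 2 + 1) ≤ finrank ℂ (W2 hq hK f ψ) := by
  classical
  have hm := m2_ne_zero hq hK hψ h
  rcases (show m2 hq hK f ψ = 1 ∨ 2 ≤ m2 hq hK f ψ by omega) with h1 | h2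
  · have e := Plan.lower (T := tb) (E := gQ K) (realisedQ2 hq hK (f := f) (ψ := ψ)) (C := planQ2) (D := layQ2)
      chkPlanQ2 hK (card_fix hq hK) hψ (hkeyQ2 hq hK hψ h1)
    refine le_trans (le_of_eq ?_) ((Nat.le_add_left _ _).trans e)
    rw [Plan.total, show planQ2.cells.map (fun c => (q - 1) * q ^ (freeSet planQ2.key c.A).card) =
      (planQ2.cells.map fun c => (freeSet planQ2.key c.A).card).map (fun e => (q - 1) * q ^ e) by
        rw [List.map_map]; rfl, freeQ2]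
    simp only [List.map_cons, List.map_nil, List.sum_cons, List.sum_nil]
    ring
  · rw [← (frOf hq hK chkK2).sum_mu hψ (sK2 hq hK f ψ).R]
    refine le_trans ?_ (Finset.sum_le_sum_of_subset (Finset.subset_univ
      ((Finset.univ : Finset (frOf hq hK chkK2).Vs).filter fun L : (frOf hq hK chkK2).Vs => ¬ (L : Fin 5 → K) 0 = 0)))
    rw [Finset.sum_congr rfl fun L hL => mu_K2 hq hK L.2 (Finset.mem_filter.1 hL).2, Finset.sum_const, smul_eq_mul]
    have c1 := card_slice (q := q) (frOf hq hK chkK2) (card_fix hq hK) hK (zero_mem _) ({0} : Finset (Fin 5))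
      (fun i hi => by rw [Finset.mem_singleton.1 hi]; exact Finset.mem_singleton.2 eQ2_key.2.2.2.2.2.1)
    have c0 := card_slice (q := q) (frOf hq hK chkK2) (card_fix hq hK) hK (zero_mem _) (∅ : Finset (Fin 5)) (by simp)
    simp only [Finset.mem_singleton, forall_eq, Pi.zero_apply, Finset.card_singleton] at c1
    simp only [Finset.notMem_empty, false_implies, implies_true, Finset.filter_true, Finset.card_empty] at c0
    have c3 := Finset.card_filter_add_card_filter_not (s := (Finset.univ : Finset (frOf hq hK chkK2).Vs))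
      (fun L => (L : Fin 5 → K) 0 = 0)
    rw [c1, c0] at c3
    rw [Nat.eq_sub_of_add_eq' c3]
    refine le_trans ?_ (Nat.mul_le_mul_left _ h2)
    obtain ⟨t, rfl⟩ : ∃ t, q = t + 2 := ⟨q - 2, by have := hq.two_le; omega⟩
    rw [show t + 2 - 1 = t + 1 from rfl, show (5 : ℕ) - 0 = 5 from rfl, show (5 : ℕ) - 1 = 4 from rfl,
      show (t + 2) ^ 5 - (t + 2) ^ 4 = (t + 1) * (t + 2) ^ 4 by rw [Nat.sub_eq_iff_eq_add' (Nat.pow_le_pow_right (by omega) (by omega))]; ring,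
      mul_assoc]
    refine Nat.mul_le_mul_left _ ?_
    nlinarith [Nat.pow_le_pow_left (show 2 ≤ t + 2 by omega) 2, Nat.zero_le ((t + 2) ^ 2)]

end Cfsg.Agent.MinDegreeTwE6
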