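/-
If the Levi complement is trivial on the fixed space of the radical, that space vanishes.
-/
import Cfsg.Agent.Lib.MinDegree.TwE6Level2

set_option autoImplicit false
set_option maxRecDepth 20000

namespace Cfsg.Agent.MinDegreeTwE6

open LinearMap Module Cfsg.Lie Cfsg.Agent.Chev Cfsg.Agent.Chev.Tab Cfsg.Agent.Heis Cfsg.Agent.TwSpec

/-- the roots fixing the fixed space of the radical -/
def invRoots : List ℕ := 71 :: (List.finRange 20).map layQ.q

theorem shift2_facts : (((List.finRange 20).all fun k => k == 19 ||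
    wOK [1] (tb.rw' [1] (layQ.q k)) (layQ.q k) &&
      (invRoots ++ leviWord.map Prod.fst).contains (tb.rw' [1] (layQ.q k))) &&
    wOK [1] 70 71 && (invRoots ++ leviWord.map Prod.fst).all elOK) = true := by decide +kernel

theorem mid_facts : layQ.q 19 = 46 ∧ layQ.q 18 = 47 ∧ layQ.q 0 = 70 ∧ S1 46 = true ∧
    (∀ b ∈ [24, 25, 32, 39, 46, 47, 71], elOK b = true ∧ (b == pf b) = true) ∧
    (∀ b ∈ [32, 39, 56, 15, 42, 29], b ∈ leviWord.map Prod.fst) := by decide +kernel

theorem word_facts : wOK [1] 25 46 = true ∧ wOK [3] 25 24 = true ∧ wOK [1] 24 32 = true ∧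
    wOK [1] 24 32 = true ∧ wOK [3] 24 25 = true ∧ wOK [1] 39 47 = true ∧ wOK [3] 39 32 = true ∧
      wOK [1] 32 24 = true := by decide +kernel

theorem bra_facts : com tb all1 71 46 = true ∧ com tb all1 46 32 = true ∧
    bra tb all1 47 32 46 = true ∧ bra tb all1 39 24 25 = true := by decide +kernel

theorem simple_facts : tb.smp 1 = 46 ∧ tb.neg (tb.smp 1) = 25 ∧ tb.smp 3 = 39 ∧ tb.neg (tb.smp 3) = 32 ∧
    e6p2 = 46 ∧ e6m2 = 25 ∧ e6p4 = 39 ∧ e6m4 = 32 ∧
    (e6p1 = 56 ∧ e6p6 = pf 56 ∧ zf 56 = 1 ∧ (56 == pf 56) = false) ∧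
    (e6m1 = 15 ∧ e6m6 = pf 15 ∧ zf 15 = 1 ∧ (15 == pf 15) = false) ∧
    (e6p3 = 42 ∧ e6p5 = pf 42 ∧ zf 42 = 1 ∧ (42 == pf 42) = false) ∧
    (e6m3 = 29 ∧ e6m5 = pf 29 ∧ zf 29 = 1 ∧ (29 == pf 29) = false) := by decide +kernel

variable {K : Type*} [Field K] [Fintype K] [DecidableEq K] {q : ℕ} (hq : IsPrimePow q)
  (hK : Fintype.card K = q ^ 2)
variable {W : Type*} [AddCommGroup W] [Module ℂ W] (f : tw K q →* Module.End ℂ W)

/-- the parameters allowed at a root -/
def Val (b : ℕ) (t : K) : Prop := (b == pf b) = true → frK hq hK t = t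

open scoped Classical in
/-- the element of an orbit inside the twisted group -/
noncomputable def gf (b : ℕ) (t : K) : tw K q :=
  if h : el hq hK b t ∈ tw K q then ⟨_, h⟩ else 1

theorem gf_val {b : ℕ} (hb : elOK b = true) {t : K} (ht : Val hq hK b t) :
    ((gf hq hK b t : tw K q) : GLK K) = el hq hK b t := by
  rw [gf, dif_pos (el_mem hq hK hb ht)]

theorem el_mid {b : ℕ} (hb : (b == pf b) = true) (t : K) : el hq hK b t = (gGL K).x b t := by
  simp [el, orbEl, hb]

/-- the orbit of a root fixes a vector -/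
def Fx (b : ℕ) (x : W) : Prop := ∀ t : K, Val hq hK b t → f (gf hq hK b t) x = x

/-- the radical fixes a vector -/
def Inv (x : W) : Prop := ∀ b ∈ invRoots, Fx hq hK f b x

theorem invRoots_ok {b : ℕ} (hb : b ∈ invRoots) : elOK b = true := by
  have h := shift2_facts
  simp only [Bool.and_eq_true] at h
  exact List.all_eq_true.1 h.2 b (List.mem_append_left _ hb)

theorem levi_ok {b : ℕ} (hb : b ∈ leviWord.map Prod.fst) : elOK b = true := by
  have h := shift2_facts
  simp only [Bool.and_eq_true] at h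
  exact List.all_eq_true.1 h.2 b (List.mem_append_right _ hb)

variable {f} {ψ : AddChar K ℂ}

theorem mem_W1_of {x : W} (h : Fx hq hK f 71 x) : x ∈ W1 hq hK f ψ := by
  obtain ⟨-, -, -, -, hmid, -⟩ := mid_facts
  refine (mem_W1_iff hq hK x).2 fun g hg => ?_
  obtain ⟨s, hs⟩ := hg
  have hfix : frK hq hK s = s := th_fix hq hK (hs ▸ g.2)
  have e : g = gf hq hK 71 s := Subtype.ext (by
    rw [gf_val hq hK (hmid 71 (by simp)).1 (fun _ => hfix), el_mid hq hK (hmid 71 (by simp)).2, hs]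
    rfl)
  rw [e]
  exact h s fun _ => hfix

theorem ok_el (k : Fin 20) {t : K} (ht : Val hq hK (layQ.q k) t) : (frOf hq hK chkQ).Ok k t := fun e => ht (by
  rw [beq_iff_eq]
  exact ((Lay.q_tau chkQ k).symm.trans (congrArg layQ.q e)).symm)

theorem R_el (k : Fin 20) {t : K} (ht : Val hq hK (layQ.q k) t) (hok : (frOf hq hK chkQ).Ok k t) :
    ∃ g : Hc K q, (g : tw K q) = gf hq hK (layQ.q k) t ∧
      (sQ hq hK f ψ).R ⟨_, (frOf hq hK chkQ).orbV_mem hok⟩ = f1 hq hK f ψ g := by
  have hk := qRoot_of_mem (b := layQ.q k) (by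
    simp only [List.mem_append, List.mem_map, List.mem_finRange, true_and]
    exact Or.inl (Or.inl (Or.inl (Or.inl (Or.inl (Or.inl (Or.inl ⟨k, rfl⟩)))))))
  simp only [qRoot, Bool.and_eq_true] at hk
  obtain ⟨g, hg, hi⟩ := el_Q hq hK hk.1.1 hk.1.2 hk.2 ht
  refine ⟨g, Subtype.ext (hg.trans (gf_val hq hK hk.1.1 ht).symm), ?_⟩
  refine (sQ hq hK f ψ).R_eq (hi.trans ?_)
  exact (pi_orbV (D := layQ) (P := frOf hq hK chkQ) (E := gQ K) rfl rfl (Lay.q_tau chkQ) injQ
    (y := (sQ hq hK f ψ).y) (sQ hq hK f ψ).comm (fun _ => rfl) k t).symm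

theorem inv_mem_W2 {x : W} (h : Inv hq hK f x) :
    ∃ hx : x ∈ W1 hq hK f ψ, (⟨x, hx⟩ : W1 hq hK f ψ) ∈ W2 hq hK f ψ := by
  refine ⟨mem_W1_of hq hK (h 71 List.mem_cons_self), ?_⟩
  rw [W2, e2, Heis.mem_range_proj]
  rintro ⟨v, hv⟩
  rw [chi_zero, one_smul]
  refine (frOf hq hK chkQ).induction (p := fun v => ∀ hv : v ∈ (frOf hq hK chkQ).Vs,
    (sQ hq hK f ψ).R ⟨v, hv⟩ ⟨x, mem_W1_of hq hK (h 71 List.mem_cons_self)⟩ =
      ⟨x, mem_W1_of hq hK (h 71 List.mem_cons_self)⟩) ?_ (fun k t hok hw => ?_) (fun a b ha hb iha ihb hw => ?_) hv hv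
  · intro hv
    rw [show (⟨0, hv⟩ : (frOf hq hK chkQ).Vs) = 0 from rfl, AddChar.map_zero_eq_one]
    rfl
  · have ht : Val hq hK (layQ.q k) t := ok_of_fixed hq hK chkQ rfl injQ hok
    obtain ⟨g, hg, hR⟩ := R_el hq hK (f := f) (ψ := ψ) k ht hok
    refine (LinearMap.congr_fun hR _).trans (Subtype.ext ?_)
    rw [f1_val, hg]
    exact h _ (List.mem_cons_of_mem _ (List.mem_map.2 ⟨k, List.mem_finRange k, rfl⟩)) t ht
  · rw [show (⟨a + b, hw⟩ : (frOf hq hK chkQ).Vs) = ⟨a, ha⟩ + ⟨b, hb⟩ from rfl, AddChar.map_add_eq_mul,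
      Module.End.mul_apply, ihb hb, iha ha]

theorem fixed_levi (hall : ∀ b ∈ leviWord.map Prod.fst, Triv hq hK f ψ b) {x : W} (h : Inv hq hK f x)
    {b : ℕ} (hb : b ∈ leviWord.map Prod.fst) : Fx hq hK f b x := by
  intro t ht
  obtain ⟨hx, hx2⟩ := inv_mem_W2 hq hK (ψ := ψ) h
  have hr : layQ.rootOK tb S1 b = true := List.all_eq_true.1 roots_ok _ (by
    simp only [List.mem_append]; exact Or.inl (Or.inl (Or.inr hb)))
  obtain ⟨g, hg, -⟩ := el2 hq hK (f := f) (ψ := ψ)
    (qRoot_of_mem (b := b) (by simp only [List.mem_append]; exact Or.inr hb)) hr ht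
  have e := hall b hb t ht g hg
  have e' := congrArg (fun F : Module.End ℂ (W2 hq hK f ψ) => (((F ⟨_, hx2⟩ : W2 hq hK f ψ) : W1 hq hK f ψ) : W)) e
  simp only [f2_val, Module.End.one_apply] at e'
  rw [show gf hq hK b t = ((g : Hc K q) : tw K q) from
    Subtype.ext ((gf_val hq hK (levi_ok hb) ht).trans hg.symm)]
  exact e'

variable (f)

/-- the reflection moving the long root -/
noncomputable def n2 : tw K q := ⟨(gGL K).nw [1], nw_mem hq hK (by decide)⟩

/-- the reflection of the branch node -/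
noncomputable def n4 : tw K q := gf hq hK 39 1 * gf hq hK 32 (-1) * gf hq hK 39 1

/-- their product -/
noncomputable def gg : tw K q := n2 hq hK * n4 hq hK * (n2 hq hK)⁻¹

theorem n4_val : ((n4 hq hK : tw K q) : GLK K) = (gGL K).nw [3] := by
  obtain ⟨-, -, -, -, hmid, -⟩ := mid_facts
  obtain ⟨-, -, h3, h3', -⟩ := simple_facts
  rw [n4, Subgroup.coe_mul, Subgroup.coe_mul, gf_val hq hK (hmid 39 (by simp)).1 (fun _ => map_one _),
    gf_val hq hK (hmid 32 (by simp)).1 (fun _ => by rw [map_neg, map_one]), el_mid hq hK (hmid 39 (by simp)).2,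
    el_mid hq hK (hmid 32 (by simp)).2]
  show _ = nG TwE6.g0 K 3 * 1
  rw [mul_one, nG, h3', h3]
  rfl

theorem gg_conj {a b c d : ℕ} (hb : b ∈ [24, 25, 32, 39, 46, 47])
    (hd : d ∈ [24, 25, 32, 39, 46, 47])
    (h1 : wOK [1] a b = true) (h2 : wOK [3] a c = true) (h3 : wOK [1] c d = true) :
    ∃ z : K, z ≠ 0 ∧ frK hq hK z = z ∧ ∀ t : K, frK hq hK t = t →
      gg hq hK * gf hq hK b t = gf hq hK d (z * t) * gg hq hK := by
  obtain ⟨-, -, -, -, hmid, -⟩ := mid_facts
  have mid : ∀ {x : ℕ}, x ∈ [24, 25, 32, 39, 46, 47] → elOK x = true ∧ (x == pf x) = true := fun {x} hx =>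
    hmid x (by simp only [List.mem_cons, List.not_mem_nil, or_false] at hx ⊢; tauto)
  obtain ⟨s1, e1⟩ : ∃ s : ℤ, s = Grp.wSign tb [1] a := ⟨_, rfl⟩
  obtain ⟨s2, e2⟩ : ∃ s : ℤ, s = Grp.wSign tb [3] a := ⟨_, rfl⟩
  obtain ⟨s3, e3⟩ : ∃ s : ℤ, s = Grp.wSign tb [1] c := ⟨_, rfl⟩
  have hs : ∀ (w : List ℕ) (x : ℕ) (s : ℤ), s = Grp.wSign tb w x → (s : K) * (s : K) = 1 := fun w x s e => by
    rcases Grp.wSign_sq (T := tb) w x with e' | e' <;> rw [e, e'] <;> simp
  refine ⟨(s3 : K) * (s2 : K) * (s1 : K), ?_, ?_, fun t ht => ?_⟩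
  · intro h
    have : ((s3 : K) * (s2 : K) * (s1 : K)) * ((s1 : K) * (s2 : K) * (s3 : K)) = 1 := by
      linear_combination ((s3 : K) * (s3 : K) * ((s2 : K) * (s2 : K))) * hs _ _ _ e1 +
        ((s3 : K) * (s3 : K)) * hs _ _ _ e2 + hs _ _ _ e3
    rw [h, zero_mul] at this
    exact zero_ne_one this
  · simp
  · have hfd : frK hq hK ((s3 : K) * (s2 : K) * (s1 : K) * t) = (s3 : K) * (s2 : K) * (s1 : K) * t := by
      simp [ht]
    refine Subtype.ext ?_
    simp only [gg, Subgroup.coe_mul, InvMemClass.coe_inv, n4_val,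
      gf_val hq hK (mid hb).1 (fun _ => ht), gf_val hq hK (mid hd).1 (fun _ => hfd)]
    show (gGL K).nw [1] * (gGL K).nw [3] * ((gGL K).nw [1])⁻¹ * el hq hK b t =
      el hq hK d _ * ((gGL K).nw [1] * (gGL K).nw [3] * ((gGL K).nw [1])⁻¹)
    have c1 := nw_el hq hK h1 ((s1 : K) * t)
    rw [← e1, ← mul_assoc, hs _ _ _ e1, one_mul] at c1
    have c2 := nw_el hq hK h2 ((s1 : K) * t)
    rw [← e2] at c2
    have c3 := nw_el hq hK h3 ((s2 : K) * ((s1 : K) * t))
    rw [← e3] at c3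
    rw [show (s3 : K) * (s2 : K) * (s1 : K) * t = (s3 : K) * ((s2 : K) * ((s1 : K) * t)) by ring, ← c1, ← c3,
      ← c2]
    group

theorem f_gg {b d : ℕ} {z t : K} (h : gg hq hK * gf hq hK b t = gf hq hK d (z * t) * gg hq hK) (x : W) :
    f (gg hq hK) (f (gf hq hK b t) x) = f (gf hq hK d (z * t)) (f (gg hq hK) x) := by
  rw [← Module.End.mul_apply, ← map_mul, h, map_mul, Module.End.mul_apply]

variable {f}

theorem gf_add {b : ℕ} (hb : b ∈ [24, 25, 32, 39, 46, 47, 71]) {s t : K} (hs : frK hq hK s = s)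
    (ht : frK hq hK t = t) : gf hq hK b (s + t) = gf hq hK b s * gf hq hK b t := by
  obtain ⟨-, -, -, -, hmid, -⟩ := mid_facts
  refine Subtype.ext ?_
  rw [Subgroup.coe_mul, gf_val hq hK (hmid b hb).1 (fun _ => by rw [map_add, hs, ht]),
    gf_val hq hK (hmid b hb).1 (fun _ => hs), gf_val hq hK (hmid b hb).1 (fun _ => ht),
    el_mid hq hK (hmid b hb).2, el_mid hq hK (hmid b hb).2, el_mid hq hK (hmid b hb).2]
  exact AddChar.map_add_eq_mul _ _ _

theorem gf_mid {b : ℕ} (hb : b ∈ [24, 25, 32, 39, 46, 47, 71]) {t : K} (ht : frK hq hK t = t) :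
    ((gf hq hK b t : tw K q) : GLK K) = (gGL K).x b t := by
  obtain ⟨-, -, -, -, hmid, -⟩ := mid_facts
  rw [gf_val hq hK (hmid b hb).1 (fun _ => ht), el_mid hq hK (hmid b hb).2]

theorem f_comm {g h : tw K q} (e : g * h = h * g) (x : W) : f g (f h x) = f h (f g x) := by
  rw [← Module.End.mul_apply, ← map_mul, e, map_mul, Module.End.mul_apply]

/-- a vector fixed by the generators is fixed -/
theorem fixed_all {x : W} (h : ∀ b ∈ [46, 25, 39, 32, 56, 15, 42, 29], Fx hq hK f b x) (g : tw K q) :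
    f g x = x := by
  obtain ⟨-, -, -, -, m2', m2n, m4', m4n, hp1, hm1, hp3, hm3⟩ := simple_facts
  obtain ⟨-, -, -, -, hmid, hlev⟩ := mid_facts
  obtain ⟨g, hg⟩ := g
  have key : ∃ hg : g ∈ tw K q, f ⟨g, hg⟩ x = x := by
    have hg' : g ∈ E6Data.tab.D.genSubgroup K (e6Words K q) := hg
    rw [genSubgroup_eq TwE6.g0] at hg'
    clear hg
    induction hg' using Subgroup.closure_induction with
    | mem y hy =>
      obtain ⟨w, hw, rfl⟩ := hy
      refine ⟨word_mem TwE6.g0 hw, ?_⟩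
      rcases hw with ⟨t, ht, r, hr, rfl⟩ | ⟨t, rs, hrs, rfl⟩
      · have ht' : frK hq hK t = t := by rw [TwE6.psi_apply]; exact ht
        rw [m2', m2n, m4', m4n] at hr
        have hr' : r ∈ [24, 25, 32, 39, 46, 47, 71] := by
          simp only [List.mem_cons, List.not_mem_nil, or_false] at hr ⊢; tauto
        refine Eq.trans ?_ (h r (by simp only [List.mem_cons, List.not_mem_nil, or_false] at hr ⊢; tauto) t fun _ => ht')
        refine LinearMap.congr_fun (congrArg f (Subtype.ext ?_)) x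
        rw [gf_mid hq hK hr' ht']
        simp [gGL_x]
      · have key2 : ∀ a, a ∈ [56, 15, 42, 29] → zf a = 1 → (a == pf a) = false →
            ∀ hmem : (([(a, t), (pf a, t ^ q)] : List (ℕ × K)).map fun e => xg TwE6.g0 e.1 e.2).prod ∈ tw K q,
              f ⟨_, hmem⟩ x = x := by
          intro a ha hz hb hmem
          have hv : Val hq hK a t := fun e => absurd (hb.symm.trans e) Bool.false_ne_true
          refine Eq.trans ?_ (h a (by simp only [List.mem_cons, List.not_mem_nil, or_false] at ha ⊢; tauto) t hv)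
          refine LinearMap.congr_fun (congrArg f (Subtype.ext ?_)) x
          rw [gf_val hq hK (levi_ok (hlev a (by simp only [List.mem_cons, List.not_mem_nil, or_false] at ha ⊢; tauto))) hv]
          simp only [el, orbEl, hb, cond_false, hz, Int.cast_one, one_mul, TwE6.psi_apply, frK, gGL_x,
            List.map_cons, List.map_nil, List.prod_cons, List.prod_nil, mul_one]
        simp only [List.mem_cons, List.not_mem_nil, or_false] at hrs
        rcases hrs with rfl | rfl | rfl | rfl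
        · simp only [hp1.1, hp1.2.1]
          exact key2 56 (by simp) hp1.2.2.1 hp1.2.2.2 _
        · simp only [hm1.1, hm1.2.1]
          exact key2 15 (by simp) hm1.2.2.1 hm1.2.2.2 _
        · simp only [hp3.1, hp3.2.1]
          exact key2 42 (by simp) hp3.2.2.1 hp3.2.2.2 _
        · simp only [hm3.1, hm3.2.1]
          exact key2 29 (by simp) hm3.2.2.1 hm3.2.2.2 _
    | one => exact ⟨one_mem _, by rw [show (⟨1, one_mem _⟩ : tw K q) = 1 from rfl, map_one]; rfl⟩
    | mul y z _ _ hy hz =>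
      obtain ⟨hy, ey⟩ := hy
      obtain ⟨hz, ez⟩ := hz
      refine ⟨mul_mem hy hz, ?_⟩
      rw [show (⟨y * z, mul_mem hy hz⟩ : tw K q) = ⟨y, hy⟩ * ⟨z, hz⟩ from rfl, map_mul, Module.End.mul_apply, ez, ey]
    | inv y _ hy =>
      obtain ⟨hy, ey⟩ := hy
      refine ⟨inv_mem hy, ?_⟩
      have e : f (⟨y, hy⟩ : tw K q)⁻¹ (f ⟨y, hy⟩ x) = x := by
        rw [← Module.End.mul_apply, ← map_mul, inv_mul_cancel, map_one]; rfl
      rw [ey] at e
      exact e
  obtain ⟨_, e⟩ := key
  exact e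

theorem bra_int {a b r : ℕ} (h : bra tb all1 a b r = true) :
    ∃ C : ℤ, (C : K) * (C : K) = 1 ∧ ∀ t u : K,
      (gGL K).x a t * (gGL K).x b u = (gGL K).x b u * (gGL K).x a t * (gGL K).x r ((C : K) * t * u) := by
  have h' := h
  simp only [bra, Bool.and_eq_true] at h'
  obtain ⟨⟨⟨-, hs⟩, har⟩, hbr⟩ := h'
  obtain ⟨C, hs', hC⟩ : ∃ C : ℤ, sumR tb a b = some (r, C) ∧ (C = 1 ∨ C = -1) := by
    revert hs
    cases sumR tb a b with
    | none => simp
    | some p => obtain ⟨r', C⟩ := p; simp +contextual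
  refine ⟨C, by rcases hC with rfl | rfl <;> simp, fun t u => ?_⟩
  have e := (gGL K).bracket_comm h hs' t u
  rw [commutatorElement_def] at e
  calc (gGL K).x a t * (gGL K).x b u
      = ((gGL K).x a t * (gGL K).x b u * ((gGL K).x a t)⁻¹ * ((gGL K).x b u)⁻¹) * ((gGL K).x b u * (gGL K).x a t) := by
        group
    _ = _ := by
        rw [e]
        exact (((gGL K).commute hbr _ _).mul_left ((gGL K).commute har _ _)).eq.symm

theorem W2_bot (hall : ∀ b ∈ leviWord.map Prod.fst, Triv hq hK f ψ b)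
    (hfix : ∀ x : W, (∀ g : tw K q, f g x = x) → x = 0) : W2 hq hK f ψ = ⊥ := by
  classical
  obtain ⟨hq19, hq18, hq0, hS46, hmid, hlev⟩ := mid_facts
  obtain ⟨w25, w25', w24, -, w24', w39, w39', w32⟩ := word_facts
  obtain ⟨c71, c4632, br47, br39⟩ := bra_facts
  rw [Submodule.eq_bot_iff]
  intro u hu
  obtain ⟨u0, hu0⟩ : ∃ u0 : W, u0 = (u : W) := ⟨_, rfl⟩
  have hInv : Inv hq hK f u0 := by
    intro b hb t ht
    rw [hu0]
    rcases List.mem_cons.1 hb with rfl | hb
    · have hfx : frK hq hK t = t := ht (hmid 71 (by simp)).2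
      exact (mem_W1_iff hq hK (u : W)).1 u.2 _ ⟨t, gf_mid hq hK (by simp) hfx⟩
    · obtain ⟨k, -, rfl⟩ := List.mem_map.1 hb
      obtain ⟨g, hg, hR⟩ := R_el hq hK (f := f) (ψ := ψ) k ht (ok_el hq hK k ht)
      have e := (Heis.mem_range_proj _ u).1 hu ⟨_, (frOf hq hK chkQ).orbV_mem (ok_el hq hK k ht)⟩
      rw [hR, chi_zero, one_smul] at e
      have e' := congrArg (Subtype.val : W1 hq hK f ψ → W) e
      rw [f1_val, hg] at e'
      exact e'
  obtain ⟨w, hw⟩ : ∃ w, w = f (n2 hq hK) u0 := ⟨_, rfl⟩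
  have hwfix : ∀ b ∈ invRoots, b ≠ 46 → Fx hq hK f b w := by
    intro b hb hne t ht
    have h := shift2_facts
    simp only [Bool.and_eq_true] at h
    obtain ⟨⟨hk, h7⟩, -⟩ := h
    obtain ⟨b', hwb, hb'⟩ : ∃ b', wOK [1] b' b = true ∧ b' ∈ invRoots ++ leviWord.map Prod.fst := by
      rcases List.mem_cons.1 hb with rfl | hb
      · exact ⟨70, h7, List.mem_append_left _ (by
          rw [← hq0]; exact List.mem_cons_of_mem _ (List.mem_map.2 ⟨0, List.mem_finRange _, rfl⟩))⟩
      · obtain ⟨k, -, rfl⟩ := List.mem_map.1 hb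
        have := List.all_eq_true.1 hk k (List.mem_finRange k)
        simp only [Bool.or_eq_true, beq_iff_eq, Bool.and_eq_true, List.contains_iff_mem] at this
        rcases this with rfl | ⟨h1, h2⟩
        · exact absurd hq19 hne
        · exact ⟨_, h1, h2⟩
    obtain ⟨s, es⟩ : ∃ s : ℤ, s = Grp.wSign tb [1] b' := ⟨_, rfl⟩
    have hs : (s : K) * (s : K) = 1 := by
      rcases Grp.wSign_sq (T := tb) [1] b' with e' | e' <;> rw [es, e'] <;> simp
    have hwb' := hwb
    simp only [wOK, Bool.and_eq_true, beq_iff_eq] at hwb'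
    have ht' : Val hq hK b' ((s : K) * t) := fun e => by
      rw [map_mul, map_intCast, ht (by rw [hwb'.1.2]; exact e)]
    have hok' : elOK b' = true := (List.mem_append.1 hb').elim invRoots_ok levi_ok
    have hu' : f (gf hq hK b' ((s : K) * t)) u0 = u0 :=
      (List.mem_append.1 hb').elim (fun h => hInv b' h _ ht') (fun h => fixed_levi hq hK hall hInv h _ ht')
    have e : gf hq hK b t * n2 hq hK = n2 hq hK * gf hq hK b' ((s : K) * t) := by
      refine Subtype.ext ?_
      simp only [Subgroup.coe_mul, gf_val hq hK (invRoots_ok hb) ht, gf_val hq hK hok' ht', n2]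
      have c1 := nw_el hq hK hwb ((s : K) * t)
      rw [← es, ← mul_assoc, hs, one_mul] at c1
      rw [← c1, inv_mul_cancel_right]
    rw [hw, ← Module.End.mul_apply, ← map_mul, e, map_mul, Module.End.mul_apply, hu']
  have h47r : (47 : ℕ) ∈ invRoots := by
    rw [← hq18]; exact List.mem_cons_of_mem _ (List.mem_map.2 ⟨18, List.mem_finRange _, rfl⟩)
  have h71r : (71 : ℕ) ∈ invRoots := List.mem_cons_self
  have hw1 : w ∈ W1 hq hK f ψ := mem_W1_of hq hK (hwfix 71 h71r (by decide))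
  obtain ⟨S, hS⟩ : ∃ S : W, S = ∑ s : {t : K // frK hq hK t = t}, f (gf hq hK 46 s.1) w := ⟨_, rfl⟩
  obtain ⟨T, hT⟩ : ∃ T : W, T = ∑ s : {t : K // frK hq hK t = t}, f (gf hq hK 32 s.1) w := ⟨_, rfl⟩
  have hcard : (Fintype.card {t : K // frK hq hK t = t} : ℂ) = (q : ℂ) := by
    rw [← Nat.card_eq_fintype_card, card_fix hq hK]
  have hqne : (q : ℂ) ≠ 0 := Nat.cast_ne_zero.2 hq.pos.ne'
  have smul_bij : ∀ z : K, z ≠ 0 → ∀ hzf : frK hq hK z = z,
      Function.Bijective (fun s : {t : K // frK hq hK t = t} =>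
        (⟨z * s.1, by rw [map_mul, s.2, hzf]⟩ : {t : K // frK hq hK t = t})) := fun z hz _ =>
    Finite.injective_iff_bijective.1 fun s s' e => Subtype.ext (mul_left_cancel₀ hz (congrArg Subtype.val e))
  have hSinv : Inv hq hK f S := by
    intro b hb t ht
    rw [hS, map_sum]
    by_cases h46 : b = 46
    · subst h46
      have hfx : frK hq hK t = t := ht (hmid 46 (by simp)).2
      refine Fintype.sum_bijective (fun s : {t : K // frK hq hK t = t} =>
        (⟨t + s.1, by rw [map_add, hfx, s.2]⟩ : {t : K // frK hq hK t = t}))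
        (Finite.injective_iff_bijective.1 fun s s' e => Subtype.ext (add_left_cancel (congrArg Subtype.val e))) _ _
        fun s => ?_
      rw [← Module.End.mul_apply, ← map_mul, gf_add hq hK (by simp) hfx s.2]
    · refine Finset.sum_congr rfl fun s _ => ?_
      have hwb := hwfix b hb h46 t ht
      suffices e : f (gf hq hK b t) (f (gf hq hK 46 s.1) w) = f (gf hq hK 46 s.1) (f (gf hq hK b t) w) by
        rw [e, hwb]
      rcases List.mem_cons.1 hb with rfl | hb
      · refine f_comm (Subtype.ext ?_) w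
        have hfx : frK hq hK t = t := ht (hmid 71 (by simp)).2
        rw [Subgroup.coe_mul, Subgroup.coe_mul, gf_mid hq hK (by simp) hfx, gf_mid hq hK (by simp) s.2]
        exact ((gGL K).commute c71 _ _).eq
      · obtain ⟨k, -, rfl⟩ := List.mem_map.1 hb
        have hts : Val hq hK (layQ.q 19) s.1 := fun _ => s.2
        obtain ⟨g, hg, hR⟩ := R_el hq hK (f := f) (ψ := ψ) k ht (ok_el hq hK k ht)
        obtain ⟨h, hh, hR'⟩ := R_el hq hK (f := f) (ψ := ψ) 19 hts (ok_el hq hK 19 hts)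
        have ec : f1 hq hK f ψ g * f1 hq hK f ψ h = f1 hq hK f ψ h * f1 hq hK f ψ g := by
          rw [← hR, ← hR', ← AddChar.map_add_eq_mul, ← AddChar.map_add_eq_mul, add_comm]
        have ec' := congrArg (fun E : Module.End ℂ (W1 hq hK f ψ) => ((E ⟨w, hw1⟩ : W1 hq hK f ψ) : W)) ec
        simp only [Module.End.mul_apply, f1_val, hg, hh] at ec'
        rw [hq19] at ec'
        exact ec'
  have hSfx : ∀ b ∈ leviWord.map Prod.fst, Fx hq hK f b S := fun b => fixed_levi hq hK hall hSinv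
  have hgw : f (gg hq hK) w = w := by
    rw [hw, gg, ← Module.End.mul_apply, ← map_mul, inv_mul_cancel_right, map_mul, Module.End.mul_apply, n4,
      map_mul, map_mul, Module.End.mul_apply, Module.End.mul_apply,
      fixed_levi hq hK hall hInv (hlev 39 (by simp)) 1 (fun _ => map_one _),
      fixed_levi hq hK hall hInv (hlev 32 (by simp)) (-1) (fun _ => by rw [map_neg, map_one]),
      fixed_levi hq hK hall hInv (hlev 39 (by simp)) 1 (fun _ => map_one _)]
  have hgS : f (gg hq hK) S = T := by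
    obtain ⟨z, hz, hzf, hc⟩ := gg_conj hq hK (a := 25) (b := 46) (c := 24) (d := 32) (by simp) (by simp)
      w25 w25' w24
    rw [hS, hT, map_sum]
    refine Fintype.sum_bijective _ (smul_bij z hz hzf) _ _ fun s => ?_
    rw [f_gg hq hK f (hc s.1 s.2), hgw]
  have hT46 : ∀ t : K, frK hq hK t = t → f (gf hq hK 46 t) T = T := by
    intro t ht
    obtain ⟨z, hz, hzf, hc⟩ := gg_conj hq hK (a := 24) (b := 32) (c := 25) (d := 46) (by simp) (by simp)
      w24 w24' w25
    have e : z * (z⁻¹ * t) = t := by field_simp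
    have hfx : frK hq hK (z⁻¹ * t) = z⁻¹ * t := by rw [map_mul, map_inv₀, hzf, ht]
    rw [← e, ← hgS, ← f_gg hq hK f (hc _ hfx), hSfx 32 (hlev 32 (by simp)) _ fun _ => hfx]
  have hTS : T = S := by
    have e : ∑ s : {t : K // frK hq hK t = t}, f (gf hq hK 46 s.1) T =
        ∑ s : {t : K // frK hq hK t = t}, f (gf hq hK 32 s.1) S := by
      rw [hT, hS]
      simp only [map_sum]
      rw [Finset.sum_comm]
      refine Finset.sum_congr rfl fun z _ => Finset.sum_congr rfl fun s _ => f_comm (Subtype.ext ?_) w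
      rw [Subgroup.coe_mul, Subgroup.coe_mul, gf_mid hq hK (by simp) z.2, gf_mid hq hK (by simp) s.2]
      exact ((gGL K).commute c4632 _ _).eq
    simp only [fun s : {t : K // frK hq hK t = t} => hT46 s.1 s.2,
      fun s : {t : K // frK hq hK t = t} => hSfx 32 (hlev 32 (by simp)) s.1 fun _ => s.2] at e
    rw [Finset.sum_const,
      Finset.sum_const, Finset.card_univ, ← Nat.cast_smul_eq_nsmul ℂ, ← Nat.cast_smul_eq_nsmul ℂ, hcard] at e
    exact smul_right_injective W hqne e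
  have h24 : Fx hq hK f 24 S := by
    intro t ht
    obtain ⟨z, hz, hzf, hc⟩ := gg_conj hq hK (a := 39) (b := 47) (c := 32) (d := 24) (by simp) (by simp)
      w39 w39' w32
    have hfx' : frK hq hK t = t := ht (hmid 24 (by simp)).2
    have e : z * (z⁻¹ * t) = t := by field_simp
    have hfx : frK hq hK (z⁻¹ * t) = z⁻¹ * t := by rw [map_mul, map_inv₀, hzf, hfx']
    rw [← e]
    nth_rewrite 1 [← hTS]
    rw [← hgS, ← f_gg hq hK f (hc _ hfx), hSinv 47 h47r _ fun _ => hfx, hgS, hTS]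
  have h25 : Fx hq hK f 25 S := by
    intro t ht
    have hfx : frK hq hK t = t := ht (hmid 25 (by simp)).2
    obtain ⟨C', hCC, hC⟩ := bra_int (K := K) br39
    have ha : frK hq hK ((C' : K) * t) = (C' : K) * t := by rw [map_mul, map_intCast, hfx]
    have h := hC ((C' : K) * t) 1
    rw [mul_one, ← mul_assoc, hCC, one_mul] at h
    have e : gf hq hK 39 ((C' : K) * t) * gf hq hK 24 1 = gf hq hK 24 1 * gf hq hK 39 ((C' : K) * t) * gf hq hK 25 t := by
      refine Subtype.ext ?_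
      simp only [Subgroup.coe_mul, gf_mid hq hK (by simp : (39 : ℕ) ∈ [24, 25, 32, 39, 46, 47, 71]) ha,
        gf_mid hq hK (by simp : (24 : ℕ) ∈ [24, 25, 32, 39, 46, 47, 71]) (map_one _),
        gf_mid hq hK (by simp : (25 : ℕ) ∈ [24, 25, 32, 39, 46, 47, 71]) hfx]
      exact h
    have e' := congrArg (fun g => f g S) e
    simp only [map_mul, Module.End.mul_apply, h24 1 fun _ => map_one _,
      hSfx 39 (hlev 39 (by simp)) _ fun _ => ha] at e'
    have h1 : ∀ y, f (gf hq hK 24 1)⁻¹ (f (gf hq hK 24 1) y) = y := fun y => by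
      rw [← Module.End.mul_apply, ← map_mul, inv_mul_cancel, map_one]; rfl
    have h2 : ∀ y, f (gf hq hK 39 ((C' : K) * t))⁻¹ (f (gf hq hK 39 ((C' : K) * t)) y) = y := fun y => by
      rw [← Module.End.mul_apply, ← map_mul, inv_mul_cancel, map_one]; rfl
    have e2 := congrArg (fun y => f (gf hq hK 39 ((C' : K) * t))⁻¹ (f (gf hq hK 24 1)⁻¹ y)) e'
    simp only [h1, h2] at e2
    have i1 := h1 S
    have i2 := h2 S
    rw [h24 1 fun _ => map_one _] at i1
    rw [hSfx 39 (hlev 39 (by simp)) _ fun _ => ha] at i2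
    rw [← e2, i1, i2]
  have hS0 : S = 0 := by
    refine hfix S (fixed_all hq hK fun b hb => ?_)
    have h46r : (46 : ℕ) ∈ invRoots := by
      rw [← hq19]; exact List.mem_cons_of_mem _ (List.mem_map.2 ⟨19, List.mem_finRange _, rfl⟩)
    simp only [List.mem_cons, List.not_mem_nil, or_false] at hb
    rcases hb with rfl | rfl | hb
    · exact hSinv 46 h46r
    · exact h25
    · exact hSfx b (hlev b (by simp only [List.mem_cons, List.not_mem_nil, or_false]; tauto))
  obtain ⟨C', hCC, hC⟩ := bra_int (K := K) br47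
  obtain ⟨C, hCd⟩ : ∃ C : K, C = (C' : K) := ⟨_, rfl⟩
  rw [← hCd] at hC hCC
  have hC0 : C ≠ 0 := left_ne_zero_of_mul_eq_one hCC
  have hw0 : w = 0 := by
    have e : ∑ t : {t : K // frK hq hK t = t}, f (gf hq hK 47 t.1) T = 0 := by
      rw [hTS, hS0]; simp
    rw [hT] at e
    simp only [map_sum] at e
    rw [Finset.sum_comm, Fintype.sum_eq_single (⟨0, map_zero _⟩ : {t : K // frK hq hK t = t}) fun z hz => ?_] at e
    · rw [Finset.sum_congr rfl fun t _ => ?_, Finset.sum_const, Finset.card_univ, ← Nat.cast_smul_eq_nsmul ℂ,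
        hcard] at e
      · exact (smul_eq_zero.1 e).resolve_left hqne
      · show f (gf hq hK 47 t.1) (f (gf hq hK 32 0) w) = w
        rw [show gf hq hK 32 0 = 1 from Subtype.ext (by
          rw [gf_mid hq hK (by simp) (map_zero _), AddChar.map_zero_eq_one]; rfl), map_one, Module.End.one_apply]
        exact hwfix 47 h47r (by decide) _ fun _ => t.2
    · have hz' : z.1 ≠ 0 := fun h => hz (Subtype.ext h)
      have hCf : frK hq hK C = C := by rw [hCd, map_intCast]
      rw [← map_zero (f (gf hq hK 32 z.1)), ← hS0, hS, map_sum]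
      refine Fintype.sum_bijective _ (smul_bij (C * z.1) (mul_ne_zero hC0 hz') (by rw [map_mul, hCf, z.2])) _ _
        fun t => ?_
      have e : gf hq hK 47 t.1 * gf hq hK 32 z.1 = gf hq hK 32 z.1 * gf hq hK 47 t.1 * gf hq hK 46 (C * z.1 * t.1) := by
        refine Subtype.ext ?_
        simp only [Subgroup.coe_mul, gf_mid hq hK (by simp : (47 : ℕ) ∈ [24, 25, 32, 39, 46, 47, 71]) t.2,
          gf_mid hq hK (by simp : (32 : ℕ) ∈ [24, 25, 32, 39, 46, 47, 71]) z.2,
          gf_mid hq hK (by simp : (46 : ℕ) ∈ [24, 25, 32, 39, 46, 47, 71])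
            (show frK hq hK (C * z.1 * t.1) = C * z.1 * t.1 by rw [map_mul, map_mul, hCf, z.2, t.2])]
        rw [hC, mul_right_comm C]
      rw [← Module.End.mul_apply, ← map_mul, e, map_mul, map_mul, Module.End.mul_apply, Module.End.mul_apply]
      congr 1
      have hc46 : gf hq hK 47 t.1 * gf hq hK 46 (C * z.1 * t.1) = gf hq hK 46 (C * z.1 * t.1) * gf hq hK 47 t.1 := by
        refine Subtype.ext ?_
        simp only [Subgroup.coe_mul, gf_mid hq hK (by simp : (47 : ℕ) ∈ [24, 25, 32, 39, 46, 47, 71]) t.2,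
          gf_mid hq hK (by simp : (46 : ℕ) ∈ [24, 25, 32, 39, 46, 47, 71])
            (show frK hq hK (C * z.1 * t.1) = C * z.1 * t.1 by rw [map_mul, map_mul, hCf, z.2, t.2])]
        have := br47
        simp only [bra, Bool.and_eq_true] at this
        exact ((gGL K).commute this.1.2 _ _).eq
      rw [f_comm hc46, hwfix 47 h47r (by decide) _ fun _ => t.2]
  refine Subtype.ext ?_
  show (u : W) = 0
  have e : f (n2 hq hK)⁻¹ w = u0 := by
    rw [hw, ← Module.End.mul_apply, ← map_mul, inv_mul_cancel, map_one]; rfl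
  rw [← hu0, ← e, hw0, map_zero]

end Cfsg.Agent.MinDegreeTwE6
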