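/-
The smallest degree of a non-linear irreducible representation of `²E₆(q)`.
-/
import Cfsg.Agent.Lib.MinDegree.TwE6Fixed
import Cfsg.Agent.Lib.MinDegree.TwE6Arith
import Cfsg.Agent.Lib.OrthDeg.Unitary
import Cfsg.Agent.S1066
import Cfsg.Agent.S1070

set_option autoImplicit false
set_option maxRecDepth 20000

namespace Cfsg.Agent.MinDegreeTwE6

open LinearMap Module Cfsg.Lie Cfsg.Agent.Chev Cfsg.Agent.Chev.Tab Cfsg.Agent.Heis Cfsg.Agent.TwSpec

variable {K : Type*} [Field K] [Fintype K]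

/-- the fixed vectors -/
def fixedVec {G W : Type*} [Group G] [AddCommGroup W] [Module ℂ W] (f : G →* Module.End ℂ W) : Submodule ℂ W where
  carrier := {x | ∀ g, f g x = x}
  add_mem' {x y} hx hy g := by rw [map_add, hx g, hy g]
  zero_mem' g := map_zero _
  smul_mem' c x hx g := by rw [map_smul, hx g]

theorem min_degree {q : ℕ} (hq : IsPrimePow q) (hK : Fintype.card K = q ^ 2) (k : ℕ)
    (ρ : Representation ℂ (twistedE6 K q) (Fin k → ℂ)) (hirr : ρ.IsIrreducible) (hk : 2 ≤ k) :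
    q * (q ^ 6 - q ^ 3 + 1) * (q ^ 4 + 1) ≤ k := by
  classical
  let f : tw K q →* Module.End ℂ (Fin k → ℂ) := ρ
  obtain ⟨g₀, x₀, hne⟩ := OrthDeg.exists_ne_of_irreducible ρ hirr hk
  have hinj : ∀ g, f g = 1 → g = 1 := by
    have : IsSimpleGroup ↥(tw K q) := (S1070.result hq hK).1
    rcases f.toHomUnits.normal_ker.eq_bot_or_eq_top with h | h
    · intro g hg
      have : g ∈ f.toHomUnits.ker := MonoidHom.mem_ker.2 (Units.ext hg)
      rwa [h, Subgroup.mem_bot] at this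
    · exfalso
      refine hne ?_
      have : (g₀ : tw K q) ∈ f.toHomUnits.ker := h ▸ Subgroup.mem_top _
      have e : f g₀ = 1 := congrArg Units.val (MonoidHom.mem_ker.1 this)
      show f g₀ x₀ = x₀
      rw [e]; rfl
  have hfix : ∀ x : Fin k → ℂ, (∀ g : tw K q, f g x = x) → x = 0 := by
    intro x hx
    have : IsSimpleOrder (Subrepresentation ρ) := hirr
    rcases eq_bot_or_eq_top (⟨fixedVec f, fun g y hy g' => by
        show f g' (f g y) = f g y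
        rw [hy g, hy g']⟩ : Subrepresentation ρ) with h1 | h1
    · have h2 : fixedVec f = ⊥ := congrArg Subrepresentation.toSubmodule h1
      exact (Submodule.mem_bot ℂ).1 (h2 ▸ (hx : x ∈ fixedVec f))
    · have h2 : fixedVec f = ⊤ := congrArg Subrepresentation.toSubmodule h1
      exact absurd ((h2 ▸ Submodule.mem_top : x₀ ∈ fixedVec f) g₀) hne
  obtain ⟨ψ, hψ⟩ : ∃ ψ : AddChar K ℂ, ψ 1 ≠ 1 := AddChar.exists_apply_ne_zero.2 (one_ne_zero (α := K))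
  have hfin : finrank ℂ (Fin k → ℂ) = k := Module.finrank_fin_fun ℂ
  have hsum := finrank_eq hq hK (f := f) hψ
  rw [hfin] at hsum
  have hm0 : mY hq hK f ψ ≠ 0 := by
    intro h
    rw [h, mul_zero, zero_add] at hsum
    have htop : W1 hq hK f ψ = ⊤ := Submodule.eq_top_of_finrank_eq (hsum.symm.trans hfin.symm)
    obtain ⟨hok, -⟩ := mid_facts.2.2.2.2.1 71 (by simp)
    have e : f (gf hq hK 71 1) = 1 := LinearMap.ext fun x =>
      (mem_W1_iff hq hK x).1 (htop ▸ Submodule.mem_top) _ ⟨1, gf_mid hq hK (by simp) (map_one _)⟩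
    have e1 := congrArg Subtype.val (hinj _ e)
    rw [gf_mid hq hK (by simp) (map_one _)] at e1
    exact one_ne_zero (xg_injective TwE6.g0 (show 71 < tb.n by decide +kernel)
      (e1.trans (xg_zero TwE6.g0 71).symm))
  have hq2 := hq.two_le
  have h36 : q ^ 3 ≤ q ^ 6 := Nat.pow_le_pow_right (by omega) (by omega)
  have hp : ∀ a b, a ≤ b → q ^ a ≤ q ^ b := fun a b h => Nat.pow_le_pow_right (by omega) h
  have hqZ : (2 : ℤ) ≤ (q : ℤ) := by exact_mod_cast hq2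
  have hpow : ∀ e : ℕ, (2 : ℤ) * (q : ℤ) ^ e ≤ (q : ℤ) ^ (e + 1) := fun e => by
    rw [pow_succ, mul_comm (2 : ℤ)]; exact mul_le_mul_of_nonneg_left hqZ (by positivity)
  by_contra hlt
  have hlt' : (k : ℤ) <
      (q : ℤ) ^ 11 - (q : ℤ) ^ 8 + (q : ℤ) ^ 7 + (q : ℤ) ^ 5 - (q : ℤ) ^ 4 + (q : ℤ) := by
    have : ((k : ℕ) : ℤ) < ((q * (q ^ 6 - q ^ 3 + 1) * (q ^ 4 + 1) : ℕ) : ℤ) := by exact_mod_cast Nat.lt_of_not_le hlt
    push_cast [Nat.cast_sub h36] at this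
    linarith
  rcases (show mY hq hK f ψ = 1 ∨ 2 ≤ mY hq hK f ψ by omega) with hm | hm
  swap
  · have h1 := finrank_W1_le hq hK (f := f) hψ
    have h2 : (q ^ 11 - q ^ 10) * 2 + (q ^ 10 - q ^ 9) * 2 ≤ k := by
      rw [hsum]
      exact Nat.add_le_add (Nat.mul_le_mul_left _ hm) ((Nat.mul_le_mul_left _ hm).trans h1)
    have h2' : ((q : ℤ) ^ 11 - (q : ℤ) ^ 10) * 2 + ((q : ℤ) ^ 10 - (q : ℤ) ^ 9) * 2 ≤ (k : ℤ) := by
      have : (((q ^ 11 - q ^ 10) * 2 + (q ^ 10 - q ^ 9) * 2 : ℕ) : ℤ) ≤ (k : ℤ) := by exact_mod_cast h2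
      push_cast [Nat.cast_sub (hp 10 11 (by omega)), Nat.cast_sub (hp 9 10 (by omega))] at this
      exact this
    have a1 : 2 * (q : ℤ) ^ 10 ≤ (q : ℤ) ^ 11 := hpow 10
    have a2 : 2 * (q : ℤ) ^ 9 ≤ (q : ℤ) ^ 10 := hpow 9
    have a3 : (q : ℤ) ^ 7 ≤ (q : ℤ) ^ 9 := pow_le_pow_right₀ (by omega) (by omega)
    have a4 : (q : ℤ) ^ 5 ≤ (q : ℤ) ^ 9 := pow_le_pow_right₀ (by omega) (by omega)
    have a5 : (q : ℤ) ≤ (q : ℤ) ^ 4 := le_self_pow₀ (by omega) (by omega)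
    have a6 : 0 ≤ (q : ℤ) ^ 8 := by positivity
    linarith
  have hW1 := finrank_W1 hq hK (f := f) hψ hm
  rw [hm, mul_one] at hsum
  rw [hW1, totalQ] at hsum
  have hz : (k : ℤ) = (q : ℤ) ^ 11 - (q : ℤ) ^ 8 + (q : ℤ) ^ 7 - (q : ℤ) ^ 3 + (q : ℤ) ^ 2 - 1 +
      (finrank ℂ (W2 hq hK f ψ) : ℤ) := by
    have := congrArg (Nat.cast (R := ℤ)) hsum
    push_cast [Nat.cast_sub (hp 10 11 (by omega)), Nat.cast_sub (show 1 ≤ q by omega)] at this
    linear_combination this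
  have hdv : k ∣ q ^ 36 * Arith.ord q := by
    have hχ : Cfsg.IsIrrCharacter (twistedE6 K q) ρ.character := ⟨k, ρ, hirr, rfl⟩
    have h1 : k ∣ Nat.card (twistedE6 K q) :=
      Char.degree_dvd_card hχ (by rw [Representation.char_one, Module.finrank_fin_fun])
    have h2 := h1.mul_left (Nat.gcd 3 (q + 1))
    rw [S1066.result hq hK] at h2
    rw [Arith.ord]
    simpa only [mul_assoc] using h2
  rcases Nat.eq_zero_or_pos (finrank ℂ (W2 hq hK f ψ)) with h0 | hpos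
  · exact Arith.not_dvd_K hq2 (by rw [hz, h0]; push_cast; ring) hdv
  have hT : ¬ Triv hq hK f ψ 60 := fun h => by
    have := W2_bot hq hK (triv_all hq hK h) hfix
    rw [this, finrank_bot] at hpos
    exact lt_irrefl 0 hpos
  have hb := finrank_W2 hq hK hψ hT
  have hb' : ((q : ℤ) - 1) * ((q : ℤ) ^ 4 + (q : ℤ) ^ 2 + 1) ≤ (finrank ℂ (W2 hq hK f ψ) : ℤ) := by
    have := (Nat.cast_le (α := ℤ)).2 hb
    push_cast [Nat.cast_sub (show 1 ≤ q by omega)] at this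
    exact this
  obtain ⟨j, hj, hkj⟩ : ∃ j : ℕ, (j = 1 ∨ j = 2) ∧ k + j = q * (q ^ 6 - q ^ 3 + 1) * (q ^ 4 + 1) := by
    have h3 : q * (q ^ 6 - q ^ 3 + 1) * (q ^ 4 + 1) ≤ k + 2 := by
      have : ((q * (q ^ 6 - q ^ 3 + 1) * (q ^ 4 + 1) : ℕ) : ℤ) ≤ ((k + 2 : ℕ) : ℤ) := by
        push_cast [Nat.cast_sub h36]
        linarith
      exact_mod_cast this
    refine ⟨q * (q ^ 6 - q ^ 3 + 1) * (q ^ 4 + 1) - k, ?_, ?_⟩ <;> omega
  exact Arith.not_dvd_T hq hj hkj hdv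

end Cfsg.Agent.MinDegreeTwE6
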