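/-
The smallest degree of a non-trivial representation of `³D₄(q)`.
-/
import Cfsg.Agent.Lib.MinDegree.D4Radical
import Cfsg.Agent.Lib.Lie.TwD4
import Cfsg.Agent.Lib.Lie.TwTwoGen
import Cfsg.Agent.Lib.Char.Integral

set_option autoImplicit false
set_option maxRecDepth 20000

namespace Cfsg.Agent.MinDegreeD4

open Cfsg.Lie Cfsg.Agent.Chev Cfsg.Agent.Chev.Tab Cfsg.Agent.Chev.TwD4

/-! ### arithmetic -/

theorem gcd_dvd_three {q x : ℕ} (h : ∀ d : ℤ, d ∣ ((q ^ 4 + q ^ 3 + 1 : ℕ) : ℤ) → d ∣ (x : ℤ) → d ∣ 3) :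
    Nat.gcd (q ^ 4 + q ^ 3 + 1) x ∣ 3 := by
  exact_mod_cast h _ (Int.natCast_dvd_natCast.2 (Nat.gcd_dvd_left _ _))
    (Int.natCast_dvd_natCast.2 (Nat.gcd_dvd_right _ _))

theorem not_dvd_order {q : ℕ} (hq : 2 ≤ q) :
    ¬ (q ^ 4 + q ^ 3 + 1) ∣ q ^ 12 * (q ^ 2 - 1) * (q ^ 6 - 1) * (q ^ 8 + q ^ 4 + 1) := by
  intro hdvd
  obtain ⟨t, rfl⟩ : ∃ t, q = t + 2 := ⟨q - 2, by omega⟩
  obtain ⟨N, hN⟩ : ∃ N, N = (t + 2) ^ 4 + (t + 2) ^ 3 + 1 := ⟨_, rfl⟩
  -- the factors prime to `N`
  have h1 : ∀ {d : ℤ}, d ∣ (N : ℤ) → d ∣ ((t : ℤ) + 2) → d ∣ 1 := fun {d} h0 hx => by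
    have := dvd_sub h0 (hx.mul_right (((t : ℤ) + 2) ^ 3 + ((t : ℤ) + 2) ^ 2))
    refine (congrArg (d ∣ ·) ?_).mp this
    rw [hN]; push_cast; ring
  have h2 : ∀ {d : ℤ}, d ∣ (N : ℤ) → d ∣ ((t : ℤ) + 3) → d ∣ 1 := fun {d} h0 hx => by
    have := dvd_sub h0 (hx.mul_right (((t : ℤ) + 2) ^ 3))
    refine (congrArg (d ∣ ·) ?_).mp this
    rw [hN]; push_cast; ring
  have h6 : ∀ {d : ℤ}, d ∣ (N : ℤ) → d ∣ ((t : ℤ) + 2) ^ 2 - ((t : ℤ) + 2) + 1 → d ∣ 1 := fun {d} h0 hx => by
    refine h1 h0 ?_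
    have := dvd_sub (hx.mul_right (((t : ℤ) + 2) ^ 2 + 2 * ((t : ℤ) + 2) + 1)) h0
    refine (congrArg (d ∣ ·) ?_).mp this
    rw [hN]; push_cast; ring
  have h12 : ∀ {d : ℤ}, d ∣ (N : ℤ) → d ∣ ((t : ℤ) + 2) ^ 4 - ((t : ℤ) + 2) ^ 2 + 1 → d ∣ 1 := fun {d} h0 hx => by
    have e : d ∣ ((t : ℤ) + 2) ^ 2 * ((t : ℤ) + 3) := by
      have := dvd_sub h0 hx
      refine (congrArg (d ∣ ·) ?_).mp this
      rw [hN]; push_cast; ring
    have c1 : IsCoprime d ((t : ℤ) + 2) := Int.isCoprime_iff_gcd_eq_one.2 (Nat.dvd_one.1 (by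
      exact_mod_cast h1 ((Int.gcd_dvd_left d ((t : ℤ) + 2)).trans h0) (Int.gcd_dvd_right d ((t : ℤ) + 2))))
    exact h2 h0 ((IsCoprime.pow_right c1).dvd_of_dvd_mul_left e)
  have cop : ∀ (x : ℕ) (z : ℤ), (x : ℤ) = z → (∀ {d : ℤ}, d ∣ (N : ℤ) → d ∣ z → d ∣ 1) → N.Coprime x := by
    intro x z e h
    refine Nat.dvd_one.1 ?_
    have := h (d := (Nat.gcd N x : ℤ)) (Int.natCast_dvd_natCast.2 (Nat.gcd_dvd_left _ _))
      (e ▸ Int.natCast_dvd_natCast.2 (Nat.gcd_dvd_right _ _))
    exact_mod_cast this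
  obtain ⟨c6, hc6⟩ : ∃ c, c = t ^ 2 + 3 * t + 3 := ⟨_, rfl⟩
  obtain ⟨c3, hc3⟩ : ∃ c, c = t ^ 2 + 5 * t + 7 := ⟨_, rfl⟩
  obtain ⟨c12, hc12⟩ : ∃ c, c = t ^ 4 + 8 * t ^ 3 + 23 * t ^ 2 + 28 * t + 13 := ⟨_, rfl⟩
  have efac : (t + 2) ^ 12 * ((t + 2) ^ 2 - 1) * ((t + 2) ^ 6 - 1) * ((t + 2) ^ 8 + (t + 2) ^ 4 + 1) =
      ((t + 2) ^ 12 * ((t + 3) * (t + 3) * (c6 * c6) * c12)) * ((t + 1) * (t + 1) * (c3 * c3)) := by
    have e2 : (t + 2) ^ 2 - 1 = (t + 1) * (t + 3) := by
      rw [show (t + 2) ^ 2 = (t + 1) * (t + 3) + 1 by ring, Nat.add_sub_cancel]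
    have e6 : (t + 2) ^ 6 - 1 = (t + 1) * (t + 3) * (c3 * c6) := by
      rw [show (t + 2) ^ 6 = (t + 1) * (t + 3) * (c3 * c6) + 1 by rw [hc3, hc6]; ring, Nat.add_sub_cancel]
    have e8 : (t + 2) ^ 8 + (t + 2) ^ 4 + 1 = c3 * c6 * c12 := by rw [hc3, hc6, hc12]; ring
    rw [e2, e6, e8]; ring
  have k2 : N.Coprime (t + 3) := cop _ _ (by push_cast; rfl) h2
  have k6 : N.Coprime c6 := cop _ _ (by rw [hc6]; push_cast; ring) h6
  have k12 : N.Coprime c12 := cop _ _ (by rw [hc12]; push_cast; ring) h12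
  have k1 : N.Coprime (t + 2) := cop _ _ (by push_cast; rfl) h1
  rw [efac, ← hN] at hdvd
  have hd := (Nat.Coprime.mul_right (k1.pow_right 12)
    (Nat.Coprime.mul_right (Nat.Coprime.mul_right (k2.mul_right k2) (k6.mul_right k6)) k12)).dvd_of_dvd_mul_left hdvd
  have g1 : Nat.gcd N (t + 1) ∣ 3 := hN ▸ gcd_dvd_three fun d h0 hx => by
    have := dvd_sub h0 (hx.mul_right (((t : ℤ) + 2) ^ 3 + 2 * ((t : ℤ) + 2) ^ 2 + 2 * ((t : ℤ) + 2) + 2))
    refine (congrArg (d ∣ ·) ?_).mp this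
    push_cast; ring
  have g3 : Nat.gcd N c3 ∣ 3 := hN ▸ gcd_dvd_three fun d h0 hx => by
    have e : d ∣ ((t : ℤ) + 4) := by
      have := dvd_sub h0 (hx.mul_right (((t : ℤ) + 2) ^ 2 - 1))
      refine (congrArg (d ∣ ·) ?_).mp this
      rw [hc3]; push_cast; ring
    have := dvd_sub hx (e.mul_right ((t : ℤ) + 1))
    refine (congrArg (d ∣ ·) ?_).mp this
    rw [hc3]; push_cast; ring
  have h81 : N ∣ 81 := by
    calc N = Nat.gcd N ((t + 1) * (t + 1) * (c3 * c3)) := (Nat.gcd_eq_left hd).symm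
      _ ∣ Nat.gcd N ((t + 1) * (t + 1)) * Nat.gcd N (c3 * c3) := Nat.gcd_mul_right_dvd_mul_gcd _ _ _
      _ ∣ (3 * 3) * (3 * 3) := Nat.mul_dvd_mul ((Nat.gcd_mul_right_dvd_mul_gcd _ _ _).trans (Nat.mul_dvd_mul g1 g1))
          ((Nat.gcd_mul_right_dvd_mul_gcd _ _ _).trans (Nat.mul_dvd_mul g3 g3))
      _ = 81 := by norm_num
  rcases t with _ | t
  · rw [hN] at h81; norm_num at h81
  · have hb : 109 ≤ N := by
      rw [hN]
      calc 109 = 3 ^ 4 + 3 ^ 3 + 1 := by norm_num
        _ ≤ _ := by gcongr <;> omega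
    have := Nat.le_of_dvd (by norm_num) h81
    omega

/-! ### the relations -/

variable {K : Type*} [Field K]

/-- root element -/
noncomputable abbrev x (r : ℕ) (t : K) : GL D4Data.tab.D.Idx K := xg g0 r t

theorem x_com (a b : ℕ) (h : D4Data.tab.checkComPair [a] [b] = true) (t u : K) :
    Commute (x a t) (x b u) := by
  simp only [checkComPair, List.all_cons, List.all_nil, Bool.and_true, Bool.and_eq_true, nat_blt,
    Bool.not_eq_true', List.isEmpty_iff, nat_beq_false] at h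
  exact xg_commute gA h.1 h.2.1.1.1 h.2.1.1.2 h.2.1.2 h.2.2 t u

theorem x_comm (a b r : ℕ) (C : ℤ)
    (h : a < D4Data.tab.n ∧ b < D4Data.tab.n ∧ b ≠ a ∧ b ≠ D4Data.tab.neg a ∧
      D4Data.tab.cTerms a b = [(r, C, 1, 1)]) (t u : K) :
    x a t * x b u = x b u * x a t * x r ((C : K) * t * u) := by
  obtain ⟨ha, hb, h1, h2, he⟩ := h
  have e := xg_comm (F := K) gA ha hb h1 h2 t u
  rw [cVal, he] at e
  simp only [List.map_cons, List.map_nil, List.prod_cons, List.prod_nil, mul_one, pow_one] at e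
  have e' : x b u * x a t = x a t * x b u * x r ((C : K) * -t * u) := e
  rw [e', mul_assoc, xg_add, show (C : K) * -t * u + (C : K) * t * u = 0 by ring, xg_zero, mul_one]

theorem x_conj (a b r : ℕ) (C : ℤ)
    (h : a < D4Data.tab.n ∧ b < D4Data.tab.n ∧ b ≠ a ∧ b ≠ D4Data.tab.neg a ∧
      D4Data.tab.cTerms a b = [(r, C, 1, 1)]) (hc : D4Data.tab.checkComPair [a] [r] = true) (t u : K) :
    x a t * x b u = x b u * x r ((C : K) * t * u) * x a t := by
  rw [x_comm a b r C h, mul_assoc, (x_com a r hc t _).eq, ← mul_assoc]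

theorem conj_simple {i r s : ℕ} {e : ℤ}
    (h : i < D4Data.tab.l ∧ r < D4Data.tab.n ∧ D4Data.tab.ref i r = s ∧ D4Data.tab.eta i r = e) (t : K) :
    nG g0 K i * x r t * (nG g0 K i)⁻¹ = x s ((e : K) * t) := by
  obtain ⟨hi, hr, rfl, rfl⟩ := h
  exact nG_conj g0 hi hr t

theorem conj_orbit_word (g : GL D4Data.tab.D.Idx K) :
    nWd g0 K (wd 1) * g * (nWd g0 K (wd 1))⁻¹ =
      nG g0 K 0 * (nG g0 K 2 * (nG g0 K 3 * g * (nG g0 K 3)⁻¹) * (nG g0 K 2)⁻¹) * (nG g0 K 0)⁻¹ := by
  simp only [nWd, wd, List.map_cons, List.map_nil, List.prod_cons, List.prod_nil, mul_one]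
  group

theorem conj_mid_word (g : GL D4Data.tab.D.Idx K) :
    nWd g0 K (wd 0) * g * (nWd g0 K (wd 0))⁻¹ = nG g0 K 1 * g * (nG g0 K 1)⁻¹ := by
  simp only [nWd, wd, List.map_cons, List.map_nil, List.prod_cons, List.prod_nil, mul_one]

theorem reorder {M : Type*} [Monoid M] {a b c m n p r s z : M} (h : m * n = n * m * z) (zp : Commute z p)
    (zr : Commute z r) (zs : Commute z s) (mp : Commute m p) (mr : Commute m r) (pr : Commute p r) :
    a * b * (c * m) * ((n * p) * (r * s)) = a * (b * c * n) * (r * p * m) * s * z :=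
  calc a * b * (c * m) * ((n * p) * (r * s)) = a * b * c * (m * n) * p * r * s := by simp only [mul_assoc]
    _ = a * b * c * n * m * (z * (p * r * s)) := by rw [h]; simp only [mul_assoc]
    _ = a * b * c * n * (m * (p * r)) * s * z := by
      rw [((zp.mul_right zr).mul_right zs).eq]; simp only [mul_assoc]
    _ = a * (b * c * n) * (r * p * m) * s * z := by
      rw [(mp.mul_right mr).eq, pr.eq]; simp only [mul_assoc]

theorem conj_mul {M : Type*} [Group M] (g a b : M) : g * (a * b) * g⁻¹ = g * a * g⁻¹ * (g * b * g⁻¹) := by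
  group

theorem commute_three {M : Type*} [Monoid M] {a b c p r s u v w : M} (hu : a * p = p * a * u)
    (hv : b * r = r * b * v) (hw : c * s = s * c * w) (ar : Commute a r) (as : Commute a s) (bp : Commute b p)
    (bs : Commute b s) (cp : Commute c p) (cr : Commute c r) (ur : Commute u r) (us : Commute u s)
    (ub : Commute u b) (uc : Commute u c) (vs : Commute v s) (vc : Commute v c) :
    a * b * c * (p * r * s) = p * r * s * (a * b * c) * (u * v * w) :=
  calc a * b * c * (p * r * s) = a * b * (c * (p * r)) * s := by simp only [mul_assoc]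
    _ = a * (b * p) * r * (c * s) := by rw [(cp.mul_right cr).eq]; simp only [mul_assoc]
    _ = a * p * (b * r) * (s * c * w) := by rw [bp.eq, hw]; simp only [mul_assoc]
    _ = p * a * (u * r) * b * v * (s * c * w) := by rw [hu, hv]; simp only [mul_assoc]
    _ = p * (a * r) * (u * b) * (v * (s * c)) * w := by rw [ur.eq]; simp only [mul_assoc]
    _ = p * r * a * b * (u * (s * c)) * v * w := by
      rw [ar.eq, ub.eq, (vs.mul_right vc).eq]; simp only [mul_assoc]
    _ = p * r * a * (b * s) * c * u * v * w := by rw [(us.mul_right uc).eq]; simp only [mul_assoc]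
    _ = p * r * (a * s) * b * c * u * v * w := by rw [bs.eq]; simp only [mul_assoc]
    _ = p * r * s * (a * b * c) * (u * v * w) := by rw [as.eq]; simp only [mul_assoc]

/-- The conjugate of a long root element by a twisted short one. -/
theorem conj_A (a b e t : K) :
    x 12 a * x 13 b * x 18 e * x 14 t * (x 12 a * x 13 b * x 18 e)⁻¹ =
      x 14 t * (x 15 (a * t) * x 16 (b * t) * x 19 (-(e * t))) *
        (x 21 (-(b * e * t)) * x 20 (-(a * e * t)) * x 17 (a * b * t)) * x 22 (-(a * b * e * t)) *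
          x 23 (-(a * b * e * t * t)) := by
  have s1 : x 18 e * x 14 t * (x 18 e)⁻¹ = x 14 t * x 19 (-(e * t)) := by
    rw [mul_inv_eq_iff_eq_mul, x_conj 18 14 19 (-1) (by decide +kernel) (by decide +kernel)]
    simp
  have s2 : x 13 b * (x 14 t * x 19 (-(e * t))) * (x 13 b)⁻¹ =
      x 14 t * x 16 (b * t) * (x 19 (-(e * t)) * x 21 (-(b * e * t))) := by
    rw [mul_inv_eq_iff_eq_mul, ← mul_assoc (x 13 b),
      x_conj 13 14 16 1 (by decide +kernel) (by decide +kernel), mul_assoc (x 14 t * _),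
      x_conj 13 19 21 1 (by decide +kernel) (by decide +kernel)]
    simp [mul_assoc]
  have s3 : x 12 a * (x 14 t * x 16 (b * t) * (x 19 (-(e * t)) * x 21 (-(b * e * t)))) * (x 12 a)⁻¹ =
      x 14 t * x 15 (a * t) * (x 16 (b * t) * x 17 (a * b * t)) *
        ((x 19 (-(e * t)) * x 20 (-(a * e * t))) * (x 21 (-(b * e * t)) * x 22 (-(a * b * e * t)))) := by
    rw [mul_inv_eq_iff_eq_mul, ← mul_assoc (x 12 a), ← mul_assoc (x 12 a), ← mul_assoc (x 12 a * x 14 t * _),
      x_conj 12 14 15 1 (by decide +kernel) (by decide +kernel), mul_assoc (x 14 t * _) (x 12 a),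
      x_conj 12 16 17 1 (by decide +kernel) (by decide +kernel),
      ← mul_assoc (x 14 t * _) _ (x 12 a), mul_assoc (x 14 t * _ * _) (x 12 a),
      x_conj 12 19 20 1 (by decide +kernel) (by decide +kernel),
      ← mul_assoc (x 14 t * _ * _) _ (x 12 a), mul_assoc (x 14 t * _ * _ * _) (x 12 a),
      x_conj 12 21 22 1 (by decide +kernel) (by decide +kernel)]
    simp [mul_assoc]
  have hE : x 12 a * x 13 b * x 18 e * x 14 t * (x 12 a * x 13 b * x 18 e)⁻¹ =
      x 12 a * (x 13 b * (x 18 e * x 14 t * (x 18 e)⁻¹) * (x 13 b)⁻¹) * (x 12 a)⁻¹ := by group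
  rw [hE, s1, s2, s3]
  refine reorder ?_ (x_com 23 20 (by decide +kernel) _ _) (x_com 23 21 (by decide +kernel) _ _)
    (x_com 23 22 (by decide +kernel) _ _) (x_com 17 20 (by decide +kernel) _ _)
    (x_com 17 21 (by decide +kernel) _ _) (x_com 20 21 (by decide +kernel) _ _)
  rw [x_comm 17 19 23 1 (by decide +kernel)]
  congr 2
  push_cast; ring

variable [Fintype K] {q : ℕ} (hq : IsPrimePow q) (hK : Fintype.card K = q ^ 3)

/-- the field with `q` elements -/
noncomputable abbrev F0 : Subfield K := (psi hq hK).eqLocusField (RingHom.id K)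

theorem F0_pow (t : F0 hq hK) : (t : K) ^ q = t := by
  have h : psi hq hK (t : K) = (t : K) := t.2
  rwa [psi_apply] at h

theorem mem_F0 {t : K} (h : t ^ q = t) : t ∈ F0 hq hK := by
  show psi hq hK t = RingHom.id K t
  rw [psi_apply, h, RingHom.id_apply]

theorem card_F0 : Nat.card (F0 hq hK) = q := by
  exact (Nat.card_congr (Equiv.subtypeEquivRight fun t =>
    ⟨fun h => F0_pow hq hK ⟨t, h⟩, fun h => mem_F0 hq hK h⟩)).trans (TwField.card_fixed hq.one_lt hK)

theorem finrank_F0 : Module.finrank (F0 hq hK) K = 3 := by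
  have h := Module.natCard_eq_pow_finrank (K := F0 hq hK) (V := K)
  rw [card_F0, Nat.card_eq_fintype_card, hK] at h
  exact ((Nat.pow_right_injective hq.two_le) h).symm

theorem eP_eq (u : K) : eP q u = x 12 ((u ^ q) ^ q) * x 13 (u ^ q) * x 18 u := by
  simp [eP, sProd, coord, x, mul_assoc]

include hq hK in
theorem eP_add (u v : K) : eP q u * eP q v = eP q (u + v) := by
  rw [eP, eP, eP, sProd_add gA (by decide +kernel)]
  refine sProd_congr g0 fun r _ => ?_
  simp only [coord]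
  split_ifs <;> simp [← psi_apply hq hK]

include hq hK in
theorem eP_zero : eP q (0 : K) = 1 := by
  have := eP_add hq hK 0 0
  rwa [add_zero, mul_eq_left] at this

include hq hK in
theorem mid_val (s : K) : nWd g0 K (wd 0) * eP q s * (nWd g0 K (wd 0))⁻¹ =
    x 15 (-((s ^ q) ^ q)) * x 16 (-(s ^ q)) * x 19 s := by
  rw [conj_mid_word, eP_eq, conj_mul, conj_mul, conj_simple (s := 15) (e := -1) (by decide +kernel),
    conj_simple (s := 16) (e := -1) (by decide +kernel), conj_simple (s := 19) (e := 1) (by decide +kernel)]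
  simp

include hq hK in
theorem top_val (s : K) :
    nWd g0 K (wd 1) * (nWd g0 K (wd 0) * eP q s * (nWd g0 K (wd 0))⁻¹) * (nWd g0 K (wd 1))⁻¹ =
      x 21 (-((s ^ q) ^ q)) * x 20 (-(s ^ q)) * x 17 s := by
  rw [mid_val hq hK, conj_orbit_word, conj_mul (nG g0 K 3), conj_mul (nG g0 K 3),
    conj_simple (i := 3) (r := 15) (s := 14) (e := -1) (by decide +kernel),
    conj_simple (i := 3) (r := 16) (s := 17) (e := 1) (by decide +kernel),
    conj_simple (i := 3) (r := 19) (s := 20) (e := 1) (by decide +kernel),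
    conj_mul (nG g0 K 2), conj_mul (nG g0 K 2),
    conj_simple (i := 2) (r := 14) (s := 16) (e := 1) (by decide +kernel),
    conj_simple (i := 2) (r := 17) (s := 15) (e := -1) (by decide +kernel),
    conj_simple (i := 2) (r := 20) (s := 22) (e := 1) (by decide +kernel),
    conj_mul (nG g0 K 0), conj_mul (nG g0 K 0),
    conj_simple (i := 0) (r := 16) (s := 21) (e := -1) (by decide +kernel),
    conj_simple (i := 0) (r := 15) (s := 20) (e := -1) (by decide +kernel),
    conj_simple (i := 0) (r := 22) (s := 17) (e := 1) (by decide +kernel)]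
  simp

theorem orbit14 (t : K) : nWd g0 K (wd 1) * x 14 t * (nWd g0 K (wd 1))⁻¹ = x 22 (-t) := by
  rw [conj_orbit_word, conj_simple (i := 3) (r := 14) (s := 15) (e := 1) (by decide +kernel),
    conj_simple (i := 2) (r := 15) (s := 17) (e := 1) (by decide +kernel),
    conj_simple (i := 0) (r := 17) (s := 22) (e := -1) (by decide +kernel)]
  simp

theorem orbit22 (t : K) : nWd g0 K (wd 1) * x 22 t * (nWd g0 K (wd 1))⁻¹ = x 14 t := by
  rw [conj_orbit_word, conj_simple (i := 3) (r := 22) (s := 21) (e := -1) (by decide +kernel),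
    conj_simple (i := 2) (r := 21) (s := 19) (e := -1) (by decide +kernel),
    conj_simple (i := 0) (r := 19) (s := 14) (e := 1) (by decide +kernel)]
  simp

theorem orbit23 (t : K) : nWd g0 K (wd 1) * x 23 t * (nWd g0 K (wd 1))⁻¹ = x 23 t := by
  rw [conj_orbit_word, conj_simple (i := 3) (r := 23) (s := 23) (e := 1) (by decide +kernel),
    conj_simple (i := 2) (r := 23) (s := 23) (e := 1) (by decide +kernel)]
  simp only [Int.cast_one, one_mul]
  rw [conj_simple (i := 0) (r := 23) (s := 23) (e := 1) (by decide +kernel)]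
  simp

theorem mid22 (t : K) : nWd g0 K (wd 0) * x 22 t * (nWd g0 K (wd 0))⁻¹ = x 23 t := by
  rw [conj_mid_word, conj_simple (i := 1) (r := 22) (s := 23) (e := 1) (by decide +kernel)]
  simp

theorem wt_vals' (c : ℕ → Kˣ) :
    wt D4Data.tab K c 14 = c 0 ^ (-1 : ℤ) * c 1 ^ (2 : ℤ) * c 2 ^ (-1 : ℤ) * c 3 ^ (-1 : ℤ) ∧
    wt D4Data.tab K c 22 = c 0 ^ (1 : ℤ) * c 1 ^ (-1 : ℤ) * c 2 ^ (1 : ℤ) * c 3 ^ (1 : ℤ) ∧
    wt D4Data.tab K c 23 = c 1 ^ (1 : ℤ) := by
  have h : ([14, 22, 23] : List ℕ).map (fun r => (List.range 4).map fun j => D4Data.tab.A j r) =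
      [[-1, 2, -1, -1], [1, -1, 1, 1], [0, 1, 0, 0]] := by decide +kernel
  simp only [List.range_succ, List.range_zero, List.nil_append, List.cons_append, List.map_cons,
    List.map_nil, List.cons.injEq, and_true] at h
  simp [wt, show D4Data.tab.l = 4 from rfl, Finset.prod_range_succ, h]

theorem tor_conj (c : ℕ → Kˣ) (r : ℕ) (hr : r < D4Data.tab.n) (t : K) :
    tor D4Data.tab K c * x r t * (tor D4Data.tab K c)⁻¹ = x r ((wt D4Data.tab K c r : K) * t) :=
  tor_xg g0 c hr t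

theorem x_self (r : ℕ) (s t : K) : x r s * x r t = x r (s + t) := xg_add g0 r s t

include hq hK in
theorem mem14 (t : K) (ht : t ^ q = t) : x 14 t ∈ tw K q := mid_mem (Or.inl rfl) ht

include hq hK in
theorem nWd_mem {b : ℕ} (hb : b < 2) : nWd g0 K (wd b) ∈ tw K q := n_mem hq hK b hb

include hq hK in
theorem mem22 (t : K) (ht : t ^ q = t) : x 22 t ∈ tw K q := by
  have h : nWd g0 K (wd 1) * x 14 (-t) * (nWd g0 K (wd 1))⁻¹ = x 22 t := by rw [orbit14, _root_.neg_neg]
  rw [← h]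
  have hneg : (-t) ^ q = -t := by rw [← psi_apply hq hK, map_neg, psi_apply, ht]
  exact mul_mem (mul_mem (nWd_mem hq hK (by norm_num)) (mem14 hq hK _ hneg)) (inv_mem (nWd_mem hq hK (by norm_num)))

include hq hK in
theorem mem23 (t : K) (ht : t ^ q = t) : x 23 t ∈ tw K q := by
  rw [← mid22]
  exact mul_mem (mul_mem (nWd_mem hq hK (by norm_num)) (mem22 hq hK _ ht)) (inv_mem (nWd_mem hq hK (by norm_num)))

/-- A long root subgroup in the twisted group. -/
noncomputable def longHom (r : ℕ) (hr : ∀ t : K, t ^ q = t → x r t ∈ tw K q) : AddChar (F0 hq hK) (tw K q) where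
  toFun t := ⟨x r t, hr t (F0_pow hq hK t)⟩
  map_zero_eq_one' := Subtype.ext (xg_zero g0 r)
  map_add_eq_mul' s t := Subtype.ext (x_self r (s : K) (t : K)).symm

/-- The short root subgroup of the Levi complement. -/
noncomputable def shortHom : AddChar K (tw K q) where
  toFun u := ⟨eP q u, eP_mem u⟩
  map_zero_eq_one' := Subtype.ext (eP_zero hq hK)
  map_add_eq_mul' u v := Subtype.ext (eP_add hq hK u v).symm

include hq hK in
theorem exists_sys : ∃ S : D4Radical.Sys (F0 hq hK) K (tw K q), ((S.Z 1 : tw K q) : GL D4Data.tab.D.Idx K) = x 23 1 := by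
  classical
  obtain ⟨n2, hn2⟩ : ∃ n : tw K q, (n : GL D4Data.tab.D.Idx K) = nWd g0 K (wd 0) :=
    ⟨⟨_, nWd_mem hq hK (b := 0) (by norm_num)⟩, rfl⟩
  obtain ⟨w, hw⟩ : ∃ n : tw K q, (n : GL D4Data.tab.D.Idx K) = nWd g0 K (wd 1) :=
    ⟨⟨_, nWd_mem hq hK (b := 1) (by norm_num)⟩, rfl⟩
  let B := ((MulAut.conj n2).toMonoidHom).compAddChar (shortHom hq hK)
  let C := ((MulAut.conj w).toMonoidHom).compAddChar B
  have hB : ∀ s, ((B s : tw K q) : GL D4Data.tab.D.Idx K) = x 15 (-((s ^ q) ^ q)) * x 16 (-(s ^ q)) * x 19 s :=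
    fun s => by rw [← mid_val hq hK, ← hn2]; rfl
  have hC : ∀ s, ((C s : tw K q) : GL D4Data.tab.D.Idx K) = x 21 (-((s ^ q) ^ q)) * x 20 (-(s ^ q)) * x 17 s :=
    fun s => by rw [← top_val hq hK, ← hn2, ← hw]; rfl
  have hcard := card_F0 hq hK
  have hfix : ∀ t : F0 hq hK, ((t : K) ^ q) ^ q = t := fun t => by rw [F0_pow, F0_pow]
  have hp3 := pow_three hq hK
  -- forms
  have hsm : ∀ (k : F0 hq hK) (y : K), k • y = (k : K) * y := fun k y => rfl
  let Q₂ : K →ₗ[F0 hq hK] K →ₗ[F0 hq hK] K := LinearMap.mk₂ _ (fun u v => (u ^ q) ^ q * v ^ q)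
    (fun a b c => by simp only [← psi_apply hq hK, map_add, add_mul])
    (fun k a b => by simp only [hsm, mul_pow, F0_pow]; ring)
    (fun a b c => by simp only [← psi_apply hq hK, map_add, mul_add])
    (fun k a b => by simp only [hsm, mul_pow, F0_pow]; ring)
  obtain ⟨π, hπ⟩ := LinearMap.exists_leftInverse_of_injective (Algebra.linearMap (F0 hq hK) K)
    (LinearMap.ker_eq_bot.2 (algebraMap (F0 hq hK) K).injective)
  have hπ' : ∀ y : K, y ^ q = y → ((π y : F0 hq hK) : K) = y := fun y hy => by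
    have := LinearMap.congr_fun hπ ⟨y, mem_F0 hq hK hy⟩
    simp only [LinearMap.comp_apply, Algebra.linearMap_apply, LinearMap.id_apply] at this
    exact congrArg Subtype.val this
  let T₃ : K →ₗ[F0 hq hK] K →ₗ[F0 hq hK] K →ₗ[F0 hq hK] F0 hq hK :=
    LinearMap.mk₂ _ (fun u v => -(π ∘ₗ LinearMap.mulLeft (F0 hq hK) ((u ^ q) ^ q * v ^ q)))
      (fun a b c => LinearMap.ext fun r => by simp [← psi_apply hq hK, add_mul, add_comm, mul_assoc])
      (fun k a b => LinearMap.ext fun r => by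
        simp only [LinearMap.smul_apply, LinearMap.neg_apply, LinearMap.comp_apply, LinearMap.mulLeft_apply,
          hsm, mul_pow, F0_pow, smul_neg]
        rw [← map_smul π, hsm]; ring_nf)
      (fun a b c => LinearMap.ext fun r => by simp [← psi_apply hq hK, mul_add, add_mul, add_comm, mul_assoc])
      (fun k a b => LinearMap.ext fun r => by
        simp only [LinearMap.smul_apply, LinearMap.neg_apply, LinearMap.comp_apply, LinearMap.mulLeft_apply,
          hsm, mul_pow, F0_pow, smul_neg]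
        rw [← map_smul π, hsm]; ring_nf)
  have hN : ∀ u : K, ((u ^ q) ^ q * u ^ q * u) ^ q = (u ^ q) ^ q * u ^ q * u := fun u => by
    rw [mul_pow, mul_pow, hp3]; ring
  have hT : ∀ u : K, ((T₃ u u u : F0 hq hK) : K) = -((u ^ q) ^ q * u ^ q * u) := fun u => by
    show ((-(π ((u ^ q) ^ q * u ^ q * u)) : F0 hq hK) : K) = _
    rw [Subfield.coe_neg, hπ' _ (hN u)]
  let β : K →ₗ[F0 hq hK] K →ₗ[F0 hq hK] F0 hq hK := -Algebra.traceForm (F0 hq hK) K
  have hβ : ∀ b c : K, ((β b c : F0 hq hK) : K) = -(b * c + (b * c) ^ q + ((b * c) ^ q) ^ q) := fun b c => by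
    show algebraMap (F0 hq hK) K (-Algebra.trace (F0 hq hK) K (b * c)) = _
    rw [map_neg, FiniteField.algebraMap_trace_eq_sum_pow, finrank_F0, hcard]
    simp [Finset.sum_range_succ, pow_two, pow_mul]
  have hcomm : ∀ {a b : tw K q}, (a : GL D4Data.tab.D.Idx K) * b = (b : GL D4Data.tab.D.Idx K) * a → a * b = b * a :=
    fun h => Subtype.ext h
  refine ⟨{
    A := longHom hq hK 14 (mem14 hq hK), B := B, C := C, D := longHom hq hK 22 (mem22 hq hK)
    Z := longHom hq hK 23 (mem23 hq hK), E := shortHom hq hK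
    AB := ?_, AC := ?_, AD := ?_, BD := ?_, CD := ?_, β := β, BC := ?_, nondeg := ?_
    ZA := ?_, ZB := ?_, ZC := ?_, ZD := ?_, ZE := ?_, ED := ?_
    α₁ := -LinearMap.id, Q₂ := Q₂, T₃ := T₃, aniso := ?_, EA := ?_
    w := w, wA := ?_, wD := ?_, wZ := ?_, DZ := ⟨n2, ?_⟩, tZ := ?_, tA := ?_ }, rfl⟩
  · exact fun a b => hcomm (by
      rw [hB]
      exact (((x_com 14 15 (by decide +kernel) _ _).mul_right (x_com 14 16 (by decide +kernel) _ _)).mul_right
        (x_com 14 19 (by decide +kernel) _ _)).eq)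
  · exact fun a b => hcomm (by
      rw [hC]
      exact (((x_com 14 21 (by decide +kernel) _ _).mul_right (x_com 14 20 (by decide +kernel) _ _)).mul_right
        (x_com 14 17 (by decide +kernel) _ _)).eq)
  · intro a d
    refine Subtype.ext ?_
    show x 14 (a : K) * x 22 (d : K) = x 22 (d : K) * x 14 (a : K) * x 23 ((a * d : F0 hq hK) : K)
    rw [x_comm 14 22 23 1 (by decide +kernel)]
    simp
  · exact fun a b => hcomm (by
      rw [hB]
      exact (((x_com 15 22 (by decide +kernel) _ _).mul_left (x_com 16 22 (by decide +kernel) _ _)).mul_left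
        (x_com 19 22 (by decide +kernel) _ _)).eq)
  · exact fun a b => hcomm (by
      rw [hC]
      exact (((x_com 21 22 (by decide +kernel) _ _).mul_left (x_com 20 22 (by decide +kernel) _ _)).mul_left
        (x_com 17 22 (by decide +kernel) _ _)).eq)
  · intro b c
    refine Subtype.ext ?_
    show ((B b : tw K q) : GL D4Data.tab.D.Idx K) * (C c : tw K q) =
      ((C c : tw K q) : GL D4Data.tab.D.Idx K) * (B b : tw K q) * x 23 ((β b c : F0 hq hK) : K)
    rw [hB, hC, hβ]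
    refine (commute_three (u := x 23 (-((-((b ^ q) ^ q)) * -((c ^ q) ^ q))) * 1)
      (v := x 23 (-(-(b ^ q) * -(c ^ q)))) (w := x 23 (-(b * c))) ?_ ?_ ?_
      (x_com 15 20 (by decide +kernel) _ _) (x_com 15 17 (by decide +kernel) _ _)
      (x_com 16 21 (by decide +kernel) _ _) (x_com 16 17 (by decide +kernel) _ _)
      (x_com 19 21 (by decide +kernel) _ _) (x_com 19 20 (by decide +kernel) _ _) ?_ ?_ ?_ ?_
      (x_com 23 17 (by decide +kernel) _ _) (x_com 23 19 (by decide +kernel) _ _)).trans ?_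
    · rw [mul_one, x_comm 15 21 23 (-1) (by decide +kernel)]; congr 2; push_cast; ring
    · rw [x_comm 16 20 23 (-1) (by decide +kernel)]; congr 2; push_cast; ring
    · rw [x_comm 19 17 23 (-1) (by decide +kernel)]; congr 2; push_cast; ring
    · rw [mul_one]; exact x_com 23 20 (by decide +kernel) _ _
    · rw [mul_one]; exact x_com 23 17 (by decide +kernel) _ _
    · rw [mul_one]; exact x_com 23 16 (by decide +kernel) _ _
    · rw [mul_one]; exact x_com 23 19 (by decide +kernel) _ _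
    · rw [mul_one, x_self, x_self]
      congr 2
      simp only [mul_pow]
      ring
  · intro c hc
    by_contra h
    push Not at h
    exact hc ((traceForm_nondegenerate (F0 hq hK) K).2 c fun b => neg_eq_zero.1 (h b))
  · exact fun t a => hcomm (x_com 23 14 (by decide +kernel) _ _).eq
  · exact fun t b => hcomm (by
      rw [hB]
      exact (((x_com 23 15 (by decide +kernel) _ _).mul_right (x_com 23 16 (by decide +kernel) _ _)).mul_right
        (x_com 23 19 (by decide +kernel) _ _)).eq)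
  · exact fun t b => hcomm (by
      rw [hC]
      exact (((x_com 23 21 (by decide +kernel) _ _).mul_right (x_com 23 20 (by decide +kernel) _ _)).mul_right
        (x_com 23 17 (by decide +kernel) _ _)).eq)
  · exact fun t a => hcomm (x_com 23 22 (by decide +kernel) _ _).eq
  · exact fun t u => hcomm (by
      show x 23 (t : K) * eP q u = eP q u * x 23 (t : K)
      rw [eP_eq]
      exact (((x_com 23 12 (by decide +kernel) _ _).mul_right (x_com 23 13 (by decide +kernel) _ _)).mul_right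
        (x_com 23 18 (by decide +kernel) _ _)).eq)
  · exact fun u d => hcomm (by
      show eP q u * x 22 (d : K) = x 22 (d : K) * eP q u
      rw [eP_eq]
      exact (((x_com 12 22 (by decide +kernel) _ _).mul_left (x_com 13 22 (by decide +kernel) _ _)).mul_left
        (x_com 18 22 (by decide +kernel) _ _)).eq)
  · intro u hu
    have h := hT u
    rw [hu] at h
    simp only [ZeroMemClass.coe_zero, zero_eq_neg, mul_eq_zero] at h
    rcases h with (h | h) | h
    · exact (pow_eq_zero_iff hq.ne_zero).1 ((pow_eq_zero_iff hq.ne_zero).1 h)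
    · exact (pow_eq_zero_iff hq.ne_zero).1 h
    · exact h
  · intro u t
    refine ⟨t * t * T₃ u u u, Subtype.ext ?_⟩
    have h : eP q u * x 14 (t : K) * (eP q u)⁻¹ =
        x 14 (t : K) * (x 15 ((u ^ q) ^ q * t) * x 16 (u ^ q * t) * x 19 (-(u * t))) *
          (x 21 (-(u ^ q * u * t)) * x 20 (-((u ^ q) ^ q * u * t)) * x 17 ((u ^ q) ^ q * u ^ q * t)) *
          x 22 (-((u ^ q) ^ q * u ^ q * u * t)) * x 23 (-((u ^ q) ^ q * u ^ q * u * t * t)) := by
      rw [eP_eq]; exact conj_A _ _ _ _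
    refine h.trans ?_
    show _ = x 14 (t : K) * ((B (t • (-LinearMap.id : K →ₗ[F0 hq hK] K) u) : tw K q) : GL D4Data.tab.D.Idx K) *
      ((C (t • Q₂ u u) : tw K q) : GL D4Data.tab.D.Idx K) * x 22 ((t * T₃ u u u : F0 hq hK) : K) *
      x 23 ((t * t * T₃ u u u : F0 hq hK) : K)
    rw [hB, hC]
    simp only [Subfield.coe_mul, hT, hsm, LinearMap.neg_apply, LinearMap.id_apply, Q₂, LinearMap.mk₂_apply]
    have ps : ∀ y : K, ((t : K) * y) ^ q = (t : K) * y ^ q := fun y => by rw [mul_pow, F0_pow]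
    have pn : ∀ y : K, (-y) ^ q = -(y ^ q) := fun y => by rw [← psi_apply hq hK, map_neg, psi_apply]
    simp only [ps, pn, mul_pow, hp3, _root_.neg_neg, mul_neg]
    ring_nf
  · exact fun t => Subtype.ext (by
      show (w : GL D4Data.tab.D.Idx K) * x 14 (t : K) * (w : GL D4Data.tab.D.Idx K)⁻¹ = x 22 ((-t : F0 hq hK) : K)
      rw [hw, orbit14, Subfield.coe_neg])
  · exact fun t => Subtype.ext (by
      show (w : GL D4Data.tab.D.Idx K) * x 22 (t : K) * (w : GL D4Data.tab.D.Idx K)⁻¹ = x 14 (t : K)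
      rw [hw, orbit22])
  · exact fun t => Subtype.ext (by
      show (w : GL D4Data.tab.D.Idx K) * x 23 (t : K) * (w : GL D4Data.tab.D.Idx K)⁻¹ = x 23 (t : K)
      rw [hw, orbit23])
  · exact fun t => Subtype.ext (by
      show (n2 : GL D4Data.tab.D.Idx K) * x 22 (t : K) * (n2 : GL D4Data.tab.D.Idx K)⁻¹ = x 23 (t : K)
      rw [hn2, mid22])
  · intro k hk
    have hk' : ((k : K)) ≠ 0 := fun h => hk (Subtype.ext h)
    let p : Kˣ × {u : Kˣ // (u : K) ^ q = u} := (1, ⟨Units.mk0 (k : K) hk', F0_pow hq hK k⟩)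
    refine ⟨⟨_, par_mem hq hK p⟩, fun t => Subtype.ext ?_⟩
    show tor D4Data.tab K (par q p) * x 23 (t : K) * (tor D4Data.tab K (par q p))⁻¹ = x 23 ((k * t : F0 hq hK) : K)
    rw [tor_conj _ 23 (by decide +kernel), (wt_vals' _).2.2]
    simp [par, p]
  · intro k hk
    have hk' : ((k : K)) ≠ 0 := fun h => hk (Subtype.ext h)
    let p : Kˣ × {u : Kˣ // (u : K) ^ q = u} :=
      (Units.mk0 (k : K) hk', ⟨Units.mk0 (k : K) hk' * Units.mk0 (k : K) hk', by
        rw [Units.val_mul, Units.val_mk0, mul_pow, F0_pow]⟩)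
    have hpq : (Units.mk0 (k : K) hk') ^ q = Units.mk0 (k : K) hk' := Units.ext (by simp [F0_pow])
    refine ⟨⟨_, par_mem hq hK p⟩, fun t => Subtype.ext ?_, fun t => Subtype.ext ?_, fun t => Subtype.ext ?_⟩
    · show tor D4Data.tab K (par q p) * x 14 (t : K) * (tor D4Data.tab K (par q p))⁻¹ = x 14 ((k * t : F0 hq hK) : K)
      rw [tor_conj _ 14 (by decide +kernel), (wt_vals' _).1]
      congr 1
      simp [par, p, hpq]
      left
      field_simp
    · show tor D4Data.tab K (par q p) * x 22 (t : K) * (tor D4Data.tab K (par q p))⁻¹ = x 22 ((k * t : F0 hq hK) : K)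
      rw [tor_conj _ 22 (by decide +kernel), (wt_vals' _).2.1]
      congr 1
      simp [par, p, hpq]
    · show tor D4Data.tab K (par q p) * x 23 (t : K) * (tor D4Data.tab K (par q p))⁻¹ = x 23 ((k * k * t : F0 hq hK) : K)
      rw [tor_conj _ 23 (by decide +kernel), (wt_vals' _).2.2]
      simp [par, p]

include hq hK in
theorem min_degree (k : ℕ) (ρ : Representation ℂ (tw K q) (Fin k → ℂ)) (hirr : ρ.IsIrreducible) (hk : 2 ≤ k) :
    q * (q ^ 4 - q ^ 2 + 1) ≤ k := by
  classical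
  obtain ⟨hs, -⟩ := (X hq hK).simple (blocks hq hK) hq.one_lt (hblk hq hK) connOK (sep hq hK) Nat.two_pos
    (derived hq hK)
  obtain ⟨S, hS⟩ := exists_sys hq hK
  let f : tw K q →* Module.End ℂ (Fin k → ℂ) := ρ
  have hinj : ∀ g, f g = 1 → g = 1 := by
    haveI : IsSimpleGroup (tw K q) := hs
    rcases f.toHomUnits.normal_ker.eq_bot_or_eq_top with h | h
    · intro g hg
      have : g ∈ f.toHomUnits.ker := MonoidHom.mem_ker.2 (Units.ext hg)
      rwa [h, Subgroup.mem_bot] at this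
    · exfalso
      have htriv : ∀ g, f g = 1 := fun g => by
        have : g ∈ f.toHomUnits.ker := h ▸ Subgroup.mem_top g
        exact congrArg Units.val (MonoidHom.mem_ker.1 this)
      set e : Fin k → ℂ := Pi.single ⟨0, by omega⟩ 1 with he
      let T : Subrepresentation ρ := ⟨Submodule.span ℂ {e}, fun g v hv => by
        show f g v ∈ _
        rw [htriv g]; exact hv⟩
      have he0 : e ≠ 0 := fun h0 => one_ne_zero (α := ℂ) (by
        have := congrFun h0 ⟨0, by omega⟩
        rwa [he, Pi.single_eq_same] at this)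
      haveI := hirr
      rcases eq_bot_or_eq_top T with h' | h'
      · exact he0 (Submodule.span_singleton_eq_bot.1 (congrArg Subrepresentation.toSubmodule h'))
      · have h2 : Submodule.span ℂ {e} = ⊤ := congrArg Subrepresentation.toSubmodule h'
        have h3 := finrank_span_singleton (K := ℂ) he0
        rw [h2, finrank_top, Module.finrank_fin_fun] at h3
        omega
  haveI : Fintype (F0 hq hK) := Fintype.ofFinite _
  have hcard : Fintype.card (F0 hq hK) = q := by rw [← Nat.card_eq_fintype_card]; exact card_F0 hq hK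
  have hne : f (S.Z 1) ≠ 1 := fun h => by
    have h1 := congrArg Subtype.val (hinj _ h)
    rw [hS, OneMemClass.coe_one, ← xg_zero g0 23] at h1
    exact one_ne_zero (xg_injective g0 (by decide +kernel) h1)
  have hq2 := hq.two_le
  have hpoly : (q - 1) * (q ^ 4 + q ^ 3) + q = q * (q ^ 4 - q ^ 2 + 1) := by
    have : q ^ 2 ≤ q ^ 4 := Nat.pow_le_pow_right (by omega) (by norm_num)
    zify [this, show 1 ≤ q by omega]
    ring
  have hfin : Module.finrank ℂ (Fin k → ℂ) = k := Module.finrank_fin_fun ℂ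
  refine hpoly ▸ (D4Radical.bound (finrank_F0 hq hK) S f hne hcard ?_).trans hfin.le
  rw [hfin]
  intro hkeq
  haveI : Finite (tw K q) := inferInstance
  have hd : k ∣ Nat.card (tw K q) := by
    have hχ : Cfsg.IsIrrCharacter (tw K q) ρ.character := ⟨k, ρ, hirr, rfl⟩
    exact Char.degree_dvd_card hχ (by rw [Representation.char_one, hfin])
  rw [card_twisted hq hK] at hd
  refine not_dvd_order hq2 (Dvd.dvd.trans ⟨q - 1, ?_⟩ hd)
  rw [hkeq]
  ring

end Cfsg.Agent.MinDegreeD4
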