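/-
Elements of the special unitary group used for the degree bound: tori, Eichler elements, and the
characters of a root group.
-/
import Cfsg.Agent.Lib.Classical.UnitarySimple
import Cfsg.Agent.Lib.MinDegree.EigenChar

set_option autoImplicit false

namespace Cfsg.Agent.UnitaryMinDeg

open scoped Matrix
open Matrix Cfsg.Agent.Transvec Cfsg.Agent.Transvec.Herm Cfsg.Agent.UnitarySimple

variable {ι : Type} [Fintype ι] [DecidableEq ι] {F : Type*} [Field F]
variable {σ : F ≃+* F} {f : (ι → F) → (ι → F) → F}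

/-- The elements of trace zero. -/
def anti (σ : F ≃+* F) : AddSubgroup F where
  carrier := {c | σ c = -c}
  add_mem' {a b} (ha : σ a = -a) (hb : σ b = -b) := show σ (a + b) = -(a + b) by rw [map_add, ha, hb, neg_add]
  zero_mem' := show σ 0 = -0 by rw [map_zero, neg_zero]
  neg_mem' {a} (ha : σ a = -a) := show σ (-a) = - -a by rw [map_neg, ha]

theorem mem_anti {c : F} : c ∈ anti σ ↔ σ c = -c := Iff.rfl

/-- Multiplication by a fixed element. -/
def scaleA (k : fixedField σ) : anti σ →+ anti σ where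
  toFun c := ⟨(k : F) * c, by
    rw [mem_anti, map_mul, mem_fixedField.1 k.2, mem_anti.1 c.2, mul_neg]⟩
  map_zero' := Subtype.ext (mul_zero _)
  map_add' _ _ := Subtype.ext (mul_add _ _ _)

theorem coe_scaleA (k : fixedField σ) (c : anti σ) : ((scaleA k c : anti σ) : F) = (k : F) * c := rfl

/-- The map a ↦ a − σ a. -/
def skew (hinv : ∀ a : F, σ (σ a) = a) : F →+ anti σ where
  toFun a := ⟨a - σ a, by rw [mem_anti, map_sub, hinv, neg_sub]⟩
  map_zero' := Subtype.ext (by simp)
  map_add' a b := Subtype.ext (by simp [map_add]; ring)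

theorem coe_skew (hinv : ∀ a : F, σ (σ a) = a) (a : F) : ((skew hinv a : anti σ) : F) = a - σ a := rfl

variable (hne : σ ≠ RingEquiv.refl F) (hinv : ∀ a : F, σ (σ a) = a)
include hne hinv

theorem card_anti : Nat.card (anti σ) = Nat.card (fixedField σ) := by
  obtain ⟨t, ht0, ht⟩ := exists_anti hne hinv
  refine (Nat.card_congr (Equiv.ofBijective (fun k : fixedField σ => scaleA k ⟨t, ht⟩) ⟨?_, fun c => ?_⟩)).symm
  · intro k k' h
    exact Subtype.ext (mul_right_cancel₀ ht0 (congrArg Subtype.val h))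
  · refine ⟨⟨(c : F) / t, ?_⟩, Subtype.ext (div_mul_cancel₀ _ ht0)⟩
    show σ _ = _
    rw [map_div₀, mem_anti.1 c.2, ht, neg_div_neg_eq]

theorem skew_surjective : Function.Surjective (skew hinv) := by
  intro c
  obtain ⟨t, ht0, ht⟩ := exists_anti hne hinv
  obtain ⟨b, hb⟩ := exists_trace hne hinv ((c : F) / t) (by rw [map_div₀, mem_anti.1 c.2, ht, neg_div_neg_eq])
  refine ⟨t * b, Subtype.ext ?_⟩
  rw [coe_skew, map_mul, ht, show t * b - -t * σ b = (b + σ b) * t by ring, hb, div_mul_cancel₀ _ ht0]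

variable [Finite F]

theorem scale_injective {χ : AddChar (anti σ) ℂ} (hχ : ∃ c, χ c ≠ 1) :
    Function.Injective fun k : fixedField σ => χ.compAddMonoidHom (scaleA k) := by
  intro k k' h
  by_contra hkk
  obtain ⟨c, hc⟩ := hχ
  have hd : (k : F) - (k' : F) ≠ 0 := sub_ne_zero.2 fun h => hkk (Subtype.ext h)
  let c' : anti σ := ⟨(c : F) / ((k : F) - k'), by
    rw [mem_anti, map_div₀, map_sub, mem_fixedField.1 k.2, mem_fixedField.1 k'.2, mem_anti.1 c.2, neg_div]⟩
  have h' : χ (scaleA k c') = χ (scaleA k' c') := DFunLike.congr_fun h c'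
  have e : scaleA k c' = c + scaleA k' c' := Subtype.ext (by
    rw [AddSubgroup.coe_add, coe_scaleA, coe_scaleA]
    show (k : F) * ((c : F) / ((k : F) - k')) = c + (k' : F) * ((c : F) / ((k : F) - k'))
    field_simp
    ring)
  rw [e, AddChar.map_add_eq_mul] at h'
  exact hc ((mul_eq_right₀ (IsUnit.ne_zero (AddChar.val_isUnit χ _))).1 h')

/-- Every character of the root group is a multiple of a given nontrivial one. -/
theorem exists_scale {χ : AddChar (anti σ) ℂ} (hχ : ∃ c, χ c ≠ 1) (φ : AddChar (anti σ) ℂ) :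
    ∃ k : fixedField σ, χ.compAddMonoidHom (scaleA k) = φ := by
  have : Fintype F := Fintype.ofFinite F
  have : Fintype (anti σ) := Fintype.ofFinite _
  refine ((scale_injective hne hinv hχ).bijective_of_nat_card_le ?_).2 φ
  rw [Nat.card_eq_fintype_card, AddChar.card_eq, ← Nat.card_eq_fintype_card, card_anti hne hinv]

theorem skewChar_injective {χ : AddChar (anti σ) ℂ} (hχ : ∃ c, χ c ≠ 1) :
    Function.Injective fun l : F => χ.compAddMonoidHom ((skew hinv).comp (AddMonoidHom.mulLeft l)) := by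
  intro l l' h
  by_contra hll
  obtain ⟨c, hc⟩ := hχ
  obtain ⟨a, ha⟩ := skew_surjective hne hinv c
  have hd : l - l' ≠ 0 := sub_ne_zero.2 hll
  have h' : χ (skew hinv (l * (a / (l - l')))) = χ (skew hinv (l' * (a / (l - l')))) :=
    DFunLike.congr_fun h (a / (l - l'))
  rw [show l * (a / (l - l')) = a + l' * (a / (l - l')) by field_simp; ring, map_add, ha,
    AddChar.map_add_eq_mul] at h'
  exact hc ((mul_eq_right₀ (IsUnit.ne_zero (AddChar.val_isUnit χ _))).1 h')

/-- Every character of F is read off from a given nontrivial character of the root group. -/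
theorem exists_skewChar {χ : AddChar (anti σ) ℂ} (hχ : ∃ c, χ c ≠ 1) (φ : AddChar F ℂ) :
    ∃ l : F, χ.compAddMonoidHom ((skew hinv).comp (AddMonoidHom.mulLeft l)) = φ := by
  have : Fintype F := Fintype.ofFinite F
  refine ((skewChar_injective hne hinv hχ).bijective_of_nat_card_le ?_).2 φ
  rw [Nat.card_eq_fintype_card, AddChar.card_eq, ← Nat.card_eq_fintype_card]

omit hne hinv [Finite F]

/-! ### Elements -/

/-- The element g fixes the orthogonal complement of X. -/
def Fixes (hf : Geo.IsUnitaryForm σ f) (X : Submodule F (ι → F)) (g : GL ι F) : Prop :=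
  ∀ y ∈ orth hf X, mv g y = y

variable (hf : Geo.IsUnitaryForm σ f)
include hf

theorem fixes_inv {X : Submodule F (ι → F)} {g : GL ι F} (h : Fixes hf X g) : Fixes hf X g⁻¹ :=
  fun y hy => by conv_lhs => rw [← h y hy, mv_inv_mv]

theorem fixes_mul {X : Submodule F (ι → F)} {g g' : GL ι F} (h : Fixes hf X g) (h' : Fixes hf X g') :
    Fixes hf X (g * g') :=
  fun y hy => by rw [mv_mul, h' y hy, h y hy]

theorem fixes_mono {X Y : Submodule F (ι → F)} {g : GL ι F} (hle : Y ≤ X) (h : Fixes hf Y g) :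
    Fixes hf X g :=
  fun y hy => h y fun u hu => hy u (hle hu)

theorem fixes_htv {X : Submodule F (ι → F)} {v : ι → F} (hv : v ∈ X) (hvv : f v v = 0) (c : F) :
    Fixes hf X (htv hf v hvv c) :=
  fun _ hy => htv_fix hf v hvv c ((f_eq_zero_comm hf).1 (hy v hv))

/-- Eichler element z ↦ z + f(z,u) y + (l f(z,u) − f(z,y)) u with support in X. -/
theorem exists_eich {X : Submodule F (ι → F)} {u y : ι → F} (hu : u ∈ X) (hy : y ∈ X) {l : F}
    (huu : f u u = 0) (hyu : f y u = 0) (hl : l + σ l + f y y = 0) :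
    ∃ g : sug f, Fixes hf X g.1 ∧ ∀ z, mv g.1 z = z + f z u • y + (l * f z u - f z y) • u := by
  obtain ⟨g, hg, hmv⟩ := exists_eichler hf huu hyu hl
  refine ⟨⟨g, hg⟩, fun z hz => ?_, hmv⟩
  rw [hmv, (f_eq_zero_comm hf).1 (hz u hu), (f_eq_zero_comm hf).1 (hz y hy)]
  simp

theorem sug_of_mat {A : Matrix ι ι F} (hdet : A.det = 1) (hA : ∀ z z', f (A *ᵥ z) (A *ᵥ z') = f z z') :
    ∃ g : sug f, ∀ z, mv g.1 z = A *ᵥ z :=
  ⟨⟨Matrix.GeneralLinearGroup.mkOfDetNeZero A (hdet ▸ one_ne_zero), hA, MonoidHom.mem_ker.2 (Units.ext (by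
    rw [Matrix.GeneralLinearGroup.val_det_apply]; exact hdet))⟩, fun _ => rfl⟩

/-- A torus element scaling the isotropic vector e by a. -/
theorem exists_torus {X : Submodule F (ι → F)} {e d v : ι → F} (he : e ∈ X) (hd : d ∈ X) (hv : v ∈ X)
    (hee : f e e = 0) (hdd : f d d = 0) (hed : f e d = 1) (hev : f e v = 0) (hdv : f d v = 0)
    (hvv : f v v ≠ 0) {a : F} (ha : a ≠ 0) :
    ∃ g : sug f, Fixes hf X g.1 ∧ mv g.1 e = a • e := by
  have hde : f d e = 1 := by rw [hf.herm, hed, map_one]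
  have hve : f v e = 0 := (f_eq_zero_comm hf).1 hev
  have hvd : f v d = 0 := (f_eq_zero_comm hf).1 hdv
  have hσa : σ a ≠ 0 := fun h => ha ((map_eq_zero_iff σ σ.injective).1 h)
  set A := tvMat e ((a - 1) • formH hf d) * (tvMat d (((σ a)⁻¹ - 1) • formH hf e) *
    tvMat v (((σ a / a - 1) / f v v) • formH hf v)) with hA
  have hdet : A.det = 1 := by
    rw [hA, Matrix.det_mul, Matrix.det_mul, det_tvMat, det_tvMat, det_tvMat]
    simp only [LinearMap.smul_apply, formH_apply, smul_eq_mul, hed, hde, mul_one, div_mul_cancel₀ _ hvv,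
      add_sub_cancel]
    field_simp
  have hmv : ∀ z, A *ᵥ z = z + ((a - 1) * f z d) • e + (((σ a)⁻¹ - 1) * f z e) • d +
      ((σ a / a - 1) / f v v * f z v) • v := by
    intro z
    rw [hA, ← Matrix.mulVec_mulVec, ← Matrix.mulVec_mulVec, tvMat_mulVec, tvMat_mulVec, tvMat_mulVec]
    simp only [LinearMap.smul_apply, formH_apply, smul_eq_mul, hf.add_left, hf.smul_left, hdd, hed, hde,
      hve, hvd, mul_zero, add_zero]
    module
  obtain ⟨g, hg⟩ := sug_of_mat hf hdet fun z z' => by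
    rw [hmv, hmv]
    simp only [hf.add_left, add_right hf, hf.smul_left, smul_right hf, hee, hdd, hed, hde, hev, hdv, hve,
      hvd, map_mul, map_sub, map_div₀, map_inv₀, map_one, hf.involutive, self_fixed hf v, mul_zero,
      add_zero]
    rw [hf.herm e z', hf.herm d z', hf.herm v z']
    field_simp
    ring
  refine ⟨g, fun y hy => ?_, ?_⟩
  · rw [hg, hmv, (f_eq_zero_comm hf).1 (hy e he), (f_eq_zero_comm hf).1 (hy d hd),
      (f_eq_zero_comm hf).1 (hy v hv)]
    simp
  · rw [hg, hmv, hed, hee, hev]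
    module

/-- A torus element scaling two orthogonal isotropic vectors by inverse scalars. -/
theorem exists_torus_two {X : Submodule F (ι → F)} {e d v w : ι → F} (he : e ∈ X) (hd : d ∈ X) (hv : v ∈ X)
    (hw : w ∈ X) (hee : f e e = 0) (hdd : f d d = 0) (hed : f e d = 1) (hvv : f v v = 0)
    (hww : f w w = 0) (hvw : f v w = 1) (hev : f e v = 0) (hew : f e w = 0) (hdv : f d v = 0)
    (hdw : f d w = 0) {a : F} (ha : a ≠ 0) :
    ∃ g : sug f, Fixes hf X g.1 ∧ mv g.1 e = a⁻¹ • e ∧ mv g.1 v = a • v := by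
  have hde : f d e = 1 := by rw [hf.herm, hed, map_one]
  have hwv : f w v = 1 := by rw [hf.herm, hvw, map_one]
  have hve : f v e = 0 := (f_eq_zero_comm hf).1 hev
  have hwe : f w e = 0 := (f_eq_zero_comm hf).1 hew
  have hvd : f v d = 0 := (f_eq_zero_comm hf).1 hdv
  have hwd : f w d = 0 := (f_eq_zero_comm hf).1 hdw
  have hσa : σ a ≠ 0 := fun h => ha ((map_eq_zero_iff σ σ.injective).1 h)
  set A := tvMat e ((a⁻¹ - 1) • formH hf d) * (tvMat d ((σ a - 1) • formH hf e) *
    (tvMat v ((a - 1) • formH hf w) * tvMat w (((σ a)⁻¹ - 1) • formH hf v))) with hA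
  have hdet : A.det = 1 := by
    rw [hA, Matrix.det_mul, Matrix.det_mul, Matrix.det_mul, det_tvMat, det_tvMat, det_tvMat, det_tvMat]
    simp only [LinearMap.smul_apply, formH_apply, smul_eq_mul, hed, hde, hvw, hwv, mul_one,
      add_sub_cancel]
    field_simp
  have hmv : ∀ z, A *ᵥ z = z + ((a⁻¹ - 1) * f z d) • e + ((σ a - 1) * f z e) • d +
      ((a - 1) * f z w) • v + (((σ a)⁻¹ - 1) * f z v) • w := by
    intro z
    rw [hA, ← Matrix.mulVec_mulVec, ← Matrix.mulVec_mulVec, ← Matrix.mulVec_mulVec, tvMat_mulVec,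
      tvMat_mulVec, tvMat_mulVec, tvMat_mulVec]
    simp only [LinearMap.smul_apply, formH_apply, smul_eq_mul, hf.add_left, hf.smul_left, hdd, hed, hde,
      hve, hvd, hwe, hwd, hww, hvw, hwv, mul_zero, add_zero]
    module
  obtain ⟨g, hg⟩ := sug_of_mat hf hdet fun z z' => by
    rw [hmv, hmv]
    simp only [hf.add_left, add_right hf, hf.smul_left, smul_right hf, hee, hdd, hed, hde, hvv, hww, hvw,
      hwv, hev, hew, hdv, hdw, hve, hvd, hwe, hwd, map_mul, map_sub, map_inv₀, map_one, hf.involutive,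
      mul_zero, add_zero]
    rw [hf.herm e z', hf.herm d z', hf.herm v z', hf.herm w z']
    field_simp
    ring
  refine ⟨g, fun y hy => ?_, ?_, ?_⟩
  · rw [hg, hmv, (f_eq_zero_comm hf).1 (hy e he), (f_eq_zero_comm hf).1 (hy d hd),
      (f_eq_zero_comm hf).1 (hy v hv), (f_eq_zero_comm hf).1 (hy w hw)]
    simp
  · rw [hg, hmv, hed, hee, hev, hew]
    module
  · rw [hg, hmv, hve, hvd, hvv, hvw]
    module

end Cfsg.Agent.UnitaryMinDeg
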