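/-
A lower bound for the dimension of a representation of a special unitary group in which some
transvection acts nontrivially, by induction along hyperbolic planes.
-/
import Cfsg.Agent.Lib.MinDegree.UnitaryElem

set_option autoImplicit false

namespace Cfsg.Agent.UnitaryMinDeg

open scoped Matrix
open Matrix Cfsg.Agent.Transvec Cfsg.Agent.Transvec.Herm Cfsg.Agent.UnitarySimple Cfsg.Agent.EigenChar

variable {ι : Type} [Fintype ι] [DecidableEq ι] {F : Type*} [Field F]
variable {σ : F ≃+* F} {f : (ι → F) → (ι → F) → F}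
variable {V : Type*} [AddCommGroup V] [Module ℂ V]

/-- The bound: b(m) = (q − 1) q^(m − 2) + b(m − 2) for m ≥ 3, b(2) = q − 1, b(1) = 0. -/
def bnd (q : ℕ) : ℕ → ℕ
  | 0 => 0
  | 1 => 0
  | 2 => q - 1
  | m + 3 => (q - 1) * q ^ (m + 1) + bnd q (m + 1)

theorem bnd_odd {q : ℕ} (hq : 1 ≤ q) : ∀ k, bnd q (2 * k + 1) * (q + 1) + q = q ^ (2 * k + 1)
  | 0 => by simp [bnd]
  | k + 1 => by
    have ih := bnd_odd hq k
    obtain ⟨r, rfl⟩ : ∃ r, q = r + 1 := ⟨q - 1, by omega⟩
    rw [show 2 * (k + 1) + 1 = 2 * k + 3 by ring, bnd, Nat.add_sub_cancel]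
    rw [show (r + 1) ^ (2 * k + 3) = (r + 1) ^ (2 * k + 1) * (r + 1) * (r + 1) by ring]
    generalize (r + 1) ^ (2 * k + 1) = p at ih ⊢
    generalize bnd (r + 1) (2 * k + 1) = s at ih ⊢
    nlinarith

theorem bnd_even {q : ℕ} (hq : 1 ≤ q) : ∀ k, bnd q (2 * k + 2) * (q + 1) + 1 = q ^ (2 * k + 2)
  | 0 => by
    obtain ⟨r, rfl⟩ : ∃ r, q = r + 1 := ⟨q - 1, by omega⟩
    simp [bnd]; ring
  | k + 1 => by
    have ih := bnd_even hq k
    obtain ⟨r, rfl⟩ : ∃ r, q = r + 1 := ⟨q - 1, by omega⟩
    rw [show 2 * (k + 1) + 2 = (2 * k + 1) + 3 by ring, bnd, Nat.add_sub_cancel]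
    rw [show 2 * k + 1 + 1 = 2 * k + 2 by ring,
      show (r + 1) ^ (2 * k + 1 + 3) = (r + 1) ^ (2 * k + 2) * (r + 1) * (r + 1) by ring]
    generalize (r + 1) ^ (2 * k + 2) = p at ih ⊢
    generalize bnd (r + 1) (2 * k + 2) = s at ih ⊢
    nlinarith

variable (hf : Geo.IsUnitaryForm σ f) (ρ : sug f →* Module.End ℂ V)
include hf

/-- W is stable under the elements supported in X. -/
def Stable (X : Submodule F (ι → F)) (W : Submodule ℂ V) : Prop :=
  ∀ g : sug f, Fixes hf X g.1 → ∀ x ∈ W, ρ g x ∈ W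

/-- The element of the root group at v. -/
noncomputable def tr (v : ι → F) (hv : f v v = 0) (c : anti σ) : sug f :=
  ⟨htv hf v hv c, htv_mem hf v hv (mem_anti.1 c.2), htv_mem_specialLinear hf v hv _⟩

theorem mv_tr (v : ι → F) (hv : f v v = 0) (c : anti σ) (z : ι → F) :
    mv (tr hf v hv c).1 z = z + ((c : F) * f z v) • v := mv_htv hf v hv c z

/-- The action of the root group at v. -/
noncomputable def rootRep (v : ι → F) (hv : f v v = 0) : AddChar (anti σ) (Module.End ℂ V) where
  toFun c := ρ (tr hf v hv c)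
  map_zero_eq_one' := by
    rw [show tr hf v hv 0 = 1 from Subtype.ext (htv_zero hf v hv), map_one]
  map_add_eq_mul' a b := by
    rw [← map_mul, show tr hf v hv (a + b) = tr hf v hv a * tr hf v hv b from
      Subtype.ext (htv_add hf v hv a b).symm]

theorem rootRep_apply (v : ι → F) (hv : f v v = 0) (c : anti σ) :
    rootRep hf ρ v hv c = ρ (tr hf v hv c) := rfl

theorem tr_congr {v w : ι → F} (h : v = w) (hv : f v v = 0) (hw : f w w = 0) (c : anti σ) :
    tr hf v hv c = tr hf w hw c := by subst h; rfl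

theorem rootRep_conj (g : sug f) {v w : ι → F} (hv : f v v = 0) (hw : f w w = 0) (h : mv g.1 v = w)
    (c : anti σ) (x : V) : rootRep hf ρ w hw c (ρ g x) = ρ g (rootRep hf ρ v hv c x) := by
  have e : tr hf w hw c * g = g * tr hf v hv c := by
    refine Subtype.ext ?_
    have := htv_conj hf (g := g.1) (fun x y => g.2.1 x y) v hv c
    show htv hf w hw c * g.1 = g.1 * htv hf v hv c
    rw [UnitarySimple.htv_congr hf h.symm hw (by rw [h, hw]) c, ← this, inv_mul_cancel_right]
  rw [rootRep_apply, rootRep_apply, ← Module.End.mul_apply, ← map_mul, e, map_mul, Module.End.mul_apply]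

theorem rootRep_mem {X : Submodule F (ι → F)} {W : Submodule ℂ V} (hW : Stable hf ρ X W) {v : ι → F}
    (hv : v ∈ X) (hvv : f v v = 0) (c : anti σ) : ∀ x ∈ W, rootRep hf ρ v hvv c x ∈ W :=
  hW _ (fixes_htv hf hv hvv c)

/-- Eigenspaces of a root group are stable under the elements fixing its centre. -/
theorem eig_mem {X : Submodule F (ι → F)} {W : Submodule ℂ V} (hW : Stable hf ρ X W) {e : ι → F}
    (hee : f e e = 0) {χ : AddChar (anti σ) ℂ} (g : sug f) (hg : Fixes hf X g.1) (hge : mv g.1 e = e) :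
    ∀ x ∈ eig (rootRep hf ρ e hee) W χ, ρ g x ∈ eig (rootRep hf ρ e hee) W χ :=
  fun x hx => ⟨hW g hg x hx.1, fun c => by rw [rootRep_conj hf ρ g hee hee hge, hx.2, map_smul]⟩

theorem stable_eig {X Y : Submodule F (ι → F)} {W : Submodule ℂ V} (hW : Stable hf ρ X W) (hle : Y ≤ X)
    {e : ι → F} (hee : f e e = 0) (heY : e ∈ orth hf Y) (χ : AddChar (anti σ) ℂ) :
    Stable hf ρ Y (eig (rootRep hf ρ e hee) W χ) :=
  fun g hg => eig_mem hf ρ hW hee g (fixes_mono hf hle hg) (hg e heY)

variable [Finite F]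

/-- Scaling the centre permutes the nontrivial characters transitively. -/
theorem eig_scale_ne_bot {W : Submodule ℂ V} {v : ι → F} (hvv : f v v = 0)
    (hg : ∀ a : F, a ≠ 0 → ∃ g : sug f, mv g.1 v = a • v ∧ ∀ x ∈ W, ρ g x ∈ W)
    {χ : AddChar (anti σ) ℂ} (h0 : eig (rootRep hf ρ v hvv) W χ ≠ ⊥) (k : fixedField σ) (hk : k ≠ 0) :
    eig (rootRep hf ρ v hvv) W (χ.compAddMonoidHom (scaleA k)) ≠ ⊥ := by
  obtain ⟨b, hb⟩ := exists_norm hf.ne_refl hf.involutive (k : F) (mem_fixedField.1 k.2)
  have hb0 : b ≠ 0 := fun h => hk (Subtype.ext (by rw [← hb, h, zero_mul]; rfl))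
  obtain ⟨g, hgv, hgW⟩ := hg b⁻¹ (inv_ne_zero hb0)
  obtain ⟨x, hx, hx0⟩ := (Submodule.ne_bot_iff _).1 h0
  have hbv : f (b • v) (b • v) = 0 := by rw [hf.smul_left, smul_right hf, hvv, mul_zero, mul_zero]
  refine (Submodule.ne_bot_iff _).2 ⟨ρ g x, ⟨hgW x hx.1, fun c => ?_⟩, fun h => ?_⟩
  · rw [rootRep_conj hf ρ g hbv hvv (by rw [mv_smul, hgv, smul_smul, mul_inv_cancel₀ hb0, one_smul]) c,
      show rootRep hf ρ (b • v) hbv c = rootRep hf ρ v hvv (scaleA k c) from congrArg ρ (Subtype.ext (by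
        show htv hf (b • v) hbv c = htv hf v hvv ((k : F) * c)
        rw [htv_smul hf v hvv b (c : F), hb])),
      hx.2, map_smul, AddChar.compAddMonoidHom_apply]
  · have h2 := congrArg (ρ g⁻¹) h
    rw [map_zero, ← Module.End.mul_apply, ← map_mul, inv_mul_cancel, map_one, Module.End.one_apply] at h2
    exact hx0 h2

variable [FiniteDimensional ℂ V]

/-- Adding up the eigenspaces of a root group. -/
theorem orbit_le {W : Submodule ℂ V} {v : ι → F} (hvv : f v v = 0)
    (hvW : ∀ c, ∀ x ∈ W, rootRep hf ρ v hvv c x ∈ W) {χ : AddChar (anti σ) ℂ} (hχ : ∃ c, χ c ≠ 1) {r : ℕ}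
    (hr : ∀ k : fixedField σ, k ≠ 0 →
      r ≤ Module.finrank ℂ (eig (rootRep hf ρ v hvv) W (χ.compAddMonoidHom (scaleA k)))) :
    (Nat.card (fixedField σ) - 1) * r + Module.finrank ℂ (eig (rootRep hf ρ v hvv) W 1) ≤
      Module.finrank ℂ W := by
  classical
  have : Fintype F := Fintype.ofFinite F
  have : Fintype (fixedField σ) := Fintype.ofFinite _
  have : Fintype (anti σ) := Fintype.ofFinite _
  set S := (Finset.univ.erase (0 : fixedField σ)).image fun k => χ.compAddMonoidHom (scaleA k) with hS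
  have h1 : (1 : AddChar (anti σ) ℂ) ∉ S := by
    intro h
    obtain ⟨k, hk, hk1⟩ := Finset.mem_image.1 h
    refine Finset.ne_of_mem_erase hk (scale_injective hf.ne_refl hf.involutive hχ ?_)
    show χ.compAddMonoidHom (scaleA k) = χ.compAddMonoidHom (scaleA 0)
    rw [hk1]
    ext c
    rw [AddChar.compAddMonoidHom_apply, show scaleA (0 : fixedField σ) c = 0 from Subtype.ext (zero_mul _),
      AddChar.map_zero_eq_one, AddChar.one_apply]
  have hcard : S.card = Nat.card (fixedField σ) - 1 := by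
    rw [hS, Finset.card_image_of_injective _ (scale_injective hf.ne_refl hf.involutive hχ),
      Finset.card_erase_of_mem (Finset.mem_univ _), Finset.card_univ, Nat.card_eq_fintype_card]
  have h := sum_finrank_le hvW (insert 1 S)
  rw [Finset.sum_insert h1] at h
  have h2 : S.card • r ≤ ∑ φ ∈ S, Module.finrank ℂ (eig (rootRep hf ρ v hvv) W φ) :=
    Finset.card_nsmul_le_sum _ _ _ fun φ hφ => by
      obtain ⟨k, hk, rfl⟩ := Finset.mem_image.1 hφ
      exact hr k (Finset.ne_of_mem_erase hk)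
  rw [hcard, smul_eq_mul] at h2
  omega

/-- A nontrivial eigenspace of a root group is a module for the Heisenberg group. -/
theorem pow_le_eig {X : Submodule F (ι → F)} {W : Submodule ℂ V} (hX : Nondeg hf X)
    (hW : Stable hf ρ X W) {e d : ι → F} (he : e ∈ X) (hd : d ∈ X) (hee : f e e = 0) (hdd : f d d = 0)
    (hed : f e d = 1) {χ : AddChar (anti σ) ℂ} (hχ : ∃ c, χ c ≠ 1)
    (h0 : eig (rootRep hf ρ e hee) W χ ≠ ⊥) :
    Nat.card (fixedField σ) ^ Module.finrank F ↥(X ⊓ orth hf (Submodule.span F {e, d})) ≤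
      Module.finrank ℂ (eig (rootRep hf ρ e hee) W χ) := by
  classical
  set Y := X ⊓ orth hf (Submodule.span F {e, d}) with hY
  have hYn : Nondeg hf Y := nondeg_inf_orth hf (nondeg_pair hf hee hdd hed).1 hX
    (Submodule.span_le.2 (by rintro v (rfl | rfl) <;> assumption))
  have : Fintype F := Fintype.ofFinite F
  have : Fintype Y := Fintype.ofFinite _
  have hwe : ∀ w : Y, f (w : ι → F) e = 0 := fun w =>
    (f_eq_zero_comm hf).1 (w.2.2 e (Submodule.subset_span (Set.mem_insert _ _)))
  have hex : ∀ w : Y, ∃ g : sug f, Fixes hf X g.1 ∧ mv g.1 e = e ∧ ∃ l : F, ∀ z,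
      mv g.1 z = z + f z e • (w : ι → F) + (l * f z e - f z (w : ι → F)) • e := by
    intro w
    obtain ⟨l, hl⟩ := exists_trace hf.ne_refl hf.involutive (-f (w : ι → F) w)
      (by rw [map_neg, self_fixed hf])
    obtain ⟨g, hg, hmv⟩ := exists_eich hf he w.2.1 hee (hwe w) (l := l) (by linear_combination hl)
    refine ⟨g, hg, ?_, l, hmv⟩
    rw [hmv, hee, (f_eq_zero_comm hf).1 (hwe w)]
    simp
  choose g hgX hge l hmv using hex
  let Bf : Y → Y →+ anti σ := fun w =>
    (skew hf.involutive).comp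
      { toFun := fun u : Y => f (u : ι → F) (w : ι → F)
        map_zero' := zero_left hf _
        map_add' := fun a b => hf.add_left _ _ _ }
  have hBf : ∀ w u : Y, ((Bf w u : anti σ) : F) = f (u : ι → F) w - f (w : ι → F) u := fun w u => by
    show f (u : ι → F) w - σ (f (u : ι → F) w) = _
    rw [← hf.herm]
  let β : Y → AddChar Y ℂ := fun w => χ.compAddMonoidHom (Bf w)
  have hβ : Function.Injective β := by
    intro w w' h
    by_contra hne
    obtain ⟨c, hc⟩ := hχ
    obtain ⟨a, ha⟩ := skew_surjective hf.ne_refl hf.involutive c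
    obtain ⟨u₀, hu₀, hu₀'⟩ : ∃ u ∈ Y, f u ((w : ι → F) - w') ≠ 0 := by
      by_contra hc'
      push Not at hc'
      exact hne (Subtype.ext (sub_eq_zero.1 ((nondeg_iff hf).1 hYn _ (Y.sub_mem w.2 w'.2) hc')))
    let u : Y := ⟨(a / f u₀ ((w : ι → F) - w')) • u₀, Y.smul_mem _ hu₀⟩
    have h' : χ (Bf w u) = χ (Bf w' u) := DFunLike.congr_fun h u
    have hval : f (u : ι → F) w = a + f (u : ι → F) w' := by
      have : f (u : ι → F) ((w : ι → F) - w') = a := by
        show f ((a / f u₀ ((w : ι → F) - w')) • u₀) _ = a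
        rw [hf.smul_left, div_mul_cancel₀ _ hu₀']
      rw [sub_right hf] at this
      linear_combination this
    have e1 : Bf w u = skew hf.involutive a + Bf w' u := by
      show skew hf.involutive (f (u : ι → F) w) = _ + skew hf.involutive (f (u : ι → F) w')
      rw [hval, map_add]
    rw [e1, ha, AddChar.map_add_eq_mul] at h'
    exact hc ((mul_eq_right₀ (IsUnit.ne_zero (AddChar.val_isUnit χ _))).1 h')
  have hcard : Fintype.card Y = (Nat.card (fixedField σ) ^ Module.finrank F Y) *
      (Nat.card (fixedField σ) ^ Module.finrank F Y) := by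
    rw [Module.card_eq_pow_finrank (K := F), ← Nat.card_eq_fintype_card (α := F),
      card_eq_sq hf.ne_refl hf.involutive, pow_two, mul_pow]
  have h := sq_card_le ρ (eig (rootRep hf ρ e hee) W χ) h0 g
    (fun w => eig_mem hf ρ hW hee (g w) (hgX w) (hge w))
    (fun w => eig_mem hf ρ hW hee (g w)⁻¹ (fixes_inv hf (hgX w))
      (by show mv (g w).1⁻¹ e = e; conv_lhs => rw [← hge w, mv_inv_mv]))
    β hβ fun u w x hx => by
      have e1 : g u * g w = tr hf e hee (Bf w u) * (g w * g u) := Subtype.ext (ext_mv fun z => by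
        simp only [Subgroup.coe_mul, mv_mul, mv_tr, hmv, hBf, hf.add_left, hf.smul_left, hwe, hee,
          (f_eq_zero_comm hf).1 (hwe u), (f_eq_zero_comm hf).1 (hwe w), mul_zero, add_zero]
        module)
      rw [e1, map_mul, Module.End.mul_apply, ← rootRep_apply hf ρ]
      refine ((?_ : ρ (g w * g u) x ∈ eig (rootRep hf ρ e hee) W χ).2 _)
      rw [map_mul, Module.End.mul_apply]
      exact eig_mem hf ρ hW hee (g w) (hgX w) (hge w) _ (eig_mem hf ρ hW hee (g u) (hgX u) (hge u) x hx)
  rw [hcard] at h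
  exact Nat.mul_self_le_mul_self_iff.1 h

/-- The nontrivial part of the root group at e. -/
theorem step_le {X : Submodule F (ι → F)} {W : Submodule ℂ V} (hX : Nondeg hf X)
    (hW : Stable hf ρ X W) (h3 : 3 ≤ Module.finrank F X) {e : ι → F} (he : e ∈ X) (he0 : e ≠ 0)
    (hee : f e e = 0) {c : anti σ} {x : V} (hx : x ∈ W) (hcx : rootRep hf ρ e hee c x ≠ x) :
    (Nat.card (fixedField σ) - 1) * Nat.card (fixedField σ) ^ (Module.finrank F X - 2) +
      Module.finrank ℂ (eig (rootRep hf ρ e hee) W 1) ≤ Module.finrank ℂ W := by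
  have : Fintype F := Fintype.ofFinite F
  have : Fintype (anti σ) := Fintype.ofFinite _
  obtain ⟨χ, hχ, h0⟩ := exists_char (rootRep_mem hf ρ hW he hee) hx hcx
  obtain ⟨d, hd, hed, hdd⟩ := exists_partner hf hX he he0 hee
  obtain ⟨hPn, hP2⟩ := nondeg_pair hf hee hdd hed
  set P := Submodule.span F ({e, d} : Set (ι → F)) with hP
  have hPX : P ≤ X := Submodule.span_le.2 (by rintro v (rfl | rfl) <;> assumption)
  have hdim : Module.finrank F ↥(X ⊓ orth hf P) = Module.finrank F X - 2 := by
    have := finrank_inf_orth_add hf hPn hPX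
    omega
  obtain ⟨v, hv, hvv⟩ := exists_anisotropic hf (nondeg_inf_orth hf hPn hX hPX) (fun h => by
    rw [h, finrank_bot] at hdim; omega)
  have hscale : ∀ a : F, a ≠ 0 → ∃ g : sug f, mv g.1 e = a • e ∧ ∀ x ∈ W, ρ g x ∈ W := fun a ha => by
    obtain ⟨g, hg, hge⟩ := exists_torus hf he hd hv.1 hee hdd hed
      (hv.2 e (Submodule.subset_span (Set.mem_insert _ _)))
      (hv.2 d (Submodule.subset_span (Set.mem_insert_of_mem _ rfl))) hvv ha
    exact ⟨g, hge, hW g hg⟩
  refine orbit_le hf ρ hee (rootRep_mem hf ρ hW he hee) hχ fun k hk => ?_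
  have h := pow_le_eig hf ρ hX hW he hd hee hdd hed (χ := χ.compAddMonoidHom (scaleA k)) ?_
    (eig_scale_ne_bot hf ρ hee hscale h0 k hk)
  · rwa [hdim] at h
  · obtain ⟨c, hc⟩ := hχ
    refine ⟨scaleA k⁻¹ c, ?_⟩
    rwa [AddChar.compAddMonoidHom_apply, show scaleA k (scaleA k⁻¹ c) = c from Subtype.ext (by
      rw [coe_scaleA, coe_scaleA, ← mul_assoc, ← Subfield.coe_mul, mul_inv_cancel₀ hk]
      exact one_mul _)]

/-- Some nontrivial root group has a fixed space moved by an orthogonal root group. -/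
theorem exists_good {X : Submodule F (ι → F)} {W : Submodule ℂ V} (hX : Nondeg hf X)
    (hW : Stable hf ρ X W) (h4 : 4 ≤ Module.finrank F X) {e : ι → F} (he : e ∈ X) (he0 : e ≠ 0)
    (hee : f e e = 0) {c : anti σ} {x : V} (hx : x ∈ W) (hcx : rootRep hf ρ e hee c x ≠ x) :
    ∃ (u : ι → F) (huu : f u u = 0), u ∈ X ∧ u ≠ 0 ∧ f u e = 0 ∧
      (∃ c' x', x' ∈ W ∧ rootRep hf ρ u huu c' x' ≠ x') ∧
      ∃ c', ∃ y ∈ eig (rootRep hf ρ u huu) W 1, rootRep hf ρ e hee c' y ≠ y := by
  have : Fintype F := Fintype.ofFinite F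
  have : Fintype (anti σ) := Fintype.ofFinite _
  obtain ⟨χ, hχ, h0⟩ := exists_char (rootRep_mem hf ρ hW he hee) hx hcx
  obtain ⟨d, hd, hed, hdd⟩ := exists_partner hf hX he he0 hee
  obtain ⟨hPn, hP2⟩ := nondeg_pair hf hee hdd hed
  set P := Submodule.span F ({e, d} : Set (ι → F)) with hP
  have hPX : P ≤ X := Submodule.span_le.2 (by rintro v (rfl | rfl) <;> assumption)
  have hYn := nondeg_inf_orth hf hPn hX hPX
  have hdim : 2 ≤ Module.finrank F ↥(X ⊓ orth hf P) := by
    have := finrank_inf_orth_add hf hPn hPX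
    omega
  obtain ⟨v, hv, hv0, hvv⟩ := exists_isotropic hf hYn hdim
  obtain ⟨w, hw, hvw, hww⟩ := exists_partner hf hYn hv hv0 hvv
  have hev : f e v = 0 := hv.2 e (Submodule.subset_span (Set.mem_insert _ _))
  have hdv : f d v = 0 := hv.2 d (Submodule.subset_span (Set.mem_insert_of_mem _ rfl))
  have hew : f e w = 0 := hw.2 e (Submodule.subset_span (Set.mem_insert _ _))
  have hve : f v e = 0 := (f_eq_zero_comm hf).1 hev
  have hvd : f v d = 0 := (f_eq_zero_comm hf).1 hdv
  have hwe : f w e = 0 := (f_eq_zero_comm hf).1 hew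
  have hde : f d e = 1 := by rw [hf.herm, hed, map_one]
  -- the abelian group made of the root group at v and the mixed elements
  have hex : ∀ b : F, ∃ g : sug f, Fixes hf X g.1 ∧ mv g.1 e = e ∧
      ∀ z, mv g.1 z = z + (b * f z v) • e - (σ b * f z e) • v := by
    intro b
    obtain ⟨g, hg, hmv⟩ := exists_eich hf he (X.smul_mem (-σ b) hv.1) hee
      (by rw [hf.smul_left, hve, mul_zero]) (l := 0)
      (by rw [hf.smul_left, smul_right hf, hvv, map_zero, mul_zero, mul_zero, add_zero, add_zero])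
    have hfor : ∀ z, mv g.1 z = z + (b * f z v) • e - (σ b * f z e) • v := fun z => by
      rw [hmv, smul_right hf, map_neg, hf.involutive]
      module
    refine ⟨g, hg, ?_, hfor⟩
    rw [hfor, hev, hee]
    simp
  choose M hMX hMe hM using hex
  let R : AddChar (anti σ × F) (Module.End ℂ V) :=
    { toFun := fun p => ρ (tr hf v hvv p.1 * M p.2)
      map_zero_eq_one' := by
        rw [show tr hf v hvv (0 : anti σ × F).1 * M (0 : anti σ × F).2 = 1 from Subtype.ext (ext_mv fun z => by
          simp [Subgroup.coe_mul, mv_mul, mv_tr, hM, mv_one]), map_one]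
      map_add_eq_mul' := fun p p' => by
        rw [← map_mul, show tr hf v hvv (p + p').1 * M (p + p').2 =
          tr hf v hvv p.1 * M p.2 * (tr hf v hvv p'.1 * M p'.2) from Subtype.ext (ext_mv fun z => by
          simp only [Subgroup.coe_mul, mv_mul, mv_tr, hM, Prod.fst_add, Prod.snd_add, AddSubgroup.coe_add,
            map_add, hf.add_left, sub_left hf, hf.smul_left, hvv, hev, hve, hee, mul_zero, add_zero,
            sub_zero]
          module)] }
  set E := eig (rootRep hf ρ e hee) W χ with hE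
  have hRE : ∀ p, ∀ y ∈ E, R p y ∈ E := fun p y hy =>
    eig_mem hf ρ hW hee (tr hf v hvv p.1 * M p.2) (fixes_mul hf (fixes_htv hf hv.1 hvv _) (hMX _))
      (by rw [Subgroup.coe_mul, mv_mul, hMe, mv_tr, hev]; simp) y hy
  obtain ⟨φ, hφ⟩ := exists_char' hRE h0
  obtain ⟨y, hy, hy0⟩ := (Submodule.ne_bot_iff _).1 hφ
  obtain ⟨k, hk⟩ := exists_scale hf.ne_refl hf.involutive hχ (φ.compAddMonoidHom (AddMonoidHom.inl _ F))
  obtain ⟨l, hl⟩ := exists_skewChar hf.ne_refl hf.involutive hχ (φ.compAddMonoidHom (AddMonoidHom.inr _ F))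
  obtain ⟨α, hα⟩ := exists_norm hf.ne_refl hf.involutive (l * σ l - (k : F))
    (by rw [map_sub, map_mul, hf.involutive, mem_fixedField.1 k.2, mul_comm])
  set a := α - σ l with ha
  have huu : f (v + a • e) (v + a • e) = 0 := by
    simp only [hf.add_left, add_right hf, hf.smul_left, smul_right hf, hvv, hve, hev, hee, mul_zero,
      add_zero]
  have hu0 : v + a • e ≠ 0 := fun h => by
    have := congrArg (fun z => f z w) h
    simp only [hf.add_left, hf.smul_left, hvw, hew, mul_zero, add_zero, zero_left hf] at this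
    exact one_ne_zero this
  refine ⟨v + a • e, huu, X.add_mem hv.1 (X.smul_mem _ he), hu0, by
    rw [hf.add_left, hf.smul_left, hve, hee, mul_zero, add_zero], ?_, ?_⟩
  · obtain ⟨g₁, hg₁X, hg₁⟩ := exists_eich hf hv.1 (X.neg_mem hd) hvv
      (by rw [neg_left hf, hdv, neg_zero]) (l := 0)
      (by rw [neg_left hf, neg_right hf, hdd, map_zero, neg_zero, neg_zero, add_zero, add_zero])
    obtain ⟨g₂, hg₂X, hg₂⟩ := exists_eich hf he (X.smul_mem (σ (1 - a)) hw.1) hee
      (by rw [hf.smul_left, hwe, mul_zero]) (l := 0)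
      (by rw [hf.smul_left, smul_right hf, hww, map_zero, mul_zero, mul_zero, add_zero, add_zero])
    have he' : mv (g₂ * g₁).1 e = v + a • e := by
      rw [Subgroup.coe_mul, mv_mul, show mv g₁.1 e = e + v by rw [hg₁, hev, neg_right hf, hed]; module,
        mv_add, hg₂, hg₂]
      simp only [hee, hve, smul_right hf, hew, hvw, hf.involutive, mul_zero, zero_smul, add_zero, sub_zero,
        zero_sub, mul_one]
      module
    refine ⟨c, ρ (g₂ * g₁) x, hW _ (fixes_mul hf hg₂X hg₁X) x hx, fun h => hcx ?_⟩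
    rw [rootRep_conj hf ρ (g₂ * g₁) hee huu he'] at h
    have h2 := congrArg (ρ (g₂ * g₁)⁻¹) h
    rwa [← Module.End.mul_apply (ρ (g₂ * g₁)⁻¹), ← Module.End.mul_apply (ρ (g₂ * g₁)⁻¹), ← map_mul,
      inv_mul_cancel, map_one, Module.End.one_apply, Module.End.one_apply] at h2
  · obtain ⟨c₀, hc₀⟩ := hχ
    refine ⟨c₀, y, ⟨hy.1.1, fun b => ?_⟩, fun h => hc₀ ?_⟩
    · have hN : σ (a * σ a) = a * σ a := by rw [map_mul, hf.involutive, mul_comm]
      let Na : fixedField σ := ⟨a * σ a, hN⟩
      have e1 : tr hf (v + a • e) huu b =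
          tr hf v hvv b * M ((b : F) * a) * tr hf e hee (scaleA Na b) := Subtype.ext (ext_mv fun z => by
        have hσb := mem_anti.1 b.2
        simp only [Subgroup.coe_mul, mv_mul, mv_tr, hM, coe_scaleA, Na, map_mul, hσb, hf.add_left,
          add_right hf, sub_left hf, hf.smul_left, smul_right hf, hvv, hev, hve, hee, mul_zero, add_zero,
          sub_zero]
        module)
      have hRp : ρ (tr hf v hvv b * M ((b : F) * a)) y = φ (b, (b : F) * a) • y := hy.2 (b, (b : F) * a)
      have hsplit : φ (b, (b : F) * a) =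
          χ (scaleA k b) * χ (skew hf.involutive (l * ((b : F) * a))) := by
        rw [show ((b, (b : F) * a) : anti σ × F) = (b, 0) + (0, (b : F) * a) by simp,
          AddChar.map_add_eq_mul]
        exact congrArg₂ (· * ·) (DFunLike.congr_fun hk b).symm (DFunLike.congr_fun hl ((b : F) * a)).symm
      rw [rootRep_apply, e1, map_mul, Module.End.mul_apply, ← rootRep_apply hf ρ, hy.1.2, map_smul, hRp,
        smul_smul, hsplit, AddChar.one_apply, ← AddChar.map_add_eq_mul, ← AddChar.map_add_eq_mul,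
        show scaleA Na b + (scaleA k b + skew hf.involutive (l * ((b : F) * a))) = 0 from Subtype.ext (by
          rw [AddSubgroup.coe_add, AddSubgroup.coe_add, coe_scaleA, coe_scaleA, coe_skew,
            AddSubgroup.coe_zero]
          show a * σ a * (b : F) + ((k : F) * b + _) = 0
          rw [map_mul, map_mul, mem_anti.1 b.2, ha, map_sub, hf.involutive]
          linear_combination (b : F) * hα),
        AddChar.map_zero_eq_one]
    · rw [hy.1.2] at h
      exact smul_left_injective ℂ hy0 (h.trans (one_smul ℂ y).symm)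

/-- The bound. -/
theorem bnd_le (m : ℕ) : ∀ (X : Submodule F (ι → F)), Nondeg hf X → Module.finrank F X = m → 3 ≤ m →
    ∀ (W : Submodule ℂ V), Stable hf ρ X W → ∀ (e : ι → F) (hee : f e e = 0), e ∈ X → e ≠ 0 →
      (∃ c x, x ∈ W ∧ rootRep hf ρ e hee c x ≠ x) →
      bnd (Nat.card (fixedField σ)) m ≤ Module.finrank ℂ W := by
  induction m using Nat.strong_induction_on with
  | _ m ih =>
    intro X hX hm h3 W hW e hee he he0 ⟨c, x, hx, hcx⟩
    obtain ⟨j, rfl⟩ : ∃ j, m = j + 3 := ⟨m - 3, by omega⟩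
    rcases Nat.eq_zero_or_pos j with rfl | hj
    · have h := step_le hf ρ hX hW (by omega) he he0 hee hx hcx
      rw [hm, show 0 + 3 - 2 = 1 from rfl] at h
      show (Nat.card (fixedField σ) - 1) * Nat.card (fixedField σ) ^ 1 + 0 ≤ _
      omega
    obtain ⟨u, huu, hu, hu0, hue, ⟨c₁, x₁, hx₁, hcx₁⟩, c₂, y, hy, hcy⟩ :=
      exists_good hf ρ hX hW (by omega) he he0 hee hx hcx
    have h := step_le hf ρ hX hW (by omega) hu hu0 huu hx₁ hcx₁
    rw [hm, show j + 3 - 2 = j + 1 by omega] at h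
    -- a partner of u orthogonal to e
    obtain ⟨d₀, hd₀, hud₀, hd₀d₀⟩ := exists_partner hf hX hu hu0 huu
    obtain ⟨hPn, hP2⟩ := nondeg_pair hf huu hd₀d₀ hud₀
    have hPX : Submodule.span F ({u, d₀} : Set (ι → F)) ≤ X :=
      Submodule.span_le.2 (by rintro v (rfl | rfl) <;> assumption)
    have heu : f e u = 0 := (f_eq_zero_comm hf).1 hue
    set v := e - f e d₀ • u with hv
    have hd₀u : f d₀ u = 1 := by rw [hf.herm, hud₀, map_one]
    have hvv : f v v = 0 := by
      simp only [hv, sub_left hf, sub_right hf, hf.smul_left, smul_right hf, hee, huu, hue, heu, mul_zero,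
        sub_zero]
    have hvY : v ∈ X ⊓ orth hf (Submodule.span F ({u, d₀} : Set (ι → F))) := by
      refine ⟨X.sub_mem he (X.smul_mem _ hu), fun z hz => ?_⟩
      obtain ⟨r, s, rfl⟩ := Submodule.mem_span_pair.1 hz
      simp only [hv, hf.add_left, hf.smul_left, sub_right hf, smul_right hf, hue, huu, hd₀u, mul_zero,
        mul_one, sub_zero, zero_add]
      rw [hf.herm d₀ e, sub_self, mul_zero]
    have hv0 : v ≠ 0 := fun hv0 => by
      refine hcy ?_
      have he' : e = f e d₀ • u := sub_eq_zero.1 hv0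
      have hau : f (f e d₀ • u) (f e d₀ • u) = 0 := by rw [← he', hee]
      have hN : σ (f e d₀ * σ (f e d₀)) = f e d₀ * σ (f e d₀) := by rw [map_mul, hf.involutive, mul_comm]
      rw [show rootRep hf ρ e hee c₂ = rootRep hf ρ u huu (scaleA ⟨_, hN⟩ c₂) from congrArg ρ (Subtype.ext (by
          show htv hf e hee c₂ = htv hf u huu (f e d₀ * σ (f e d₀) * c₂)
          rw [UnitarySimple.htv_congr hf he' hee hau, htv_smul hf u huu])),
        hy.2, AddChar.one_apply, one_smul]
    obtain ⟨w, hw, hvw, hww⟩ := exists_partner hf (nondeg_inf_orth hf hPn hX hPX) hvY hv0 hvv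
    have huw : f u w = 0 := hw.2 u (Submodule.subset_span (Set.mem_insert _ _))
    have hd₀w : f d₀ w = 0 := hw.2 d₀ (Submodule.subset_span (Set.mem_insert_of_mem _ rfl))
    set d := d₀ + (-σ (f e d₀)) • w with hd
    have hud : f u d = 1 := by rw [hd, add_right hf, smul_right hf, huw, hud₀, mul_zero, add_zero]
    have hdd : f d d = 0 := by
      simp only [hd, hf.add_left, add_right hf, hf.smul_left, smul_right hf, hd₀d₀, hww, hd₀w,
        (f_eq_zero_comm hf).1 hd₀w, mul_zero, add_zero]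
    have hew' : f e w = 1 := by
      have : e = v + f e d₀ • u := by rw [hv, sub_add_cancel]
      rw [this, hf.add_left, hf.smul_left, huw, hvw, mul_zero, add_zero]
    have hed : f e d = 0 := by
      rw [hd, add_right hf, smul_right hf, hew', map_neg, hf.involutive]
      ring
    have hdX : d ∈ X := X.add_mem hd₀ (X.smul_mem _ hw.1)
    obtain ⟨hQn, hQ2⟩ := nondeg_pair hf huu hdd hud
    set Q := Submodule.span F ({u, d} : Set (ι → F)) with hQ
    have hQX : Q ≤ X := Submodule.span_le.2 (by rintro v (rfl | rfl) <;> assumption)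
    have heY : e ∈ X ⊓ orth hf Q := ⟨he, fun z hz => by
      obtain ⟨r, s, rfl⟩ := Submodule.mem_span_pair.1 hz
      rw [hf.add_left, hf.smul_left, hf.smul_left, hue, (f_eq_zero_comm hf).1 hed]
      ring⟩
    have hYn := nondeg_inf_orth hf hQn hX hQX
    have hY : Module.finrank F ↥(X ⊓ orth hf Q) = j + 1 := by
      have := finrank_inf_orth_add hf hQn hQX
      omega
    show (Nat.card (fixedField σ) - 1) * Nat.card (fixedField σ) ^ (j + 1) + bnd _ (j + 1) ≤ _
    suffices bnd (Nat.card (fixedField σ)) (j + 1) ≤ Module.finrank ℂ (eig (rootRep hf ρ u huu) W 1) by omega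
    have huY : u ∈ orth hf (X ⊓ orth hf Q) := fun z hz =>
      (f_eq_zero_comm hf).1 (hz.2 u (Submodule.subset_span (Set.mem_insert _ _)))
    rcases Nat.lt_or_ge (j + 1) 3 with hj2 | hj2
    · -- dimension four: the torus moves the characters of the root group at e around
      obtain rfl : j = 1 := by omega
      have : Fintype F := Fintype.ofFinite F
      have : Fintype (anti σ) := Fintype.ofFinite _
      have hW0 : ∀ c, ∀ y ∈ eig (rootRep hf ρ u huu) W 1,
          rootRep hf ρ e hee c y ∈ eig (rootRep hf ρ u huu) W 1 := fun c y hy =>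
        eig_mem hf ρ hW huu (tr hf e hee c) (fixes_htv hf he hee c) (by rw [mv_tr, hue]; simp) y hy
      obtain ⟨χ, hχ, h0⟩ := exists_char hW0 hy hcy
      obtain ⟨w', hw', hew'', hw'w'⟩ := exists_partner hf hYn heY he0 hee
      have huw' : f u w' = 0 := hw'.2 u (Submodule.subset_span (Set.mem_insert _ _))
      have hdw' : f d w' = 0 := hw'.2 d (Submodule.subset_span (Set.mem_insert_of_mem _ rfl))
      have hscale : ∀ a : F, a ≠ 0 → ∃ g : sug f, mv g.1 e = a • e ∧
          ∀ x ∈ eig (rootRep hf ρ u huu) W 1, ρ g x ∈ eig (rootRep hf ρ u huu) W 1 := fun a ha => by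
        obtain ⟨g, hg, hgu, hge⟩ := exists_torus_two hf hu hdX he hw'.1 huu hdd hud hee hw'w' hew''
          hue huw' ((f_eq_zero_comm hf).1 hed) hdw' ha
        refine ⟨g, hge, fun x hx => ⟨hW g hg x hx.1, fun c => ?_⟩⟩
        have hau : f (a • u) (a • u) = 0 := by rw [hf.smul_left, smul_right hf, huu, mul_zero, mul_zero]
        have hN : σ (a * σ a) = a * σ a := by rw [map_mul, hf.involutive, mul_comm]
        rw [rootRep_conj hf ρ g hau huu (by rw [mv_smul, hgu, smul_smul, mul_inv_cancel₀ ha, one_smul]) c,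
          show rootRep hf ρ (a • u) hau c = rootRep hf ρ u huu (scaleA ⟨_, hN⟩ c) from
            congrArg ρ (Subtype.ext (htv_smul hf u huu a (c : F))),
          hx.2, map_smul]
        simp
      have hb := orbit_le hf ρ hee hW0 hχ (r := 1) fun k hk => by
        refine Nat.one_le_iff_ne_zero.2 fun h => ?_
        exact eig_scale_ne_bot hf ρ hee hscale h0 k hk (Submodule.finrank_eq_zero.1 h)
      show Nat.card (fixedField σ) - 1 ≤ _
      omega
    · exact ih (j + 1) (by omega) _ hYn hY hj2 _ (stable_eig hf ρ hW inf_le_left huu huY 1) e hee heY he0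
        ⟨c₂, y, hy, hcy⟩

end Cfsg.Agent.UnitaryMinDeg
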