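/-
The degree bound for the standard groups SU_n(q).
-/
import Cfsg.Agent.Lib.MinDegree.Unitary
import Cfsg.Agent.Lib.Classical.UnitaryStd
import Mathlib.RepresentationTheory.Irreducible

set_option autoImplicit false

namespace Cfsg.Agent.UnitaryMinDeg

open scoped Matrix
open Matrix Cfsg.Agent.Transvec Cfsg.Agent.Transvec.Herm Cfsg.Agent.UnitarySimple Cfsg.Agent.UnitaryStd

variable {F : Type*} [Field F] [Fintype F]

theorem exists_nontrivial_transvection {n q : ℕ} (hn : 3 ≤ n) {σ : F ≃+* F}
    (hf : Geo.IsUnitaryForm σ (hermForm n F q)) (hq : n = 3 → 3 ≤ Nat.card (fixedField σ))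
    {V : Type*} [AddCommGroup V] [Module ℂ V] (ρ : Representation ℂ (Cfsg.SU n F q) V) (hρ : ∃ g, ρ g ≠ 1) :
    ∃ (e : Fin n → F) (hee : hermForm n F q e e = 0), e ≠ 0 ∧
      ∃ c x, rootRep hf (ρ.comp suEquiv.symm.toMonoidHom) e hee c x ≠ x := by
  by_contra h
  push Not at h
  obtain ⟨g, hg⟩ := hρ
  refine hg ?_
  clear hg
  induction (closure_eq_top hf hn hq).ge (Subgroup.mem_top g) using Subgroup.closure_induction with
  | mem A hA =>
    obtain ⟨v, c, hv, hA'⟩ := hA
    rcases eq_or_ne v 0 with rfl | hv0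
    · rw [show A = 1 from Subtype.ext (Subtype.ext (by rw [hA']; simp [Cfsg.unitaryTransvection])), map_one]
    have hc : σ c = -c := anti_of_mem hf A hv hv0 hA'
    refine LinearMap.ext fun x => ?_
    have hx := h v hv hv0 ⟨c, hc⟩ x
    have e : suEquiv.symm (tr hf v hv ⟨c, hc⟩) = A := suEquiv.injective (by
      rw [MulEquiv.apply_symm_apply]
      refine Subtype.ext (ext_mv fun z => ?_)
      rw [mv_tr]
      show _ = (A : SpecialLinearGroup (Fin n) F).1 *ᵥ z
      rw [hA', unitaryTransvection_mulVec])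
    rw [rootRep_apply] at hx
    change ρ (suEquiv.symm (tr hf v hv ⟨c, hc⟩)) x = x at hx
    rw [e] at hx
    exact hx
  | one => exact map_one ρ
  | mul a b _ _ ha hb => rw [map_mul, ha, hb, one_mul]
  | inv a _ ha =>
    have := congrArg ρ (inv_mul_cancel a)
    rwa [map_mul, map_one, ha, mul_one] at this

/-- Every irreducible representation of degree at least two has degree at least the bound. -/
theorem le_degree {n q : ℕ} (hF : Fintype.card F = q ^ 2) (hn : 3 ≤ n) (hex : (n, q) ≠ (3, 2)) {k : ℕ}
    (ρ : Representation ℂ (Cfsg.SU n F q) (Fin k → ℂ)) (hirr : ρ.IsIrreducible) (hk : 2 ≤ k) :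
    bnd q n ≤ k := by
  obtain ⟨σ, -, hf, hq⟩ := exists_setup (F := F) (n := n) hF (by omega)
  have hq3 : n = 3 → 3 ≤ Nat.card (fixedField σ) := fun h => by
    have h2 : 2 ≤ q := by
      have := hq ▸ (Finite.one_lt_card : 1 < Nat.card (fixedField σ))
      omega
    rw [hq]
    rcases Nat.eq_or_lt_of_le h2 with h' | h'
    · exact absurd (Prod.ext h h'.symm) hex
    · omega
  have hne : ∃ g, ρ g ≠ 1 := by
    by_contra hall
    push Not at hall
    let x : Fin k → ℂ := Pi.single ⟨0, by omega⟩ 1
    let S : Subrepresentation ρ :=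
      { toSubmodule := Submodule.span ℂ {x}
        apply_mem_toSubmodule := fun g v hv => by rw [hall g]; exact hv }
    haveI := hirr
    rcases IsSimpleOrder.eq_bot_or_eq_top S with h | h
    · have h' : Submodule.span ℂ {x} = ⊥ := congrArg Subrepresentation.toSubmodule h
      rw [Submodule.span_singleton_eq_bot] at h'
      have := congrFun h' ⟨0, by omega⟩
      simp [x] at this
    · have h' : Submodule.span ℂ {x} = ⊤ := congrArg Subrepresentation.toSubmodule h
      have h1 : x ≠ 0 := fun hx => by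
        have := congrFun hx ⟨0, by omega⟩
        simp [x] at this
      have h2 := finrank_span_singleton (K := ℂ) h1
      rw [h', finrank_top, Module.finrank_pi, Fintype.card_fin] at h2
      omega
  obtain ⟨e, hee, he0, c, x, hcx⟩ := exists_nontrivial_transvection hn hf hq3 ρ hne
  have h := bnd_le hf (ρ.comp suEquiv.symm.toMonoidHom) n ⊤ (nondeg_top hf)
    (by rw [finrank_top, Module.finrank_pi, Fintype.card_fin]) hn ⊤ (fun _ _ _ _ => Submodule.mem_top) e hee
    Submodule.mem_top he0 ⟨c, x, Submodule.mem_top, hcx⟩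
  rwa [hq, finrank_top, Module.finrank_pi, Fintype.card_fin] at h

end Cfsg.Agent.UnitaryMinDeg
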