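/-
The odd part of the Weil representation of Sp_{2n}(q), q odd. The intertwining operators are normalised by
the quotient of their determinants on the even and on the odd functions.
-/
import Cfsg.Agent.Lib.MinDegree.SympOdd
import Cfsg.Agent.Lib.Transvec.SympStd

set_option autoImplicit false

namespace Cfsg.Agent.WeilRep

open Matrix Finset
open scoped commutatorElement

variable {F : Type*} [Field F] [Fintype F] [DecidableEq F] {n : ℕ}

/-- Complex functions on F^n. -/
abbrev Fn (F : Type*) (n : ℕ) : Type _ := (Fin n → F) → ℂ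

/-- The phase space. -/
abbrev Ph (F : Type*) (n : ℕ) : Type _ := Fin n ⊕ Fin n → F

variable (ψ : AddChar F ℂ)

/-- The Heisenberg operators. -/
def D (v : Ph F n) : Module.End ℂ (Fn F n) where
  toFun f x := ψ ((v ∘ Sum.inl) ⬝ᵥ x + 2⁻¹ * ((v ∘ Sum.inr) ⬝ᵥ (v ∘ Sum.inl))) * f (x + v ∘ Sum.inr)
  map_add' f g := funext fun x => mul_add _ _ _
  map_smul' c f := funext fun x => by simp only [Pi.smul_apply, smul_eq_mul, RingHom.id_apply]; ring

omit [Fintype F] [DecidableEq F] in
theorem D_apply (v : Ph F n) (f : Fn F n) (x : Fin n → F) :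
    D ψ v f x =
      ψ ((v ∘ Sum.inl) ⬝ᵥ x + 2⁻¹ * ((v ∘ Sum.inr) ⬝ᵥ (v ∘ Sum.inl))) * f (x + v ∘ Sum.inr) := rfl

omit [Fintype F] [DecidableEq F] in
theorem sympForm_eq_dot (u v : Ph F n) : Cfsg.sympForm n F u v =
    (u ∘ Sum.inr) ⬝ᵥ (v ∘ Sum.inl) - (u ∘ Sum.inl) ⬝ᵥ (v ∘ Sum.inr) := by
  rw [Cfsg.Agent.Transvec.sympForm_eq_sum, dotProduct, dotProduct, Finset.sum_sub_distrib]
  rfl

variable (h2 : (2 : F) ≠ 0)
include h2

omit [Fintype F] [DecidableEq F] in
theorem D_mul (v w : Ph F n) :
    D ψ v * D ψ w = ψ (2⁻¹ * Cfsg.sympForm n F v w) • D ψ (v + w) := by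
  refine LinearMap.ext fun f => funext fun x => ?_
  rw [Module.End.mul_apply, D_apply, D_apply, LinearMap.smul_apply, Pi.smul_apply, smul_eq_mul, D_apply,
    sympForm_eq_dot, ← mul_assoc, ← mul_assoc, ← AddChar.map_add_eq_mul, ← AddChar.map_add_eq_mul,
    show (v + w) ∘ Sum.inl = v ∘ Sum.inl + w ∘ Sum.inl from rfl,
    show (v + w) ∘ Sum.inr = v ∘ Sum.inr + w ∘ Sum.inr from rfl, add_assoc x]
  congr 2
  simp only [add_dotProduct, dotProduct_add, dotProduct_comm (w ∘ Sum.inl) (v ∘ Sum.inr),
    dotProduct_comm (v ∘ Sum.inl) (w ∘ Sum.inr)]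
  field_simp
  ring

omit [Fintype F] [DecidableEq F] h2 in
theorem D_zero : D ψ (0 : Ph F n) = 1 := by
  refine LinearMap.ext fun f => funext fun x => ?_
  rw [D_apply, show (0 : Ph F n) ∘ Sum.inl = 0 from rfl, show (0 : Ph F n) ∘ Sum.inr = 0 from rfl]
  simp

omit [Fintype F] [DecidableEq F] h2 in
theorem form_self (v : Ph F n) : Cfsg.sympForm n F v v = 0 :=
  (Cfsg.Agent.Transvec.sympForm_isSymplectic n F).alternating v

omit [Fintype F] [DecidableEq F] in
theorem D_mul_neg (v : Ph F n) : D ψ v * D ψ (-v) = 1 := by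
  rw [D_mul ψ h2, add_neg_cancel, D_zero, sympForm_eq_dot,
    show (-v) ∘ Sum.inl = -(v ∘ Sum.inl) from rfl, show (-v) ∘ Sum.inr = -(v ∘ Sum.inr) from rfl,
    dotProduct_neg, dotProduct_neg, dotProduct_comm, sub_self, mul_zero, AddChar.map_zero_eq_one, one_smul]

omit [Fintype F] [DecidableEq F] in
theorem D_comm (v w : Ph F n) :
    D ψ v * D ψ w = ψ (Cfsg.sympForm n F v w) • (D ψ w * D ψ v) := by
  rw [D_mul ψ h2, D_mul ψ h2, smul_smul, ← AddChar.map_add_eq_mul, add_comm w v,
    (Cfsg.Agent.Transvec.sympForm_isSymplectic n F).skew w v]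
  congr 2
  field_simp
  ring

variable (hψ : ψ ≠ 1)
include hψ

/-- The Heisenberg operators are linearly independent. -/
theorem D_indep : LinearIndependent ℂ fun v : Ph F n => D ψ v := by
  let sf : Ph F n → Ph F n →+ F := fun w =>
    { toFun := fun u => Cfsg.sympForm n F u w
      map_zero' := by simp [sympForm_eq_dot, show (0 : Ph F n) ∘ Sum.inl = 0 from rfl,
        show (0 : Ph F n) ∘ Sum.inr = 0 from rfl]
      map_add' := fun a b => (Cfsg.Agent.Transvec.sympForm_isSymplectic n F).bilinear.add_left a b w }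
  let c : Ph F n → Multiplicative (Ph F n) →* ℂ := fun w => (ψ.compAddMonoidHom (sf w)).toMonoidHom
  have hc : Function.Injective c := by
    intro w w' h
    by_contra hne
    obtain ⟨⟨x, hx⟩, -⟩ := (Cfsg.Agent.Transvec.sympForm_isSymplectic n F).nondegenerate (w - w')
      (sub_ne_zero.2 hne)
    obtain ⟨t, ht⟩ := AddChar.ne_one_iff.1 hψ
    have hb := (Cfsg.Agent.Transvec.sympForm_isSymplectic n F).bilinear
    set u := (t / Cfsg.sympForm n F x (w - w')) • x
    have h' : ψ (Cfsg.sympForm n F u w) = ψ (Cfsg.sympForm n F u w') :=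
      DFunLike.congr_fun h (Multiplicative.ofAdd u)
    have hu : Cfsg.sympForm n F u w = t + Cfsg.sympForm n F u w' := by
      have h1 : Cfsg.sympForm n F u (w - w') = t := by rw [hb.smul_left, div_mul_cancel₀ _ hx]
      have h3 := hb.add_right u (w - w') w'
      rw [sub_add_cancel] at h3
      rw [h3, h1]
    rw [hu, AddChar.map_add_eq_mul] at h'
    exact ht ((mul_eq_right₀ (IsUnit.ne_zero (AddChar.val_isUnit ψ _))).1 h')
  refine Cfsg.Agent.Heisenberg.linearIndependent_eigen
    (fun p : Multiplicative (Ph F n) =>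
      { toFun := fun T => D ψ p.toAdd * T * D ψ (-p.toAdd)
        map_add' := fun S T => by rw [mul_add, add_mul]
        map_smul' := fun d T => by rw [RingHom.id_apply, mul_smul_comm, smul_mul_assoc] }) c hc _
    (fun v h => ?_) fun p w => ?_
  · have := D_mul_neg ψ h2 v
    rw [h, zero_mul] at this
    exact one_ne_zero this.symm
  · show D ψ p.toAdd * D ψ w * D ψ (-p.toAdd) = ψ (Cfsg.sympForm n F p.toAdd w) • D ψ w
    rw [D_comm ψ h2, smul_mul_assoc, mul_assoc, D_mul_neg ψ h2, mul_one]

theorem D_span : Submodule.span ℂ (Set.range fun v : Ph F n => D ψ v) = ⊤ := by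
  refine (D_indep ψ h2 hψ).span_eq_top_of_card_eq_finrank' ?_
  rw [Module.finrank_linearMap, Module.finrank_pi, Fintype.card_fun, Fintype.card_fun, Fintype.card_sum,
    Fintype.card_fin, pow_add]

/-- An operator commuting with the Heisenberg operators is a scalar. -/
theorem exists_scalar {A : Module.End ℂ (Fn F n)} (hA : ∀ v, A * D ψ v = D ψ v * A) :
    ∃ c : ℂ, A = c • 1 := by
  have hall : ∀ T, A * T = T * A := fun T => by
    have hT : T ∈ Submodule.span ℂ (Set.range fun v : Ph F n => D ψ v) := D_span ψ h2 hψ ▸ Submodule.mem_top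
    induction hT using Submodule.span_induction with
    | mem x hx => obtain ⟨v, rfl⟩ := hx; exact hA v
    | zero => rw [mul_zero, zero_mul]
    | add x y _ _ hx hy => rw [mul_add, add_mul, hx, hy]
    | smul a x _ hx => rw [mul_smul_comm, smul_mul_assoc, hx]
  refine ⟨A (Pi.single 0 1) 0, LinearMap.ext fun g => ?_⟩
  have h := LinearMap.congr_fun (hall ((LinearMap.proj (0 : Fin n → F)).smulRight g)) (Pi.single 0 1)
  simpa using h

omit h2 hψ

/-- The action on the phase space. -/
abbrev act (g : symplecticGroup (Fin n) F) (v : Ph F n) : Ph F n :=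
  (g : Matrix (Fin n ⊕ Fin n) (Fin n ⊕ Fin n) F) *ᵥ v

/-- A intertwines the Heisenberg operators with their transforms by g. -/
def Inter (g : symplecticGroup (Fin n) F) (A : Module.End ℂ (Fn F n)) : Prop :=
  ∀ v, A * D ψ v = D ψ (act g v) * A

theorem act_act_inv (g : symplecticGroup (Fin n) F) (v : Ph F n) : act g (act g⁻¹ v) = v := by
  show g.1 *ᵥ ((g⁻¹ : symplecticGroup (Fin n) F).1 *ᵥ v) = v
  rw [mulVec_mulVec, ← Submonoid.coe_mul, mul_inv_cancel, Submonoid.coe_one, one_mulVec]

theorem inter_mul {g g' : symplecticGroup (Fin n) F} {A A' : Module.End ℂ (Fn F n)}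
    (hA : Inter ψ g A) (hA' : Inter ψ g' A') : Inter ψ (g * g') (A * A') := fun v => by
  rw [mul_assoc, hA', ← mul_assoc, hA, mul_assoc, show act (g * g') v = act g (act g' v) from
    (mulVec_mulVec _ _ _).symm]

theorem inter_one : Inter ψ (1 : symplecticGroup (Fin n) F) 1 := fun v => by
  rw [one_mul, mul_one, show act (1 : symplecticGroup (Fin n) F) v = v from one_mulVec v]

include h2 hψ

/-- Intertwining operators exist and are invertible. -/
theorem exists_inter (g : symplecticGroup (Fin n) F) :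
    ∃ A : (Module.End ℂ (Fn F n))ˣ, Inter ψ g (A : Module.End ℂ (Fn F n)) := by
  have hinv : ∀ u v, Cfsg.sympForm n F (act g u) (act g v) = Cfsg.sympForm n F u v :=
    (ClassicalSp.mem_iff_preserves g.1).1 g.2
  let AX : Module.End ℂ (Fn F n) → Module.End ℂ (Fn F n) := fun X => ∑ v, D ψ (act g v) * X * D ψ (-v)
  have hAX : ∀ X, Inter ψ g (AX X) := fun X w => by
    simp only [AX, Finset.sum_mul, Finset.mul_sum]
    refine (Fintype.sum_equiv (Equiv.addRight w) _ _ fun u => ?_).symm
    rw [Equiv.coe_addRight, mul_assoc _ (D ψ (-(u + w))), D_mul ψ h2, ← mul_assoc, ← mul_assoc,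
      D_mul ψ h2, mul_smul_comm, smul_mul_assoc, smul_mul_assoc, hinv,
      show act g w + act g u = act g (u + w) by rw [add_comm]; exact (mulVec_add _ _ _).symm,
      show -(u + w) + w = -u by abel]
    congr 2
    have hb := (Cfsg.Agent.Transvec.sympForm_isSymplectic n F)
    rw [show -(u + w) = (-1 : F) • (u + w) by rw [neg_one_smul], hb.bilinear.smul_left, hb.bilinear.add_left,
      form_self, hb.skew w u]
    ring
  obtain ⟨X, hX⟩ : ∃ X, AX X ≠ 0 := by
    by_contra hc
    push Not at hc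
    have hli : LinearIndependent ℂ fun v : Ph F n => D ψ (act g v) :=
      (D_indep ψ h2 hψ).comp _ fun a b h => by
        have := congrArg (act g⁻¹) h
        simpa only [act, mulVec_mulVec, ← Submonoid.coe_mul, inv_mul_cancel, Submonoid.coe_one, one_mulVec]
          using this
    set f : Fn F n := Pi.single 0 1
    have h0 : ∑ v : Ph F n, D ψ (-v) f 0 • D ψ (act g v) = 0 := LinearMap.ext fun g' => by
      have := LinearMap.congr_fun (hc ((LinearMap.proj (0 : Fin n → F)).smulRight g')) f
      simpa [AX, LinearMap.sum_apply] using this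
    have := Fintype.linearIndependent_iff.1 hli _ h0 0
    rw [neg_zero, D_zero] at this
    simp [f] at this
  refine ⟨(?_ : IsUnit (AX X)).unit, by rw [IsUnit.unit_spec]; exact hAX X⟩
  suffices hinj : Function.Injective (AX X) from
    (Module.End.isUnit_iff _).2 ⟨hinj, LinearMap.injective_iff_surjective.1 hinj⟩
  rw [← LinearMap.ker_eq_bot, LinearMap.ker_eq_bot']
  intro x hx
  by_contra hx0
  have hall : ∀ T : Module.End ℂ (Fn F n), AX X (T x) = 0 := fun T => by
    have hT : T ∈ Submodule.span ℂ (Set.range fun v : Ph F n => D ψ v) := D_span ψ h2 hψ ▸ Submodule.mem_top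
    induction hT using Submodule.span_induction with
    | mem T hT =>
      obtain ⟨v, rfl⟩ := hT
      rw [← Module.End.mul_apply, hAX X v, Module.End.mul_apply, hx, map_zero]
    | zero => rw [LinearMap.zero_apply, map_zero]
    | add S T _ _ hS hT => rw [LinearMap.add_apply, map_add, hS, hT, add_zero]
    | smul a T _ hT => rw [LinearMap.smul_apply, map_smul, hT, smul_zero]
  obtain ⟨y, hy⟩ := Function.ne_iff.1 hx0
  refine hX (LinearMap.ext fun g' => ?_)
  have h := hall ((LinearMap.proj y).smulRight ((x y)⁻¹ • g'))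
  simpa [smul_smul, mul_inv_cancel₀ hy] using h

omit h2 hψ

variable (F n) in
/-- Parity. -/
def par : Module.End ℂ (Fn F n) where
  toFun f x := f (-x)
  map_add' _ _ := rfl
  map_smul' _ _ := rfl

theorem par_par : par F n * par F n = 1 :=
  LinearMap.ext fun f => funext fun x => congrArg f (neg_neg x)

theorem par_D (v : Ph F n) : par F n * D ψ v = D ψ (-v) * par F n := by
  refine LinearMap.ext fun f => funext fun x => ?_
  rw [Module.End.mul_apply, Module.End.mul_apply, D_apply]
  show D ψ v f (-x) = _ * f (-(x + (-v) ∘ Sum.inr))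
  rw [D_apply, show (-v) ∘ Sum.inl = -(v ∘ Sum.inl) from rfl, show (-v) ∘ Sum.inr = -(v ∘ Sum.inr) from rfl]
  simp only [neg_dotProduct, dotProduct_neg, neg_add, neg_neg]

include h2

theorem trace_par : LinearMap.trace ℂ (Fn F n) (par F n) = 1 := by
  rw [LinearMap.trace_eq_matrix_trace ℂ (Pi.basisFun ℂ (Fin n → F))]
  have hd : ∀ i : Fin n → F, LinearMap.toMatrix (Pi.basisFun ℂ (Fin n → F)) (Pi.basisFun ℂ (Fin n → F))
      (par F n) i i = if i = 0 then 1 else 0 := fun i => by
    rw [LinearMap.toMatrix_apply, Pi.basisFun_repr, Pi.basisFun_apply]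
    show (Pi.single i (1 : ℂ) : Fn F n) (-i) = _
    rw [Pi.single_apply]
    refine if_congr ⟨fun h => ?_, fun h => by rw [h, neg_zero]⟩ rfl rfl
    funext j
    have := congrFun h j
    simp only [Pi.neg_apply] at this
    exact (mul_eq_zero.1 (show (2 : F) * i j = 0 by linear_combination -this)).resolve_left h2
  simp only [Matrix.trace, Matrix.diag_apply, hd]
  simp

include hψ

/-- Intertwining operators commute with parity. -/
theorem comm_par {g : symplecticGroup (Fin n) F} {A : (Module.End ℂ (Fn F n))ˣ}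
    (hA : Inter ψ g (A : Module.End ℂ (Fn F n))) :
    (A : Module.End ℂ (Fn F n)) * par F n = par F n * (A : Module.End ℂ (Fn F n)) := by
  set a := (A : Module.End ℂ (Fn F n))
  set b := ((A⁻¹ : (Module.End ℂ (Fn F n))ˣ) : Module.End ℂ (Fn F n))
  have hab : a * b = 1 := A.mul_inv
  have hba : b * a = 1 := A.inv_mul
  have hb : ∀ v, b * D ψ v = D ψ (act g⁻¹ v) * b := fun v => by
    have h := hA (act g⁻¹ v)
    rw [act_act_inv] at h
    calc b * D ψ v = b * (D ψ v * a) * b := by rw [mul_assoc, mul_assoc, hab, mul_one]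
      _ = b * (a * D ψ (act g⁻¹ v)) * b := by rw [← h]
      _ = _ := by rw [← mul_assoc b a, hba, one_mul]
  obtain ⟨c, hc⟩ := exists_scalar ψ h2 hψ (A := a * par F n * b * par F n) fun v => by
    rw [mul_assoc _ (par F n), par_D, ← mul_assoc, mul_assoc (a * par F n) b, hb, ← mul_assoc,
      mul_assoc a (par F n), par_D, ← mul_assoc, hA,
      show act g (-(act g⁻¹ (-v))) = v by
        rw [show -(act g⁻¹ (-v)) = act g⁻¹ v by simp [act, mulVec_neg]]
        exact act_act_inv g v]
    simp only [mul_assoc]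
  have hc' : a * par F n * b = c • par F n := by
    have := congrArg (· * par F n) hc
    simpa [mul_assoc, par_par] using this
  have hc1 : c = 1 := by
    have h := congrArg (LinearMap.trace ℂ (Fn F n)) hc'
    rw [LinearMap.trace_mul_comm, ← mul_assoc, hba, one_mul, map_smul, trace_par h2, smul_eq_mul, mul_one] at h
    exact h.symm
  rw [hc1, one_smul] at hc'
  calc a * par F n = a * par F n * b * a := by rw [mul_assoc _ b, hba, mul_one]
    _ = _ := by rw [hc']

omit h2 hψ

variable (F n) in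
/-- The even and the odd functions. -/
def part (s : ℂ) : Submodule ℂ (Fn F n) := LinearMap.ker (par F n - s • 1)

omit [Fintype F] [DecidableEq F] in
theorem mem_part {s : ℂ} {f : Fn F n} : f ∈ part F n s ↔ par F n f = s • f := by
  rw [part, LinearMap.mem_ker, LinearMap.sub_apply, sub_eq_zero, LinearMap.smul_apply, Module.End.one_apply]

include h2 in
theorem two_finrank {s : ℂ} (hs : s * s = 1) :
    (2 * Module.finrank ℂ (part F n s) : ℂ) = (Fintype.card F ^ n : ℕ) + s := by
  have hp : LinearMap.IsProj (part F n s) ((2 : ℂ)⁻¹ • (1 + s • par F n)) := by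
    refine ⟨fun f => mem_part.2 ?_, fun f hf => ?_⟩
    · simp only [LinearMap.smul_apply, LinearMap.add_apply, Module.End.one_apply, map_smul, map_add,
        ← Module.End.mul_apply (par F n) (par F n) f, par_par, smul_add, smul_smul]
      match_scalars
      · linear_combination -(2 : ℂ)⁻¹ * hs
      · ring
    · rw [LinearMap.smul_apply, LinearMap.add_apply, Module.End.one_apply, LinearMap.smul_apply, mem_part.1 hf,
        smul_smul, hs, one_smul, ← two_smul ℂ f, smul_smul, inv_mul_cancel₀ two_ne_zero, one_smul]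
  rw [← hp.trace, map_smul, map_add, LinearMap.trace_one, map_smul, trace_par h2, Module.finrank_pi,
    Fintype.card_fun, Fintype.card_fin, smul_eq_mul, smul_eq_mul, mul_one, ← mul_assoc,
    mul_inv_cancel₀ two_ne_zero, one_mul]


variable (F n) in
/-- The operators commuting with parity. -/
abbrev Cent : Subgroup (Module.End ℂ (Fn F n))ˣ where
  carrier := {A | (A : Module.End ℂ (Fn F n)) * par F n = par F n * A}
  one_mem' := by simp
  mul_mem' {A B} (hA : (A : Module.End ℂ (Fn F n)) * par F n = par F n * A)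
      (hB : (B : Module.End ℂ (Fn F n)) * par F n = par F n * B) :=
    show ((A * B : (Module.End ℂ (Fn F n))ˣ) : Module.End ℂ (Fn F n)) * par F n = par F n * _ by
      rw [Units.val_mul, mul_assoc, hB, ← mul_assoc, hA, mul_assoc]
  inv_mem' {A} hA := show ((A⁻¹ : (Module.End ℂ (Fn F n))ˣ) : Module.End ℂ (Fn F n)) * par F n = _ from
    (Commute.units_inv_left (show Commute (A : Module.End ℂ (Fn F n)) (par F n) from hA)).eq

theorem cent_mem_part (s : ℂ) (A : Cent F n) {f : Fn F n} (hf : f ∈ part F n s) :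
    (A.1 : Module.End ℂ (Fn F n)) f ∈ part F n s := by
  rw [mem_part] at hf ⊢
  rw [← Module.End.mul_apply, ← A.2, Module.End.mul_apply, hf, map_smul]

/-- The restriction to a part. -/
def res (s : ℂ) : Cent F n →* Module.End ℂ (part F n s) where
  toFun A := (A.1 : Module.End ℂ (Fn F n)).restrict fun _ hf => cent_mem_part s A hf
  map_one' := LinearMap.ext fun _ => rfl
  map_mul' _ _ := LinearMap.ext fun _ => rfl

theorem res_apply (s : ℂ) (A : Cent F n) (f : part F n s) :
    ((res s A f : part F n s) : Fn F n) = (A.1 : Module.End ℂ (Fn F n)) f := rfl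

/-- The quotient of the determinants on the even and on the odd functions. -/
noncomputable def dlt : Cent F n →* ℂˣ :=
  (Units.map (LinearMap.det : Module.End ℂ (part F n 1) →* ℂ)).comp (res (1 : ℂ)).toHomUnits /
    (Units.map (LinearMap.det : Module.End ℂ (part F n (-1)) →* ℂ)).comp (res (-1 : ℂ)).toHomUnits


/-- Scalars. -/
noncomputable def scal (c : ℂˣ) : Cent F n :=
  ⟨Units.map (algebraMap ℂ (Module.End ℂ (Fn F n))).toMonoidHom c, Algebra.commutes (c : ℂ) (par F n)⟩

theorem scal_val (c : ℂˣ) : ((scal (F := F) (n := n) c).1 : Module.End ℂ (Fn F n)) = (c : ℂ) • 1 :=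
  Algebra.algebraMap_eq_smul_one _

include h2 in
theorem dlt_scal (c : ℂˣ) : dlt (scal (F := F) (n := n) c) = c := by
  have hr : ∀ s : ℂ, res s (scal (F := F) (n := n) c) = (c : ℂ) • 1 := fun s =>
    LinearMap.ext fun f => Subtype.ext (by rw [res_apply, scal_val]; rfl)
  have hE := two_finrank (F := F) (n := n) h2 (s := 1) (one_mul 1)
  have hO := two_finrank (F := F) (n := n) h2 (s := -1) (by ring)
  have hd : Module.finrank ℂ (part F n (1 : ℂ)) = Module.finrank ℂ (part F n (-1 : ℂ)) + 1 := by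
    have : ((Module.finrank ℂ (part F n (1 : ℂ)) : ℕ) : ℂ) = ((Module.finrank ℂ (part F n (-1 : ℂ)) + 1 : ℕ) : ℂ) := by
      push_cast
      linear_combination (hE - hO) / 2
    exact_mod_cast this
  refine Units.ext ?_
  simp only [dlt, MonoidHom.div_apply, MonoidHom.comp_apply, Units.val_div_eq_div_val, Units.coe_map,
    MonoidHom.coe_toHomUnits, hr, LinearMap.det_smul, map_one, mul_one, hd, pow_succ]
  exact mul_div_cancel_left₀ _ (pow_ne_zero _ c.ne_zero)

/-- The graph of the representation. -/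
def Gam : Subgroup (symplecticGroup (Fin n) F × Cent F n) where
  carrier := {x | Inter ψ x.1 (x.2.1 : Module.End ℂ (Fn F n)) ∧ dlt x.2 = 1}
  one_mem' := ⟨inter_one ψ, map_one _⟩
  mul_mem' {x y} hx hy := ⟨inter_mul ψ hx.1 hy.1, by rw [Prod.snd_mul, map_mul, hx.2, hy.2, one_mul]⟩
  inv_mem' {x} hx := by
    refine ⟨fun v => ?_, by rw [Prod.snd_inv, map_inv, hx.2, inv_one]⟩
    have h := hx.1 (act x.1⁻¹ v)
    rw [act_act_inv] at h
    show ((x.2.1⁻¹ : (Module.End ℂ (Fn F n))ˣ) : Module.End ℂ (Fn F n)) * D ψ v =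
      D ψ (act x.1⁻¹ v) * ((x.2.1⁻¹ : (Module.End ℂ (Fn F n))ˣ) : Module.End ℂ (Fn F n))
    rw [Units.eq_mul_inv_iff_mul_eq, mul_assoc, ← h, ← mul_assoc, Units.inv_mul, one_mul]

include h2 hψ in
theorem bijective_fst :
    Function.Bijective ((MonoidHom.fst (symplecticGroup (Fin n) F) (Cent F n)).comp (Gam ψ).subtype) := by
  refine ⟨(injective_iff_map_eq_one _).2 ?_, fun g => ?_⟩
  · rintro ⟨⟨g, A⟩, hA, hd⟩ (rfl : g = 1)
    obtain ⟨c, hc⟩ := exists_scalar ψ h2 hψ (A := (A.1 : Module.End ℂ (Fn F n))) fun v => by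
      rw [hA v, show act (1 : symplecticGroup (Fin n) F) v = v from one_mulVec v]
    have hc0 : c ≠ 0 := fun h => A.1.ne_zero (by rw [hc, h, zero_smul])
    have hA' : A = scal (Units.mk0 c hc0) := Subtype.ext (Units.ext (by rw [hc, scal_val]; rfl))
    rw [hA', dlt_scal h2] at hd
    refine Subtype.ext (Prod.ext rfl ?_)
    show A = 1
    rw [hA', hd]
    exact Subtype.ext (Units.ext (by rw [scal_val, Units.val_one, one_smul]; rfl))
  · obtain ⟨A, hA⟩ := exists_inter ψ h2 hψ g
    let A' : Cent F n := ⟨A, comm_par ψ h2 hψ hA⟩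
    refine ⟨⟨(g, A' * scal (dlt A')⁻¹), fun v => ?_, by rw [map_mul, dlt_scal h2, mul_inv_cancel]⟩, rfl⟩
    rw [Subgroup.coe_mul, Units.val_mul, scal_val, mul_smul_comm, mul_one, smul_mul_assoc, mul_smul_comm]
    exact congrArg _ (hA v)

/-- The Weil representation. -/
noncomputable def weil : symplecticGroup (Fin n) F →* Cent F n :=
  ((MonoidHom.snd _ _).comp (Gam ψ).subtype).comp
    (MulEquiv.ofBijective _ (bijective_fst ψ h2 hψ)).symm.toMonoidHom

/-- Its odd part. -/
noncomputable def oddWeil : symplecticGroup (Fin n) F →* Module.End ℂ (part F n (-1)) :=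
  (res (-1 : ℂ)).comp (weil ψ h2 hψ)

include h2 hψ in
theorem weil_inter (g : symplecticGroup (Fin n) F) :
    Inter ψ g ((weil ψ h2 hψ g).1 : Module.End ℂ (Fn F n)) := by
  set e := MulEquiv.ofBijective _ (bijective_fst (n := n) ψ h2 hψ)
  have h1 : (e.symm g).1.1 = g := e.apply_symm_apply g
  have h3 := (e.symm g).2.1
  rwa [h1] at h3

include h2 hψ in
theorem oddWeil_ne_one (hn : 2 ≤ n) : ∃ g, oddWeil (n := n) ψ h2 hψ g ≠ 1 := by
  obtain ⟨t, ht⟩ := AddChar.ne_one_iff.1 hψ
  let i0 : Fin n := ⟨0, by omega⟩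
  let i1 : Fin n := ⟨1, by omega⟩
  have h01 : i1 ≠ i0 := by simp [i0, i1]
  set a : Fin n → F := Pi.single i0 1
  set S := Cfsg.Agent.SympEvenDeg.symSq a (-(2 * t))
  set g := Cfsg.Agent.SpDegree.jHom (Multiplicative.ofAdd S)
  let χ : (Fin n → F) → ℂ := fun x => ψ (-(2⁻¹ * (x ⬝ᵥ (S.1 *ᵥ x))))
  let Mop : Module.End ℂ (Fn F n) :=
    { toFun := fun f x => χ x * f x
      map_add' := fun f f' => funext fun x => mul_add _ _ _
      map_smul' := fun c f => funext fun x => by simp only [Pi.smul_apply, smul_eq_mul, RingHom.id_apply]; ring }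
  have hS : ∀ x y : Fin n → F, y ⬝ᵥ (S.1 *ᵥ x) = (S.1 *ᵥ y) ⬝ᵥ x := fun x y => by
    rw [dotProduct_mulVec, ← mulVec_transpose, show S.1ᵀ = S.1 from S.2]
  have hM : ∀ v, Mop * D ψ v = D ψ (act g v) * Mop := fun v => by
    refine LinearMap.ext fun f => funext fun x => ?_
    show χ x * D ψ v f x = D ψ (act g v) (Mop f) x
    rw [D_apply, D_apply]
    have hl : act g v ∘ Sum.inl = v ∘ Sum.inl + S.1 *ᵥ (v ∘ Sum.inr) := by
      funext i
      show (fromBlocks 1 S.1 0 1 *ᵥ v) (Sum.inl i) = _
      simp [fromBlocks_mulVec]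
    have hr : act g v ∘ Sum.inr = v ∘ Sum.inr := by
      funext i
      show (fromBlocks 1 S.1 0 1 *ᵥ v) (Sum.inr i) = _
      simp [fromBlocks_mulVec]
    rw [hl, hr]
    show χ x * _ = _ * (χ (x + v ∘ Sum.inr) * f (x + v ∘ Sum.inr))
    rw [← mul_assoc, ← mul_assoc]
    congr 1
    simp only [χ, ← AddChar.map_add_eq_mul]
    congr 1
    simp only [mulVec_add, dotProduct_add, add_dotProduct, ← hS x (v ∘ Sum.inr),
      dotProduct_comm x (S.1 *ᵥ (v ∘ Sum.inr)), ← hS (v ∘ Sum.inr) (v ∘ Sum.inr)]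
    field_simp
    ring
  refine ⟨g, fun h1 => ?_⟩
  have hW := weil_inter ψ h2 hψ g
  set W : Module.End ℂ (Fn F n) := ((weil ψ h2 hψ g).1 : Module.End ℂ (Fn F n))
  -- compare with the multiplication operator
  let Minv : Module.End ℂ (Fn F n) :=
    { toFun := fun f x => (χ x)⁻¹ * f x
      map_add' := fun f f' => funext fun x => mul_add _ _ _
      map_smul' := fun c f => funext fun x => by simp only [Pi.smul_apply, smul_eq_mul, RingHom.id_apply]; ring }
  have hχ0 : ∀ x, χ x ≠ 0 := fun x => IsUnit.ne_zero (AddChar.val_isUnit ψ _)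
  have hMinv : Minv * Mop = 1 := LinearMap.ext fun f => funext fun x => inv_mul_cancel_left₀ (hχ0 x) (f x)
  have hMinv' : Mop * Minv = 1 := LinearMap.ext fun f => funext fun x => mul_inv_cancel_left₀ (hχ0 x) (f x)
  obtain ⟨c, hc⟩ := exists_scalar ψ h2 hψ (A := Minv * W) fun v => by
    have h3 : Minv * D ψ (act g v) = D ψ v * Minv := by
      calc Minv * D ψ (act g v) = Minv * (D ψ (act g v) * Mop) * Minv := by
            rw [mul_assoc, mul_assoc, hMinv', mul_one]
        _ = Minv * (Mop * D ψ v) * Minv := by rw [hM]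
        _ = _ := by rw [← mul_assoc Minv Mop, hMinv, one_mul]
    rw [mul_assoc, hW, ← mul_assoc, h3, mul_assoc]
  have hWeq : W = c • Mop := by
    have := congrArg (Mop * ·) hc
    rwa [← mul_assoc, hMinv', one_mul, mul_smul_comm, mul_one] at this
  have hval : ∀ x : Fin n → F, x ≠ 0 → c * χ x = 1 := by
    intro x hx
    have hne : x ≠ -x := fun h => hx (funext fun j => by
      have := congrFun h j
      simp only [Pi.neg_apply] at this
      exact (mul_eq_zero.1 (show (2 : F) * x j = 0 by linear_combination this)).resolve_left h2)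
    set f : Fn F n := Pi.single x 1 - Pi.single (-x) 1
    have hf : f ∈ part F n (-1) := mem_part.2 (funext fun y => by
      show f (-y) = ((-1 : ℂ) • f) y
      simp only [f, Pi.smul_apply, Pi.sub_apply, Pi.single_apply, smul_eq_mul, neg_eq_iff_eq_neg, neg_neg]
      split_ifs <;> ring)
    have h4 := congrArg (fun T : Module.End ℂ (part F n (-1)) => ((T ⟨f, hf⟩ : part F n (-1)) : Fn F n) x) h1
    simp only [oddWeil, MonoidHom.comp_apply, res_apply, Module.End.one_apply] at h4
    change W f x = f x at h4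
    rw [hWeq] at h4
    have hfx : f x = 1 := by simp [f, hne]
    show c * χ x = 1
    have h5 : c * (χ x * f x) = f x := h4
    rwa [hfx, mul_one] at h5
  have ha : a ≠ 0 := by simp [a]
  have hb : (Pi.single i1 (1 : F) : Fin n → F) ≠ 0 := by simp
  have h6 := hval a ha
  have h7 := hval _ hb
  have hc0 : c ≠ 0 := left_ne_zero_of_mul_eq_one h6
  have h8 := mul_left_cancel₀ hc0 (h6.trans h7.symm)
  refine ht ?_
  have e1 : χ a = ψ t := by
    show ψ _ = ψ t
    congr 1
    simp [S, a, Cfsg.Agent.SympEvenDeg.symSq, vecMulVec_apply]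
    field_simp
  have e2 : χ (Pi.single i1 (1 : F)) = 1 := by
    show ψ _ = 1
    rw [← AddChar.map_zero_eq_one ψ]
    congr 1
    simp [S, a, Cfsg.Agent.SympEvenDeg.symSq, vecMulVec_apply, h01, h01.symm]
  rw [e1, e2] at h8
  exact h8

include h2 hψ in
/-- An irreducible representation of degree (q^n - 1)/2. -/
theorem exists_irreducible (hn : 2 ≤ n) :
    ∃ ρ : Representation ℂ (symplecticGroup (Fin n) F) (Fin ((Fintype.card F ^ n - 1) / 2) → ℂ),
      ρ.IsIrreducible := by
  set N := (Fintype.card F ^ n - 1) / 2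
  have hfr : 2 * Module.finrank ℂ (part F n (-1 : ℂ)) + 1 = Fintype.card F ^ n := by
    have h := two_finrank (F := F) (n := n) h2 (s := -1) (by ring)
    have : ((2 * Module.finrank ℂ (part F n (-1 : ℂ)) + 1 : ℕ) : ℂ) = ((Fintype.card F ^ n : ℕ) : ℂ) := by
      push_cast at h ⊢
      linear_combination h
    exact_mod_cast this
  let e : part F n (-1 : ℂ) ≃ₗ[ℂ] (Fin N → ℂ) :=
    LinearEquiv.ofFinrankEq _ _ (by rw [Module.finrank_pi, Fintype.card_fin]; omega)
  let ρ : Representation ℂ (symplecticGroup (Fin n) F) (Fin N → ℂ) :=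
    e.conjAlgEquiv ℂ |>.toMulEquiv.toMonoidHom.comp (oddWeil ψ h2 hψ)
  have hρne : ∃ g, ρ g ≠ 1 := by
    obtain ⟨g, hg⟩ := oddWeil_ne_one ψ h2 hψ hn
    exact ⟨g, fun h => hg ((e.conjAlgEquiv ℂ).injective (h.trans (map_one _).symm))⟩
  have hN : 0 < N := by
    have h1 : 2 ≤ Fintype.card F := Fintype.one_lt_card
    have : 2 ^ 2 ≤ Fintype.card F ^ n :=
      (Nat.pow_le_pow_left h1 2).trans (Nat.pow_le_pow_right (by omega) hn)
    omega
  haveI : Nonempty (Fin N) := ⟨⟨0, hN⟩⟩
  have hnt : Nontrivial (Subrepresentation ρ) := ⟨⊥, ⊤, fun h => by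
    have h' : (⊥ : Submodule ℂ (Fin N → ℂ)) = ⊤ := congrArg Subrepresentation.toSubmodule h
    exact bot_ne_top h'⟩
  refine ⟨ρ, ⟨fun S => ?_⟩⟩
  by_contra hS
  push Not at hS
  set U := S.toSubmodule
  have hU0 : U ≠ ⊥ := fun h => hS.1 (Subrepresentation.toSubmodule_injective h)
  have hU1 : U ≠ ⊤ := fun h => hS.2 (Subrepresentation.toSubmodule_injective h)
  let ρU : symplecticGroup (Fin n) F →* Module.End ℂ U :=
    { toFun := fun g => (ρ g).restrict (S.apply_mem_toSubmodule g)
      map_one' := LinearMap.ext fun x => Subtype.ext (by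
        show ρ 1 x.1 = x.1
        rw [map_one, Module.End.one_apply])
      map_mul' := fun a b => LinearMap.ext fun x => Subtype.ext (by
        show ρ (a * b) x.1 = ρ a (ρ b x.1)
        rw [map_mul, Module.End.mul_apply]) }
  let ρQ : symplecticGroup (Fin n) F →* Module.End ℂ ((Fin N → ℂ) ⧸ U) :=
    { toFun := fun g => U.mapQ U (ρ g) (S.apply_mem_toSubmodule g)
      map_one' := Submodule.linearMap_qext _ (LinearMap.ext fun x => by
        show Submodule.Quotient.mk (ρ 1 x) = Submodule.Quotient.mk x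
        rw [map_one, Module.End.one_apply])
      map_mul' := fun a b => Submodule.linearMap_qext _ (LinearMap.ext fun x => by
        show Submodule.Quotient.mk (ρ (a * b) x) = Submodule.Quotient.mk (ρ a (ρ b x))
        rw [map_mul, Module.End.mul_apply]) }
  have hlt := Submodule.finrank_lt hU1
  have hadd := Submodule.finrank_quotient_add_finrank U
  have hpos : 0 < Module.finrank ℂ U := Nat.pos_of_ne_zero fun h => hU0 (Submodule.finrank_eq_zero.1 h)
  rw [Module.finrank_pi, Fintype.card_fin] at hlt hadd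
  have hUtriv : ∀ g, ρU g = 1 := fun g => by
    by_contra hg
    have := Cfsg.Agent.SympOddDeg.le_degree h2 hn ρU ⟨g, hg⟩
    omega
  have hQtriv : ∀ g, ρQ g = 1 := fun g => by
    by_contra hg
    have := Cfsg.Agent.SympOddDeg.le_degree h2 hn ρQ ⟨g, hg⟩
    omega
  have hφU : ∀ g x, ρ g x - x ∈ U := fun g x =>
    (Submodule.Quotient.eq U).1 (LinearMap.congr_fun (hQtriv g) (Submodule.Quotient.mk x))
  have hcommρ : ∀ a b, ρ a * ρ b = ρ b * ρ a := fun a b => LinearMap.ext fun x => by
    have h1 : ρ a (ρ b x - x) = ρ b x - x :=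
      congrArg Subtype.val (LinearMap.congr_fun (hUtriv a) ⟨_, hφU b x⟩)
    have h3 : ρ b (ρ a x - x) = ρ a x - x :=
      congrArg Subtype.val (LinearMap.congr_fun (hUtriv b) ⟨_, hφU a x⟩)
    rw [map_sub, sub_eq_iff_eq_add] at h1 h3
    rw [Module.End.mul_apply, Module.End.mul_apply, h1, h3]
    abel
  have hker : commutator (symplecticGroup (Fin n) F) ≤ ρ.toHomUnits.ker := by
    rw [commutator_def, Subgroup.commutator_le]
    intro a _ b _
    rw [MonoidHom.mem_ker, map_commutatorElement, commutatorElement_eq_one_iff_mul_comm]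
    exact Units.ext (hcommρ a b)
  obtain ⟨g, hg⟩ := hρne
  have := hker (Cfsg.Agent.SympOddDeg.commutator_eq_top h2 hn ▸ Subgroup.mem_top g)
  exact hg (congrArg Units.val (MonoidHom.mem_ker.1 this))

end Cfsg.Agent.WeilRep
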